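/-
Kegel-Wielandt, coprime simple case: the context and first facts.
-/
import Cfsg.Agent.Lib.Perm.KWParts
import Cfsg.Agent.Lib.Char.Burnside

set_option autoImplicit false
set_option linter.style.haveILetI false
set_option linter.unusedSectionVars false

namespace Cfsg.Agent.Lib.Perm.KWCtx

open Subgroup Cfsg Cfsg.Agent.Lib.Core.Basic Cfsg.Agent.Lib.OddLocal.CN
  Cfsg.Agent.Lib.LocalStruct.PCoreOf Cfsg.Agent.Lib.LocalStruct.Basic
  Cfsg.Agent.Lib.LocalStruct.Comm Cfsg.Agent.Lib.Perm.KWParts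

variable {G : Type*} [Group G] [Finite G]

/-- `M` is factorized by `A` and `B`. -/
def Fac (A B M : Subgroup G) : Prop := ∀ g ∈ M, ∃ a ∈ A, a ∈ M ∧ ∃ b ∈ B, b ∈ M ∧ g = a * b

theorem Fac.symm {A B M : Subgroup G} (h : Fac A B M) : Fac B A M := by
  intro g hg
  obtain ⟨a, ha, haM, b, hb, hbM, e⟩ := h g⁻¹ (M.inv_mem hg)
  refine ⟨b⁻¹, B.inv_mem hb, M.inv_mem hbM, a⁻¹, A.inv_mem ha, M.inv_mem haM, ?_⟩
  rw [← mul_inv_rev, ← e, inv_inv]

/-- `A₀` is a subgroup normalized by `A`. -/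
structure NPair (A A₀ : Subgroup G) : Prop where
  le : A₀ ≤ A
  conj : ∀ a ∈ A, ∀ x ∈ A₀, a * x * a⁻¹ ∈ A₀

theorem eq_one_of_pow_of_coprime {x : G} {n m : ℕ} (h : n.Coprime m) (h1 : x ^ n = 1)
    (h2 : x ^ m = 1) : x = 1 := by
  have h3 := Nat.dvd_gcd (orderOf_dvd_of_pow_eq_one h1) (orderOf_dvd_of_pow_eq_one h2)
  rw [h.gcd_eq_one] at h3
  exact orderOf_eq_one_iff.mp (Nat.dvd_one.mp h3)

/-- Generic conjugation of `p`-subgroups into subgroups of index prime to `p`. -/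
theorem exists_conj_of_not_dvd_index {Y : Type*} [Group Y] [Finite Y] {p : ℕ} [hp : Fact p.Prime]
    (H X : Subgroup Y) (hX : IsPGroup p X) (hnd : ¬ p ∣ H.index) :
    ∃ g : Y, ∀ x ∈ X, g⁻¹ * x * g ∈ H := by
  obtain ⟨q, hq⟩ := hX.nonempty_fixed_point_of_prime_not_dvd_card (Y ⧸ H) hnd
  obtain ⟨g, rfl⟩ := QuotientGroup.mk_surjective q
  refine ⟨g, fun x hx => ?_⟩
  have h := hq ⟨x, hx⟩
  have h2 : (x * g : Y) = ((x * g : Y) : Y ⧸ H) := rfl
  change ((x * g : Y) : Y ⧸ H) = (g : Y ⧸ H) at h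
  rw [QuotientGroup.eq] at h
  have h3 := H.inv_mem h
  simpa [mul_assoc] using h3

structure Ctx (A B : Subgroup G) : Prop where
  simple : IsSimpleGroup G
  noncomm : ∃ x y : G, x * y ≠ y * x
  nA : Group.IsNilpotent A
  nB : Group.IsNilpotent B
  cop : (Nat.card A).Coprime (Nat.card B)
  fac : ∀ g, ∃ a ∈ A, ∃ b ∈ B, g = a * b
  ih : ∀ H : Subgroup G, H ≠ ⊤ → Fac A B H → Group.IsSolvable H

namespace Ctx

variable {A B : Subgroup G}

theorem fac_top (h : Ctx A B) : Fac A B ⊤ := fun g _ => by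
  obtain ⟨a, ha, b, hb, e⟩ := h.fac g
  exact ⟨a, ha, mem_top _, b, hb, mem_top _, e⟩

theorem symm (h : Ctx A B) : Ctx B A where
  simple := h.simple
  noncomm := h.noncomm
  nA := h.nB
  nB := h.nA
  cop := h.cop.symm
  fac := fun g => by
    obtain ⟨b, hb, -, a, ha, -, e⟩ := h.fac_top.symm g (mem_top _)
    exact ⟨b, hb, a, ha, e⟩
  ih := fun H hH hf => h.ih H hH hf.symm

theorem center_eq_bot (h : Ctx A B) : center G = ⊥ := by
  haveI := h.simple
  rcases IsSimpleGroup.eq_bot_or_eq_top_of_normal (center G) inferInstance with e | e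
  · exact e
  · exfalso
    obtain ⟨x, y, hxy⟩ := h.noncomm
    have hx : x ∈ center G := e ▸ mem_top x
    exact hxy ((mem_center_iff.mp hx y).symm)

theorem eq_one_of_central (h : Ctx A B) {x : G} (hx : ∀ y, Commute x y) : x = 1 := by
  have : x ∈ center G := mem_center_iff.mpr fun y => (hx y).symm
  rw [h.center_eq_bot] at this
  exact this

theorem normal_eq (h : Ctx A B) (N : Subgroup G) (hN : N.Normal) : N = ⊥ ∨ N = ⊤ := by
  haveI := h.simple
  exact IsSimpleGroup.eq_bot_or_eq_top_of_normal N hN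

theorem eq_top_of_conj_mem (h : Ctx A B) {H : Subgroup G} {x : G} (hx : x ≠ 1)
    (hH : ∀ g, g * x * g⁻¹ ∈ H) : H = ⊤ := by
  have h1 : normalClosure ({x} : Set G) ≠ ⊥ := by
    intro e
    have : x ∈ normalClosure ({x} : Set G) := subset_normalClosure rfl
    rw [e] at this
    exact hx this
  have h2 := (h.normal_eq _ (normalClosure_normal)).resolve_left h1
  rw [eq_top_iff, ← h2, normalClosure]
  rw [closure_le]
  intro y hy
  rw [Group.mem_conjugatesOfSet_iff] at hy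
  obtain ⟨z, hz, hzy⟩ := hy
  obtain rfl : z = x := hz
  obtain ⟨c, rfl⟩ := isConj_iff.mp hzy
  exact hH c

theorem normalizer_ne_top (h : Ctx A B) {T : Subgroup G} (h1 : T ≠ ⊥) (h2 : T ≠ ⊤) :
    normalizer (T : Set G) ≠ ⊤ := by
  intro e
  rcases h.normal_eq T (normalizer_eq_top_iff.mp e) with e' | e'
  · exact h1 e'
  · exact h2 e'

theorem A_ne_top (h : Ctx A B) : A ≠ ⊤ := by
  intro e
  haveI := h.simple
  subst e
  have hn := h.nA
  have hG : Group.IsNilpotent G :=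
    Cfsg.Agent.Lib.Core.Basic.isNilpotent_of_injective
      (Subgroup.topEquiv (G := G)).symm.toMonoidHom (Subgroup.topEquiv (G := G)).symm.injective
  have h2 : (⊤ : Subgroup G) ≠ ⊥ := by
    intro e
    obtain ⟨x, hx⟩ := exists_ne (1 : G)
    have : x ∈ (⊥ : Subgroup G) := e ▸ mem_top x
    exact hx this
  have : center G ≠ ⊥ := by
    simpa using Cfsg.Agent.Lib.SolvStruct.Fit.inf_center_ne_bot (F := G) ⊤ h2
  exact this h.center_eq_bot

theorem B_ne_top (h : Ctx A B) : B ≠ ⊤ := h.symm.A_ne_top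

theorem B_ne_bot (h : Ctx A B) : B ≠ ⊥ := by
  intro e
  apply h.A_ne_top
  rw [eq_top_iff]
  intro g _
  obtain ⟨a, ha, b, hb, rfl⟩ := h.fac g
  rw [e, mem_bot] at hb
  simpa [hb] using ha

theorem A_ne_bot (h : Ctx A B) : A ≠ ⊥ := h.symm.B_ne_bot

theorem inf_eq_bot (h : Ctx A B) : A ⊓ B = ⊥ :=
  (disjoint_iff.mp (Subgroup.disjoint_of_coprime_natCard h.cop))

theorem eq_one_of_mem (h : Ctx A B) {x : G} (hA : x ∈ A) (hB : x ∈ B) : x = 1 := by
  have : x ∈ A ⊓ B := mem_inf.mpr ⟨hA, hB⟩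
  rw [h.inf_eq_bot] at this
  exact this

theorem isComplement' (h : Ctx A B) : Subgroup.IsComplement' A B := by
  refine isComplement'_of_disjoint_and_mul_eq_univ (disjoint_iff.mpr h.inf_eq_bot) ?_
  ext g
  simp only [Set.mem_univ, iff_true]
  obtain ⟨a, ha, b, hb, e⟩ := h.fac g
  exact Set.mem_mul.mpr ⟨a, ha, b, hb, e.symm⟩

theorem card_mul (h : Ctx A B) : Nat.card A * Nat.card B = Nat.card G := h.isComplement'.card_mul_card

theorem index_A (h : Ctx A B) : A.index = Nat.card B := h.isComplement'.symm.index_eq_card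

theorem index_B (h : Ctx A B) : B.index = Nat.card A := h.isComplement'.index_eq_card

theorem not_dvd_of_dvd (h : Ctx A B) {r : ℕ} (hr : r.Prime) (hd : r ∣ Nat.card A) :
    ¬ r ∣ Nat.card B := by
  intro hb
  have := Nat.dvd_gcd hd hb
  rw [h.cop.gcd_eq_one] at this
  exact hr.one_lt.ne' (Nat.dvd_one.mp this)

theorem orderOf_dvd_A {x : G} (hx : x ∈ A) : orderOf x ∣ Nat.card A :=
  Subgroup.orderOf_dvd_natCard A hx

/-- conjugation of `w`-subgroups into `A` by an element of `B` -/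
theorem exists_conj_le (h : Ctx A B) {w : ℕ} [hw : Fact w.Prime] (X : Subgroup G)
    (hX : IsPGroup w X) (hnd : ¬ w ∣ Nat.card B) : ∃ b ∈ B, ∀ x ∈ X, b⁻¹ * x * b ∈ A := by
  obtain ⟨g, hg⟩ := exists_conj_of_not_dvd_index A X hX (by rwa [h.index_A])
  obtain ⟨b, hb, a, ha, e⟩ := h.fac_top.symm g (mem_top _) |> fun ⟨b, hb, _, a, ha, _, e⟩ => (⟨b, hb, a, ha, e⟩ : ∃ b ∈ B, ∃ a ∈ A, g = b * a)
  refine ⟨b, hb, fun x hx => ?_⟩
  have h1 := hg x hx
  have h2 : b⁻¹ * x * b = a * (g⁻¹ * x * g) * a⁻¹ := by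
    rw [e]; group
  rw [h2]
  exact A.mul_mem (A.mul_mem ha h1) (A.inv_mem ha)

/-- A factorized subgroup: `w`-subgroups normalized by it lie in `A`. -/
theorem le_of_fac (h : Ctx A B) {M R : Subgroup G} (hM : Fac A B M) {w : ℕ} [hw : Fact w.Prime]
    (hRM : R ≤ M) (hMR : ∀ g ∈ M, ∀ x ∈ R, g * x * g⁻¹ ∈ R) (hR : IsPGroup w R)
    (hnd : ¬ w ∣ Nat.card B) : R ≤ A := by
  have hc : Subgroup.IsComplement' (A.subgroupOf M) (B.subgroupOf M) := by
    refine isComplement'_of_disjoint_and_mul_eq_univ ?_ ?_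
    · rw [disjoint_iff, eq_bot_iff]
      intro x hx
      obtain ⟨h1, h2⟩ := mem_inf.mp hx
      rw [mem_bot]
      exact Subtype.ext (h.eq_one_of_mem h1 h2)
    · ext g
      simp only [Set.mem_univ, iff_true]
      obtain ⟨a, ha, haM, b, hb, hbM, e⟩ := hM g g.2
      refine Set.mem_mul.mpr ⟨⟨a, haM⟩, ha, ⟨b, hbM⟩, hb, ?_⟩
      exact Subtype.ext e.symm
  have hi : (A.subgroupOf M).index ∣ Nat.card B := by
    rw [hc.symm.index_eq_card]
    have h1 : Nat.card (B.subgroupOf M) = Nat.card (B ⊓ M : Subgroup G) := by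
      rw [← Subgroup.subgroupOf_map_subtype]
      exact (Subgroup.card_map_of_injective M.subtype_injective).symm
    rw [h1]
    exact Subgroup.card_dvd_of_le inf_le_left
  have hR' : IsPGroup w (R.subgroupOf M) := hR.comap_of_injective M.subtype M.subtype_injective
  obtain ⟨g, hg⟩ := exists_conj_of_not_dvd_index (A.subgroupOf M) (R.subgroupOf M) hR'
    (fun hd => hnd (hd.trans hi))
  intro x hx
  have h1 : (⟨(g : G) * x * (g : G)⁻¹, hMR g g.2 x hx⟩ : R) = ⟨(g : G) * x * (g : G)⁻¹, hMR g g.2 x hx⟩ := rfl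
  have h2 := hg ⟨(g : G) * x * (g : G)⁻¹, hRM (hMR g g.2 x hx)⟩ (hMR g g.2 x hx)
  have h3 : ((g⁻¹ * ⟨(g : G) * x * (g : G)⁻¹, hRM (hMR g g.2 x hx)⟩ * g : M) : G) = x := by
    simp [mul_assoc]
  rw [mem_subgroupOf, h3] at h2
  exact h2

/-- (f) nontrivial central elements of `A` and `B` do not commute. -/
theorem not_commute_central (h : Ctx A B) {a b : G} (ha : a ∈ A) (hb : b ∈ B)
    (hac : ∀ x ∈ A, Commute a x) (hbc : ∀ x ∈ B, Commute b x) (ha1 : a ≠ 1) (hb1 : b ≠ 1) :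
    ¬ Commute a b := by
  intro hab
  have hconj : ∀ g, Commute (g * a * g⁻¹) b := by
    intro g
    obtain ⟨a', ha', b', hb', e⟩ := h.fac g⁻¹
    -- `g⁻¹ = a' b'`, so `g * a' = b'⁻¹`
    have h1 : g * a' = b'⁻¹ := by
      rw [eq_inv_iff_mul_eq_one, mul_assoc, ← e, mul_inv_cancel]
    have h2 : g * a * g⁻¹ = b'⁻¹ * a * b' := by
      have h3 : g * a * g⁻¹ = (g * a') * a * (g * a')⁻¹ := by
        have := (hac a' ha').eq
        calc g * a * g⁻¹ = g * a * (a' * a'⁻¹) * g⁻¹ := by group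
          _ = g * (a * a') * a'⁻¹ * g⁻¹ := by group
          _ = g * (a' * a) * a'⁻¹ * g⁻¹ := by rw [this]
          _ = _ := by group
      rw [h3, h1, inv_inv]
    rw [h2]
    have h4 := (hbc b' hb').eq
    have h5 := (hbc b'⁻¹ (B.inv_mem hb')).eq
    have h6 := hab.eq
    show b'⁻¹ * a * b' * b = b * (b'⁻¹ * a * b')
    calc b'⁻¹ * a * b' * b = b'⁻¹ * a * (b' * b) := by group
      _ = b'⁻¹ * a * (b * b') := by rw [h4]
      _ = b'⁻¹ * (a * b) * b' := by group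
      _ = b'⁻¹ * (b * a) * b' := by rw [h6]
      _ = (b'⁻¹ * b) * a * b' := by group
      _ = (b * b'⁻¹) * a * b' := by rw [h5]
      _ = _ := by group
  have htop := h.eq_top_of_conj_mem (H := centralizer ({b} : Set G)) ha1 (fun g => by
    rw [mem_centralizer_singleton_iff]
    exact (hconj g).eq)
  apply hb1
  apply h.eq_one_of_central
  intro y
  have : y ∈ centralizer ({b} : Set G) := htop ▸ mem_top y
  rw [mem_centralizer_singleton_iff] at this
  exact this.symm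

/-- (NC) -/
theorem eq_top_of_le_right (h : Ctx A B) {B₀ H : Subgroup G} (hB : NPair B B₀) (hne : B₀ ≠ ⊥)
    (hAH : A ≤ H) (hBH : B₀ ≤ H) : H = ⊤ := by
  obtain ⟨x, hx, hx1⟩ := (Subgroup.ne_bot_iff_exists_ne_one.mp hne) |> fun ⟨x, hx⟩ =>
    (⟨x.1, x.2, fun e => hx (Subtype.ext e)⟩ : ∃ y, y ∈ B₀ ∧ y ≠ 1)
  refine h.eq_top_of_conj_mem hx1 fun g => ?_
  obtain ⟨a, ha, b, hb, rfl⟩ := h.fac g
  have h1 := hBH (hB.conj b hb x hx)
  have h2 : a * b * x * (a * b)⁻¹ = a * (b * x * b⁻¹) * a⁻¹ := by group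
  rw [h2]
  exact H.mul_mem (H.mul_mem (hAH ha) h1) (H.inv_mem (hAH ha))

theorem eq_top_of_le_left (h : Ctx A B) {A₀ H : Subgroup G} (hA : NPair A A₀) (hne : A₀ ≠ ⊥)
    (hAH : A₀ ≤ H) (hBH : B ≤ H) : H = ⊤ := h.symm.eq_top_of_le_right hA hne hBH hAH

/-- (N) factorization of the normalizer of a normal pair. -/
theorem fac_normalizer (h : Ctx A B) {A₀ B₀ : Subgroup G} (hA : NPair A A₀) (hB : NPair B B₀) :
    Fac A B (normalizer ((A₀ ⊔ B₀ : Subgroup G) : Set G)) := by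
  set T : Subgroup G := A₀ ⊔ B₀ with hT
  intro g hg
  obtain ⟨a, ha, b, hb, rfl⟩ := h.fac g
  have hgi : ∀ y ∈ T, (a * b)⁻¹ * y * (a * b) ∈ T := by
    intro y hy
    have := (mem_normalizer_iff.mp ((normalizer (T : Set G)).inv_mem hg) y).mp hy
    simpa using this
  have hb1 : b⁻¹ ∈ normalizer (T : Set G) := by
    apply mem_normalizer_of_conj_mem
    intro x hx
    have hle : T ≤ T.comap (MulAut.conj b⁻¹).toMonoidHom := by
      refine sup_le ?_ ?_
      · intro x hx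
        rw [mem_comap]
        have h1 := hgi (a * x * a⁻¹) (mem_sup_left (hA.conj a ha x hx))
        have h2 : (a * b)⁻¹ * (a * x * a⁻¹) * (a * b) = b⁻¹ * x * (b⁻¹)⁻¹ := by group
        rw [h2] at h1
        simpa using h1
      · intro x hx
        rw [mem_comap]
        have h1 : b⁻¹ * x * (b⁻¹)⁻¹ ∈ T := mem_sup_right (hB.conj _ (B.inv_mem hb) x hx)
        simpa using h1
    have := hle hx
    rw [mem_comap] at this
    simpa using this
  have hbN : b ∈ normalizer (T : Set G) := by simpa using (normalizer (T : Set G)).inv_mem hb1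
  have haN : a ∈ normalizer (T : Set G) := by
    have := (normalizer (T : Set G)).mul_mem hg (hb1)
    simpa using this
  exact ⟨a, ha, haN, b, hb, hbN, rfl⟩

theorem solvable_normalizer (h : Ctx A B) {A₀ B₀ : Subgroup G} (hA : NPair A A₀) (hB : NPair B B₀)
    (h1 : A₀ ⊔ B₀ ≠ ⊥) (h2 : A₀ ⊔ B₀ ≠ ⊤) :
    Group.IsSolvable (normalizer ((A₀ ⊔ B₀ : Subgroup G) : Set G)) :=
  h.ih _ (h.normalizer_ne_top h1 h2) (h.fac_normalizer hA hB)

theorem solvable_sup (h : Ctx A B) {A₀ B₀ : Subgroup G} (hA : NPair A A₀) (hB : NPair B B₀)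
    (h1 : A₀ ⊔ B₀ ≠ ⊥) (h2 : A₀ ⊔ B₀ ≠ ⊤) : Group.IsSolvable ((A₀ ⊔ B₀ : Subgroup G)) := by
  haveI := h.solvable_normalizer hA hB h1 h2
  have hle : A₀ ⊔ B₀ ≤ normalizer ((A₀ ⊔ B₀ : Subgroup G) : Set G) := le_normalizer
  exact Group.isSolvable_of_isSolvable_injective (f := Subgroup.inclusion hle) (Subgroup.inclusion_injective hle)

/-- `A` is not a `p`-group: the `r'`-part of `A` is nontrivial for every prime `r`. -/
theorem cPartOf_ne_bot (h : Ctx A B) {r : ℕ} [hr : Fact r.Prime] : cPartOf r A ≠ ⊥ := by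
  intro e
  have hAp : ∀ a ∈ A, a ∈ pCoreOf r A := by
    intro a ha
    obtain ⟨x, hx, y, hy, rfl⟩ := exists_split_mem (r := r) h.nA ha
    rw [e, mem_bot] at hy
    simpa [hy] using hx
  have hApg : IsPGroup r A := by
    intro a
    obtain ⟨k, hk⟩ := pow_eq_one_of_mem_pCoreOf (hAp a a.2)
    exact ⟨k, Subtype.ext (by simpa using hk)⟩
  obtain ⟨u, huB, hu1, huc, -⟩ := exists_central_prime h.nB (le_refl B) (fun a ha x hx =>
    B.mul_mem (B.mul_mem ha hx) (B.inv_mem ha)) h.B_ne_bot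
  haveI := h.simple
  have hle : B ≤ centralizer ({u} : Set G) := by
    intro y hy
    rw [mem_centralizer_singleton_iff]
    exact (huc y hy).eq.symm
  have hi : (centralizer ({u} : Set G)).index ∣ Nat.card A := by
    rw [← h.index_B]
    exact Subgroup.index_dvd_of_le hle
  obtain ⟨n, hn⟩ := IsPGroup.iff_card.mp hApg
  rw [hn] at hi
  obtain ⟨j, -, hj⟩ := (Nat.dvd_prime_pow hr.out).mp hi
  have hpr := Cfsg.Agent.Lib.Char.Burnside.prime_card_of_simple_of_prime_power_class r j hr.out u hu1 hj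
  obtain ⟨x, y, hxy⟩ := h.noncomm
  haveI : Fact (Nat.card G).Prime := ⟨hpr⟩
  haveI := isCyclic_of_prime_card (α := G) rfl
  exact hxy (mul_comm' x y)

theorem pCoreOf_ne_bot (h : Ctx A B) {r : ℕ} [hr : Fact r.Prime] (hd : r ∣ Nat.card A) :
    pCoreOf r A ≠ ⊥ := by
  intro e
  obtain ⟨x, hx⟩ := exists_prime_orderOf_dvd_card' r hd
  have hxm : (x : G) ∈ pCoreOf r A := by
    refine mem_pCoreOf_of_pow h.nA x.2 (k := 1) ?_
    have := pow_orderOf_eq_one x
    rw [hx, ] at this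
    simpa using congrArg Subtype.val this
  rw [e, mem_bot] at hxm
  have h3 : x = 1 := Subtype.ext hxm
  rw [h3, orderOf_one] at hx
  exact hr.out.one_lt.ne hx

end Ctx

end Cfsg.Agent.Lib.Perm.KWCtx
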