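/-
Kegel-Wielandt, coprime simple case: all nontrivial normal pairs generate the group.
-/
import Cfsg.Agent.Lib.Perm.KWCtx
import Cfsg.Agent.Lib.Solvable.Fitting

set_option autoImplicit false
set_option linter.style.haveILetI false
set_option linter.unusedSectionVars false
set_option linter.unusedVariables false

namespace Cfsg.Agent.Lib.Perm.KWStar

open Subgroup Cfsg Cfsg.Agent.Lib.Core.Basic Cfsg.Agent.Lib.OddLocal.CN
  Cfsg.Agent.Lib.LocalStruct.PCoreOf Cfsg.Agent.Lib.LocalStruct.Basic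
  Cfsg.Agent.Lib.LocalStruct.Comm Cfsg.Agent.Lib.Perm.KWParts Cfsg.Agent.Lib.Perm.KWCtx

variable {G : Type*} [Group G] [Finite G]

theorem npair_sup {A X Y : Subgroup G} (hX : NPair A X) (hY : NPair A Y) : NPair A (X ⊔ Y) where
  le := sup_le hX.le hY.le
  conj := by
    intro a ha x hx
    have hle : X ⊔ Y ≤ (X ⊔ Y).comap (MulAut.conj a).toMonoidHom := by
      refine sup_le ?_ ?_
      · intro x hx
        rw [mem_comap]
        have := hX.conj a ha x hx
        exact mem_sup_left (by simpa using this)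
      · intro x hx
        rw [mem_comap]
        have := hY.conj a ha x hx
        exact mem_sup_right (by simpa using this)
    have := hle hx
    rw [mem_comap] at this
    simpa using this

theorem npair_cPartOf {A : Subgroup G} (r : ℕ) : NPair A (cPartOf r A) where
  le := cPartOf_le r A
  conj := fun a ha x hx => by
    obtain ⟨y, hy, rfl⟩ := hx
    exact ⟨⟨a, ha⟩ * y * (⟨a, ha⟩ : A)⁻¹, (pPrimeCore_normal r A).conj_mem y hy _, by simp⟩

theorem npair_pCoreOf {A : Subgroup G} (r : ℕ) : NPair A (pCoreOf r A) where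
  le := pCoreOf_le A
  conj := fun a ha x hx => by
    have h := le_normalizer_pCoreOf (p := r) A ha
    exact (mem_normalizer_iff.mp h x).mp hx

theorem mem_fitting_of_commute {T : Subgroup G} [Group.IsSolvable T] {x : G} (hx : x ∈ T)
    (hc : ∀ (p : Nat.Primes) (y : G), y ∈ pCoreOf (p : ℕ) T → Commute x y) :
    (⟨x, hx⟩ : T) ∈ fittingSubgroup T := by
  apply Cfsg.Agent.Lib.Solvable.Fitting.centralizer_fittingSubgroup_le
  rw [mem_centralizer_iff]
  intro y hy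
  have hle : fittingSubgroup T ≤ centralizer ({(⟨x, hx⟩ : T)} : Set T) := by
    rw [fittingSubgroup_eq_iSup_pCore]
    refine iSup_le fun p => ?_
    intro z hz
    rw [mem_centralizer_singleton_iff]
    have := hc p (z : G) ⟨z, hz, rfl⟩
    exact Subtype.ext this.eq.symm
  have := hle hy
  rw [mem_centralizer_singleton_iff] at this
  exact this

theorem fitting_le_of_cores {T : Subgroup G} {X : Subgroup T}
    (h : ∀ p : Nat.Primes, pCore (p : ℕ) T ≤ X) : fittingSubgroup T ≤ X := by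
  rw [fittingSubgroup_eq_iSup_pCore]
  exact iSup_le h

theorem pCore_eq_bot_of_pCoreOf {t : ℕ} {T : Subgroup G} (h : pCoreOf t T = ⊥) : pCore t T = ⊥ :=
  (Subgroup.map_eq_bot_iff_of_injective _ T.subtype_injective).mp h

theorem exists_core_ne_bot {T : Subgroup G} [Group.IsSolvable T] (hT : T ≠ ⊥) :
    ∃ p : Nat.Primes, pCoreOf (p : ℕ) T ≠ ⊥ := by
  by_contra hall
  push Not at hall
  have hF : fittingSubgroup T = ⊥ := by
    rw [eq_bot_iff]
    exact fitting_le_of_cores fun p => by rw [pCore_eq_bot_of_pCoreOf (hall p)]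
  apply hT
  rw [eq_bot_iff]
  intro x hx
  have h1 : (⟨x, hx⟩ : T) ∈ fittingSubgroup T :=
    mem_fitting_of_commute hx fun p y hy => by
      rw [hall p, mem_bot] at hy
      rw [hy]
      exact Commute.one_right x
  rw [hF, mem_bot] at h1
  simpa using congrArg Subtype.val h1

/-- The commutator computation. -/
theorem commute_of_commutator_decomp {R W : Subgroup G} {a b : G} {p q : ℕ}
    (hdis : ∀ x ∈ R, x ∈ W → x = 1) (hcomm : ∀ x ∈ R, ∀ y ∈ W, Commute x y)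
    (haW : ∀ x ∈ W, a * x * a⁻¹ ∈ W) (haR : ∀ x ∈ R, Commute a x) (hbW : ∀ x ∈ W, Commute b x)
    (hap : a ^ p = 1) (hbq : b ^ q = 1)
    (hRp : ∀ x ∈ R, x ^ p = 1 → x = 1) (hWq : ∀ x ∈ W, x ^ q = 1 → x = 1)
    {u v : G} (hu : u ∈ R) (hv : v ∈ W) (hc : a * b * a⁻¹ * b⁻¹ = u * v) : Commute a b := by
  -- the first step
  have h1 : b * a * b⁻¹ = u⁻¹ * (v⁻¹ * a) := by
    have h2 : (u * v)⁻¹ = u⁻¹ * v⁻¹ := by
      rw [mul_inv_rev]
      exact ((hcomm u hu v hv).inv_inv).eq.symm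
    have h3 : b * a * b⁻¹ = (a * b * a⁻¹ * b⁻¹)⁻¹ * a := by group
    rw [h3, hc, h2, mul_assoc]
  have hpow : ∀ n : ℕ, ∃ w ∈ W, (v⁻¹ * a) ^ n = w * a ^ n := by
    intro n
    induction n with
    | zero => exact ⟨1, W.one_mem, by simp⟩
    | succ n ih =>
      obtain ⟨w, hw, e⟩ := ih
      have hconj : ∀ n : ℕ, ∀ x ∈ W, a ^ n * x * (a ^ n)⁻¹ ∈ W := by
        intro n
        induction n with
        | zero => intro x hx; simpa using hx
        | succ n ih =>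
          intro x hx
          have h4 := ih _ (haW x hx)
          have h5 : a ^ (n + 1) * x * (a ^ (n + 1))⁻¹ = a ^ n * (a * x * a⁻¹) * (a ^ n)⁻¹ := by
            rw [pow_succ]; group
          rw [h5]
          exact h4
      refine ⟨w * (a ^ n * v⁻¹ * (a ^ n)⁻¹), W.mul_mem hw (hconj n _ (W.inv_mem hv)), ?_⟩
      rw [pow_succ, e, pow_succ]
      group
  obtain ⟨w, hw, e⟩ := hpow p
  have hcu : Commute u⁻¹ (v⁻¹ * a) :=
    ((((hcomm u hu v hv).inv_right).mul_right ((haR u hu).symm))).inv_left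
  have h6 : (b * a * b⁻¹) ^ p = 1 := by
    rw [conj_pow, hap]
    simp
  rw [h1, hcu.mul_pow, e, hap, mul_one] at h6
  have h7 : u ^ p ∈ W := by
    have h8 : u ^ p = w := by
      rw [inv_pow] at h6
      exact (inv_mul_eq_one.mp h6)
    rw [h8]
    exact hw
  have hup : u = 1 := hRp u hu (hdis _ (R.pow_mem hu _) h7)
  -- second step
  subst hup
  rw [one_mul] at hc
  have h9 : a * b * a⁻¹ = v * b := by
    rw [← hc]; group
  have h10 : (a * b * a⁻¹) ^ q = 1 := by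
    rw [conj_pow, hbq]
    simp
  rw [h9, ((hbW v hv).symm).mul_pow, hbq, mul_one] at h10
  have hv1 : v = 1 := hWq v hv h10
  subst hv1
  rw [one_mul] at h9
  have h11 : a * b = b * a := by
    calc a * b = a * b * a⁻¹ * a := by group
      _ = b * a := by rw [h9]
  exact h11

theorem pow_eq_one_of_mem_isPGroup {r : ℕ} {R : Subgroup G} (hR : IsPGroup r R) {x : G}
    (hx : x ∈ R) : ∃ k, x ^ r ^ k = 1 := by
  obtain ⟨k, hk⟩ := hR ⟨x, hx⟩
  exact ⟨k, by simpa using congrArg Subtype.val hk⟩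

theorem eq_one_of_isPGroup_of_pow {r p : ℕ} (hrp : r.Coprime p) {R : Subgroup G}
    (hR : IsPGroup r R) {x : G} (hx : x ∈ R) (h : x ^ p = 1) : x = 1 := by
  obtain ⟨k, hk⟩ := pow_eq_one_of_mem_isPGroup hR hx
  exact eq_one_of_pow_of_coprime (Nat.Coprime.pow_left k hrp) hk h

structure MaxP (A B A₀ B₀ : Subgroup G) : Prop where
  ctx : Ctx A B
  hA : NPair A A₀
  hB : NPair B B₀
  hA1 : A₀ ≠ ⊥
  hB1 : B₀ ≠ ⊥
  hT : A₀ ⊔ B₀ ≠ ⊤
  hmax : ∀ A₁ B₁, NPair A A₁ → NPair B B₁ → A₀ ≤ A₁ → B₀ ≤ B₁ → (A₁ ≠ A₀ ∨ B₁ ≠ B₀) → A₁ ⊔ B₁ = ⊤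

namespace MaxP

variable {A B A₀ B₀ : Subgroup G}

theorem symm (h : MaxP A B A₀ B₀) : MaxP B A B₀ A₀ where
  ctx := h.ctx.symm
  hA := h.hB
  hB := h.hA
  hA1 := h.hB1
  hB1 := h.hA1
  hT := by rw [sup_comm]; exact h.hT
  hmax := fun B₁ A₁ h1 h2 h3 h4 h5 => by
    rw [sup_comm]
    exact h.hmax A₁ B₁ h2 h1 h4 h3 h5.symm

theorem T_ne_bot (h : MaxP A B A₀ B₀) : A₀ ⊔ B₀ ≠ ⊥ := by
  intro e
  apply h.hA1
  rw [eq_bot_iff, ← e]
  exact le_sup_left

theorem solvable (h : MaxP A B A₀ B₀) : Group.IsSolvable (A₀ ⊔ B₀ : Subgroup G) :=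
  h.ctx.solvable_sup h.hA h.hB h.T_ne_bot h.hT

theorem core_le (h : MaxP A B A₀ B₀) {r : ℕ} [hr : Fact r.Prime] (hnd : ¬ r ∣ Nat.card B) :
    pCoreOf r (A₀ ⊔ B₀) ≤ A := by
  refine h.ctx.le_of_fac (h.ctx.fac_normalizer h.hA h.hB) ?_ ?_ (isPGroup_pCoreOf _) hnd
  · exact (pCoreOf_le _).trans le_normalizer
  · intro g hg x hx
    exact conj_mem_pCoreOf_of_normalizer hg hx

/-- Step 1 -/
theorem cPart_le (h : MaxP A B A₀ B₀) {r : ℕ} [hr : Fact r.Prime] (hnd : ¬ r ∣ Nat.card B)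
    (hR : pCoreOf r (A₀ ⊔ B₀) ≠ ⊥) : cPartOf r A ≤ A₀ := by
  have hctx := h.ctx
  set T := A₀ ⊔ B₀ with hTdef
  have hRA := h.core_le hnd
  have hRtop : pCoreOf r T ≠ ⊤ := fun e => hctx.A_ne_top (by rw [eq_top_iff, ← e]; exact hRA)
  have hcomm : ∀ y ∈ cPartOf r A, ∀ x ∈ pCoreOf r T, Commute y x := by
    intro y hy x hx
    obtain ⟨k, hk⟩ := pow_eq_one_of_mem_pCoreOf hx
    exact (commute_of_pow_of_coprime hctx.nA (hRA hx) (cPartOf_le r A hy) hk
      (coprime_of_mem_cPartOf hy)).symm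
  have hT1 : A₀ ⊔ cPartOf r A ⊔ B₀ ≠ ⊤ := by
    intro e
    have hle : A₀ ⊔ cPartOf r A ⊔ B₀ ≤ normalizer ((pCoreOf r T : Subgroup G) : Set G) := by
      refine sup_le (sup_le ?_ ?_) ?_
      · exact (le_sup_left.trans (le_normalizer_pCoreOf T))
      · intro y hy
        apply mem_normalizer_of_conj_mem
        intro x hx
        rw [(hcomm y hy x hx).eq, mul_inv_cancel_right]
        exact hx
      · exact (le_sup_right.trans (le_normalizer_pCoreOf T))
    rw [e] at hle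
    exact hctx.normalizer_ne_top hR hRtop (top_le_iff.mp hle)
  by_contra hnot
  refine hT1 (h.hmax _ _ (npair_sup h.hA (npair_cPartOf r)) h.hB le_sup_left le_rfl (Or.inl ?_))
  intro e
  exact hnot (by rw [← e]; exact le_sup_right)

/-- Step 2 -/
theorem unique_core (h : MaxP A B A₀ B₀) {r s : ℕ} [hr : Fact r.Prime] [hs : Fact s.Prime]
    (hrs : r ≠ s) (hnd : ¬ r ∣ Nat.card B) (hnd' : ¬ s ∣ Nat.card B)
    (hR : pCoreOf r (A₀ ⊔ B₀) ≠ ⊥) (hS : pCoreOf s (A₀ ⊔ B₀) ≠ ⊥) : False := by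
  have h1 := h.cPart_le hnd hR
  have h2 := h.cPart_le hnd' hS
  have h3 : A ≤ A₀ := (cPartOf_sup_cPartOf h.ctx.nA hrs).trans (sup_le h1 h2)
  exact h.hT (h.ctx.eq_top_of_le_right h.hB h.hB1 (h3.trans le_sup_left) le_sup_right)

/-- Step 3: the one-sided case. -/
theorem one_sided (h : MaxP A B A₀ B₀) {r : ℕ} [hr : Fact r.Prime] (hnd : ¬ r ∣ Nat.card B)
    (hR : pCoreOf r (A₀ ⊔ B₀) ≠ ⊥)
    (hall : ∀ p : Nat.Primes, (p : ℕ) ≠ r → pCoreOf (p : ℕ) (A₀ ⊔ B₀) = ⊥) : False := by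
  have hctx := h.ctx
  haveI := h.solvable
  set T := A₀ ⊔ B₀ with hTdef
  have hRA := h.core_le hnd
  have hc := h.cPart_le hnd hR
  apply hctx.cPartOf_ne_bot (r := r)
  rw [eq_bot_iff]
  intro y hy
  have hyT : y ∈ T := le_sup_left (a := A₀) (hc hy)
  have h1 : (⟨y, hyT⟩ : T) ∈ fittingSubgroup T := by
    refine mem_fitting_of_commute hyT fun p x hx => ?_
    by_cases hp : (p : ℕ) = r
    · subst hp
      obtain ⟨k, hk⟩ := pow_eq_one_of_mem_pCoreOf hx
      exact (commute_of_pow_of_coprime hctx.nA (hRA hx) (cPartOf_le _ A hy) hk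
        (coprime_of_mem_cPartOf hy)).symm
    · rw [hall p hp, mem_bot] at hx
      rw [hx]
      exact Commute.one_right y
  have h2 : fittingSubgroup T ≤ pCore r T := by
    refine fitting_le_of_cores fun p => ?_
    by_cases hp : (p : ℕ) = r
    · rw [hp]
    · rw [pCore_eq_bot_of_pCoreOf (hall p hp)]
      exact bot_le
  have h3 := h2 h1
  have h4 : y ∈ pCoreOf r T := ⟨⟨y, hyT⟩, h3, rfl⟩
  obtain ⟨k, hk⟩ := pow_eq_one_of_mem_pCoreOf h4
  rw [mem_bot]
  exact eq_one_of_pow_of_coprime (Nat.Coprime.pow_left k (coprime_of_mem_cPartOf hy).symm) hk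
    (pow_orderOf_eq_one y)

theorem dvd_of_core_ne_bot (h : MaxP A B A₀ B₀) {r : ℕ} [hr : Fact r.Prime]
    (hnd : ¬ r ∣ Nat.card B) (hR : pCoreOf r (A₀ ⊔ B₀) ≠ ⊥) : r ∣ Nat.card A := by
  obtain ⟨⟨x, hx⟩, hx1⟩ := Subgroup.ne_bot_iff_exists_ne_one.mp hR
  have hx1' : x ≠ 1 := fun e => hx1 (Subtype.ext e)
  have hxA := h.core_le hnd hx
  obtain ⟨k, hk⟩ := pow_eq_one_of_mem_pCoreOf hx
  have h1 : orderOf x ∣ Nat.card A := Subgroup.orderOf_dvd_natCard A hxA
  have h2 : orderOf x ≠ 1 := fun e => hx1' (orderOf_eq_one_iff.mp e)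
  obtain ⟨j, -, hj⟩ := (Nat.dvd_prime_pow hr.out).mp (orderOf_dvd_of_pow_eq_one hk)
  have hj0 : j ≠ 0 := by
    rintro rfl
    exact h2 (by simpa using hj)
  rw [hj] at h1
  exact (dvd_pow_self r hj0).trans h1

/-- Step 4: the two-sided case. -/
theorem two_sided (h : MaxP A B A₀ B₀) {r s : ℕ} [hr : Fact r.Prime] [hs : Fact s.Prime]
    (hndr : ¬ r ∣ Nat.card B) (hnds : ¬ s ∣ Nat.card A)
    (hR : pCoreOf r (A₀ ⊔ B₀) ≠ ⊥) (hS : pCoreOf s (A₀ ⊔ B₀) ≠ ⊥)
    (hall : ∀ p : Nat.Primes, (p : ℕ) ≠ r → (p : ℕ) ≠ s → pCoreOf (p : ℕ) (A₀ ⊔ B₀) = ⊥) :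
    False := by
  have hctx := h.ctx
  haveI := h.solvable
  have hrs : r ≠ s := by
    rintro rfl
    exact hnds (h.dvd_of_core_ne_bot hndr hR)
  have hcA := h.cPart_le hndr hR
  have hcB : cPartOf s B ≤ B₀ := h.symm.cPart_le hnds (by rw [sup_comm]; exact hS)
  have hRA : pCoreOf r (A₀ ⊔ B₀) ≤ A := h.core_le hndr
  have hWB : pCoreOf s (A₀ ⊔ B₀) ≤ B := by
    have := h.symm.core_le hnds
    rwa [sup_comm] at this
  set T := A₀ ⊔ B₀ with hTdef
  obtain ⟨a, haN, ha1, hac, hap⟩ := exists_central_prime hctx.nA (cPartOf_le r A)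
    (npair_cPartOf r).conj hctx.cPartOf_ne_bot
  obtain ⟨b, hbN, hb1, hbc, hbq⟩ := exists_central_prime hctx.nB (cPartOf_le s B)
    (npair_cPartOf s).conj hctx.symm.cPartOf_ne_bot
  have haT : a ∈ T := le_sup_left (a := A₀) (hcA haN)
  have hbT : b ∈ T := le_sup_right (b := B₀) (hcB hbN)
  -- commuting facts
  have haR : ∀ x ∈ pCoreOf r T, Commute a x := by
    intro x hx
    obtain ⟨k, hk⟩ := pow_eq_one_of_mem_pCoreOf hx
    exact (commute_of_pow_of_coprime hctx.nA (hRA hx) (cPartOf_le _ A haN) hk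
      (coprime_of_mem_cPartOf haN)).symm
  have hbW : ∀ x ∈ pCoreOf s T, Commute b x := by
    intro x hx
    obtain ⟨k, hk⟩ := pow_eq_one_of_mem_pCoreOf hx
    exact (commute_of_pow_of_coprime hctx.nB (hWB hx) (cPartOf_le _ B hbN) hk
      (coprime_of_mem_cPartOf hbN)).symm
  have hnR : ∀ g ∈ T, ∀ x ∈ pCoreOf r T, g * x * g⁻¹ ∈ pCoreOf r T := fun g hg x hx =>
    conj_mem_pCoreOf g hg hx
  have hnW : ∀ g ∈ T, ∀ x ∈ pCoreOf s T, g * x * g⁻¹ ∈ pCoreOf s T := fun g hg x hx =>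
    conj_mem_pCoreOf g hg hx
  have hcop : r.Coprime s := (Nat.coprime_primes hr.out hs.out).mpr hrs
  have hdis : ∀ x ∈ pCoreOf r T, x ∈ pCoreOf s T → x = 1 := by
    intro x hx hx'
    obtain ⟨k, hk⟩ := pow_eq_one_of_mem_pCoreOf hx
    obtain ⟨l, hl⟩ := pow_eq_one_of_mem_pCoreOf hx'
    exact eq_one_of_pow_of_coprime (Nat.Coprime.pow k l hcop) hk hl
  have hcomm : ∀ x ∈ pCoreOf r T, ∀ y ∈ pCoreOf s T, Commute x y := by
    intro x hx y hy
    have h1 : x * y * x⁻¹ * y⁻¹ = 1 := by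
      apply hdis
      · have := hnR y (pCoreOf_le T hy) _ (inv_mem hx)
        have e : x * y * x⁻¹ * y⁻¹ = x * (y * x⁻¹ * y⁻¹) := by group
        rw [e]
        exact mul_mem hx this
      · exact mul_mem (hnW x (pCoreOf_le T hx) y hy) (inv_mem hy)
    have h2 : x * y = y * x := by
      calc x * y = (x * y * x⁻¹ * y⁻¹) * (y * x) := by group
        _ = y * x := by rw [h1, one_mul]
    exact h2
  set c := a * b * a⁻¹ * b⁻¹ with hc
  have hcT : c ∈ T := T.mul_mem (T.mul_mem (T.mul_mem haT hbT) (T.inv_mem haT)) (T.inv_mem hbT)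
  have hcR : ∀ x ∈ pCoreOf r T, Commute c x := by
    intro x hx
    have h1 := haR _ (hnR b⁻¹ (T.inv_mem hbT) x hx)
    have h2 := (haR x hx).eq
    simp only [inv_inv] at h1
    have h1' := h1.eq
    show c * x = x * c
    -- `c * x = a * b * a⁻¹ * (b⁻¹ * x * b) * b⁻¹`
    have h3 : a⁻¹ * (b⁻¹ * x * b) = (b⁻¹ * x * b) * a⁻¹ := by
      rw [eq_mul_inv_iff_mul_eq, mul_assoc, ← h1', ← mul_assoc, inv_mul_cancel, one_mul]
    calc c * x = a * b * (a⁻¹ * (b⁻¹ * x * b)) * b⁻¹ := by rw [hc]; group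
      _ = a * b * ((b⁻¹ * x * b) * a⁻¹) * b⁻¹ := by rw [h3]
      _ = a * x * b * a⁻¹ * b⁻¹ := by group
      _ = x * a * b * a⁻¹ * b⁻¹ := by rw [h2]
      _ = x * c := by rw [hc]; group
  have hcW : ∀ x ∈ pCoreOf s T, Commute c x := by
    intro x hx
    have h1 := (hbW _ (hnW a⁻¹ (T.inv_mem haT) x hx)).eq
    have h2 := (hbW x hx).eq
    simp only [inv_inv] at h1
    show c * x = x * c
    have h4 : b⁻¹ * x = x * b⁻¹ := by
      rw [eq_mul_inv_iff_mul_eq, mul_assoc, ← h2, ← mul_assoc, inv_mul_cancel, one_mul]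
    calc c * x = a * b * a⁻¹ * (b⁻¹ * x) := by rw [hc]; group
      _ = a * b * a⁻¹ * (x * b⁻¹) := by rw [h4]
      _ = a * (b * (a⁻¹ * x * a)) * a⁻¹ * b⁻¹ := by group
      _ = a * ((a⁻¹ * x * a) * b) * a⁻¹ * b⁻¹ := by rw [h1]
      _ = x * c := by rw [hc]; group
  have hcF : (⟨c, hcT⟩ : T) ∈ fittingSubgroup T := by
    refine mem_fitting_of_commute hcT fun p x hx => ?_
    by_cases hpr : (p : ℕ) = r
    · subst hpr
      exact hcR x hx
    by_cases hps : (p : ℕ) = s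
    · subst hps
      exact hcW x hx
    rw [hall p hpr hps, mem_bot] at hx
    rw [hx]
    exact Commute.one_right c
  have hF : fittingSubgroup T ≤ pCore r T ⊔ pCore s T := by
    refine fitting_le_of_cores fun p => ?_
    by_cases hpr : (p : ℕ) = r
    · rw [hpr]; exact le_sup_left
    by_cases hps : (p : ℕ) = s
    · rw [hps]; exact le_sup_right
    rw [pCore_eq_bot_of_pCoreOf (hall p hpr hps)]
    exact bot_le
  have hmem := hF hcF
  haveI : (pCore s T).Normal := pCore_normal s T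
  have hmem' : (⟨c, hcT⟩ : T) ∈ ((pCore r T ⊔ pCore s T : Subgroup T) : Set T) := hmem
  rw [Subgroup.mul_normal] at hmem'
  obtain ⟨u, hu, v, hv, huv⟩ := Set.mem_mul.mp hmem'
  have huR : (u : G) ∈ pCoreOf r T := ⟨u, hu, rfl⟩
  have hvW : (v : G) ∈ pCoreOf s T := ⟨v, hv, rfl⟩
  have hcuv : c = (u : G) * v := by
    have := congrArg Subtype.val huv
    simpa using this.symm
  have hprr : (orderOf a).Coprime r := coprime_of_mem_cPartOf haN
  have hqs : (orderOf b).Coprime s := coprime_of_mem_cPartOf hbN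
  have hcm := commute_of_commutator_decomp hdis hcomm (fun x hx => hnW a haT x hx) haR hbW
    (pow_orderOf_eq_one a) (pow_orderOf_eq_one b)
    (fun x hx hxp => eq_one_of_isPGroup_of_pow hprr.symm (isPGroup_pCoreOf T) hx hxp)
    (fun x hx hxq => eq_one_of_isPGroup_of_pow hqs.symm (isPGroup_pCoreOf T) hx hxq)
    huR hvW hcuv
  exact hctx.not_commute_central (cPartOf_le _ _ haN) (cPartOf_le _ _ hbN) hac hbc ha1 hb1 hcm

theorem false_of_left (h : MaxP A B A₀ B₀) {r : ℕ} [hr : Fact r.Prime]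
    (hnd : ¬ r ∣ Nat.card B) (hR : pCoreOf r (A₀ ⊔ B₀) ≠ ⊥) : False := by
  have hctx := h.ctx
  by_cases hex : ∃ p : Nat.Primes, (p : ℕ) ≠ r ∧ pCoreOf (p : ℕ) (A₀ ⊔ B₀) ≠ ⊥
  · obtain ⟨⟨s, hsp⟩, hsr, hS⟩ := hex
    simp only at hsr hS
    haveI : Fact s.Prime := ⟨hsp⟩
    by_cases hsB : s ∣ Nat.card B
    · have hsA : ¬ s ∣ Nat.card A := hctx.symm.not_dvd_of_dvd hsp hsB
      refine h.two_sided hnd hsA hR hS ?_
      intro p hpr hps
      by_contra hne
      haveI : Fact (p : ℕ).Prime := ⟨p.2⟩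
      by_cases hpB : (p : ℕ) ∣ Nat.card B
      · have hpA : ¬ (p : ℕ) ∣ Nat.card A := hctx.symm.not_dvd_of_dvd p.2 hpB
        exact h.symm.unique_core hps hpA hsA (by rw [sup_comm]; exact hne)
          (by rw [sup_comm]; exact hS)
      · exact h.unique_core hpr hpB hnd hne hR
    · exact h.unique_core hsr.symm hnd hsB hR hS
  · push Not at hex
    exact h.one_sided hnd hR hex

theorem false_ (h : MaxP A B A₀ B₀) : False := by
  haveI := h.solvable
  obtain ⟨⟨t, htp⟩, ht⟩ := exists_core_ne_bot h.T_ne_bot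
  haveI : Fact t.Prime := ⟨htp⟩
  simp only at ht
  by_cases htB : t ∣ Nat.card B
  · exact h.symm.false_of_left (h.ctx.symm.not_dvd_of_dvd htp htB) (by rw [sup_comm]; exact ht)
  · exact h.false_of_left htB ht

end MaxP

/-- (★) All nontrivial normal pairs generate `G`. -/
theorem Ctx_sup_eq_top {A B : Subgroup G} (h : Ctx A B) {A₀ B₀ : Subgroup G} (hA : NPair A A₀)
    (hB : NPair B B₀) (hA1 : A₀ ≠ ⊥) (hB1 : B₀ ≠ ⊥) : A₀ ⊔ B₀ = ⊤ := by
  have key : ∀ (n : ℕ) (A₀ B₀ : Subgroup G), NPair A A₀ → NPair B B₀ → A₀ ≠ ⊥ → B₀ ≠ ⊥ →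
      Nat.card A - Nat.card A₀ + (Nat.card B - Nat.card B₀) = n → A₀ ⊔ B₀ = ⊤ := by
    intro n
    induction n using Nat.strong_induction_on with
    | _ n ih =>
      intro A₀ B₀ hA hB hA1 hB1 hn
      by_contra hT
      refine MaxP.false_ (A := A) (B := B) (A₀ := A₀) (B₀ := B₀) ⟨h, hA, hB, hA1, hB1, hT, ?_⟩
      intro A₁ B₁ hA₁ hB₁ h1 h2 h3
      have hc1 : Nat.card A₀ ≤ Nat.card A₁ := Subgroup.card_le_of_le h1
      have hc2 : Nat.card B₀ ≤ Nat.card B₁ := Subgroup.card_le_of_le h2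
      have hc3 : Nat.card A₁ ≤ Nat.card A := Subgroup.card_le_of_le hA₁.le
      have hc4 : Nat.card B₁ ≤ Nat.card B := Subgroup.card_le_of_le hB₁.le
      have hlt : Nat.card A - Nat.card A₁ + (Nat.card B - Nat.card B₁) < n := by
        have : Nat.card A₀ < Nat.card A₁ ∨ Nat.card B₀ < Nat.card B₁ := by
          rcases h3 with h3 | h3
          · left
            exact lt_of_le_of_ne hc1 fun e => h3 (Subgroup.eq_of_le_of_card_ge h1 e.ge).symm
          · right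
            exact lt_of_le_of_ne hc2 fun e => h3 (Subgroup.eq_of_le_of_card_ge h2 e.ge).symm
        omega
      refine ih _ hlt A₁ B₁ hA₁ hB₁ ?_ ?_ rfl
      · intro e
        apply hA1
        rw [eq_bot_iff, ← e]
        exact h1
      · intro e
        apply hB1
        rw [eq_bot_iff, ← e]
        exact h2
  exact key _ A₀ B₀ hA hB hA1 hB1 rfl

end Cfsg.Agent.Lib.Perm.KWStar
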