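/-
Kegel-Wielandt, coprime simple case: centralizers.
-/
import Cfsg.Agent.Lib.Perm.KWStar

set_option autoImplicit false
set_option linter.style.haveILetI false
set_option linter.unusedSectionVars false
set_option linter.unusedVariables false

namespace Cfsg.Agent.Lib.Perm.KWCent

open Subgroup Cfsg Cfsg.Agent.Lib.Core.Basic Cfsg.Agent.Lib.OddLocal.CN
  Cfsg.Agent.Lib.LocalStruct.PCoreOf Cfsg.Agent.Lib.LocalStruct.Basic
  Cfsg.Agent.Lib.LocalStruct.Comm Cfsg.Agent.Lib.Perm.KWParts Cfsg.Agent.Lib.Perm.KWCtx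
  Cfsg.Agent.Lib.Perm.KWStar

variable {G : Type*} [Group G] [Finite G]

theorem isPGroup_zpowers_of_pow {r : ℕ} [hr : Fact r.Prime] {x : G} {k : ℕ} (h : x ^ r ^ k = 1) :
    IsPGroup r (zpowers x) := by
  rw [IsPGroup.iff_orderOf]
  rintro ⟨y, hy⟩
  obtain ⟨i, rfl⟩ := Subgroup.mem_zpowers_iff.mp hy
  have h1 : (x ^ i) ^ r ^ k = 1 := by
    rw [← zpow_natCast, zpow_comm, zpow_natCast, h, one_zpow]
  obtain ⟨j, -, hj⟩ := (Nat.dvd_prime_pow hr.out).mp (orderOf_dvd_of_pow_eq_one h1)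
  exact ⟨j, by rw [Subgroup.orderOf_mk]; exact hj⟩

theorem zpowers_ne_bot_of_ne_one {x : G} (h : x ≠ 1) : zpowers x ≠ ⊥ := by
  intro e
  have : x ∈ zpowers x := mem_zpowers x
  rw [e, mem_bot] at this
  exact h this

theorem orderOf_conj_eq (c y : G) : orderOf (c * y * c⁻¹) = orderOf y := by
  have h : (MulAut.conj c).toMonoidHom y = c * y * c⁻¹ := rfl
  rw [← h]
  exact orderOf_injective _ (MulAut.conj c).injective y

end Cfsg.Agent.Lib.Perm.KWCent

namespace Cfsg.Agent.Lib.Perm.KWCtx.Ctx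

open Subgroup Cfsg Cfsg.Agent.Lib.Core.Basic Cfsg.Agent.Lib.OddLocal.CN
  Cfsg.Agent.Lib.LocalStruct.PCoreOf Cfsg.Agent.Lib.LocalStruct.Basic
  Cfsg.Agent.Lib.LocalStruct.Comm Cfsg.Agent.Lib.Perm.KWParts Cfsg.Agent.Lib.Perm.KWCtx
  Cfsg.Agent.Lib.Perm.KWStar Cfsg.Agent.Lib.Perm.KWCent

variable {G : Type*} [Group G] [Finite G] {A B : Subgroup G}

theorem npair_zpowers {u : G} (hu : u ∈ B) (huc : ∀ y ∈ B, Commute u y) : NPair B (zpowers u) where
  le := (Subgroup.zpowers_le.mpr hu)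
  conj := by
    intro y hy x hx
    obtain ⟨i, rfl⟩ := Subgroup.mem_zpowers_iff.mp hx
    have := ((huc y hy).zpow_left i).eq
    rw [← this, mul_inv_cancel_right]
    exact zpow_mem (mem_zpowers u) i

theorem sup_eq_top_zpowers (h : Ctx A B) {r : ℕ} [hr : Fact r.Prime] {u : G} (hu : u ∈ B)
    (huc : ∀ y ∈ B, Commute u y) (hu1 : u ≠ 1) : cPartOf r A ⊔ zpowers u = ⊤ :=
  Ctx_sup_eq_top h (npair_cPartOf r) (npair_zpowers hu huc) h.cPartOf_ne_bot
    (zpowers_ne_bot_of_ne_one hu1)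

/-- (★★) -/
theorem no_invariant (h : Ctx A B) {u : G} (hu : u ∈ B) (huc : ∀ y ∈ B, Commute u y) (hu1 : u ≠ 1)
    {w : ℕ} [hw : Fact w.Prime] (hnd : ¬ w ∣ Nat.card B) (X : Subgroup G) (hX : IsPGroup w X)
    (hXu : ∀ x ∈ X, u * x * u⁻¹ ∈ X) : X = ⊥ := by
  obtain ⟨b, hb, hbX⟩ := h.exists_conj_le X hX hnd
  set X₁ : Subgroup G := X.map (MulAut.conj b⁻¹).toMonoidHom with hX₁
  have hmem : ∀ x ∈ X, b⁻¹ * x * b ∈ X₁ := by
    intro x hx
    exact ⟨x, hx, by simp⟩
  have hX₁A : X₁ ≤ A := by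
    rintro _ ⟨x, hx, rfl⟩
    simpa using hbX x hx
  have hX₁p : IsPGroup w X₁ := isPGroup_map_conj _ hX
  have hle1 : cPartOf w A ≤ normalizer (X₁ : Set G) := by
    intro y hy
    apply mem_normalizer_of_conj_mem
    intro x hx
    obtain ⟨k, hk⟩ := pow_eq_one_of_mem_isPGroup hX₁p hx
    have hc := commute_of_pow_of_coprime h.nA (hX₁A hx) (cPartOf_le w A hy) hk
      (coprime_of_mem_cPartOf hy)
    rw [← hc.eq, mul_inv_cancel_right]
    exact hx
  have hle2 : zpowers u ≤ normalizer (X₁ : Set G) := by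
    rw [Subgroup.zpowers_le]
    apply mem_normalizer_of_conj_mem
    rintro _ ⟨x, hx, rfl⟩
    have h1 := hmem _ (hXu x hx)
    have hcb := (huc b hb).eq
    have e : u * ((MulAut.conj b⁻¹).toMonoidHom x) * u⁻¹ = b⁻¹ * (u * x * u⁻¹) * b := by
      have h2 : b⁻¹ * u = u * b⁻¹ := by
        rw [inv_mul_eq_iff_eq_mul, ← mul_assoc, hcb.symm, mul_assoc, mul_inv_cancel, mul_one]
      have h3 : u⁻¹ * b = b * u⁻¹ := by
        rw [inv_mul_eq_iff_eq_mul, ← mul_assoc, hcb, mul_assoc, mul_inv_cancel, mul_one]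
      simp only [MulEquiv.coe_toMonoidHom, MulAut.conj_apply, inv_inv]
      calc u * (b⁻¹ * x * b) * u⁻¹ = (u * b⁻¹) * x * (b * u⁻¹) := by group
        _ = (b⁻¹ * u) * x * (u⁻¹ * b) := by rw [h2, h3]
        _ = _ := by group
    rw [e]
    exact h1
  have htop := h.sup_eq_top_zpowers (r := w) hu huc hu1
  have hN : normalizer (X₁ : Set G) = ⊤ := by
    rw [eq_top_iff, ← htop]
    exact sup_le hle1 hle2
  have hXbot : X₁ = ⊥ := by
    by_contra hne
    refine h.normalizer_ne_top hne ?_ hN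
    intro e
    exact h.A_ne_top (by rw [eq_top_iff, ← e]; exact hX₁A)
  rw [eq_bot_iff]
  intro x hx
  have := hmem x hx
  rw [hXbot, mem_bot] at this
  have h3 : x = b * (b⁻¹ * x * b) * b⁻¹ := by group
  rw [h3, this]
  simp

/-- (j) -/
theorem mem_of_commute_central (h : Ctx A B) {u : G} (hu : u ∈ B) (huc : ∀ y ∈ B, Commute u y)
    (hu1 : u ≠ 1) {g : G} (hg : Commute g u) : g ∈ B := by
  obtain ⟨a, ha, b, hb, rfl⟩ := h.fac g
  have hbu : Commute b u := (huc b hb).symm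
  have hau : Commute a u := by
    have h1 : a = a * b * b⁻¹ := by group
    rw [h1]
    exact hg.mul_left hbu.inv_left
  by_cases ha1 : a = 1
  · subst ha1
    simpa using hb
  exfalso
  obtain ⟨k, w, hwp, hwo, hne, hwd⟩ := exists_pow_prime_order ha1
  haveI : Fact w.Prime := ⟨hwp⟩
  have hwA : w ∣ Nat.card A := hwd.trans (Subgroup.orderOf_dvd_natCard A ha)
  have hnd := h.not_dvd_of_dvd hwp hwA
  have hX : IsPGroup w (zpowers (a ^ k)) := by
    refine isPGroup_zpowers_of_pow (k := 1) ?_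
    rw [pow_one, ← hwo]
    exact pow_orderOf_eq_one _
  refine zpowers_ne_bot_of_ne_one hne (h.no_invariant hu huc hu1 hnd _ hX ?_)
  intro x hx
  obtain ⟨i, rfl⟩ := Subgroup.mem_zpowers_iff.mp hx
  have hc : Commute u ((a ^ k) ^ i) := ((hau.pow_left k).zpow_left i).symm
  rw [hc.eq, mul_inv_cancel_right]
  exact hx

/-- (K) -/
theorem normalizer_of_conj_central (h : Ctx A B) {u : G} (hu : u ∈ B)
    (huc : ∀ y ∈ B, Commute u y) (hu1 : u ≠ 1) {c : G} (hc : c * u * c⁻¹ ∈ B) :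
    c ∈ normalizer (B : Set G) := by
  obtain ⟨k, s, hsp, hso, hne, -⟩ := exists_pow_prime_order hu1
  haveI : Fact s.Prime := ⟨hsp⟩
  set u₁ := u ^ k with hu₁
  have hu₁B : u₁ ∈ B := B.pow_mem hu k
  have hu₁c : ∀ y ∈ B, Commute u₁ y := fun y hy => (huc y hy).pow_left k
  have hcu : c * u₁ * c⁻¹ ∈ B := by
    have : c * u₁ * c⁻¹ = (c * u * c⁻¹) ^ k := by rw [conj_pow]
    rw [this]
    exact B.pow_mem hc k
  have hcs : (c * u₁ * c⁻¹) ^ s ^ 1 = 1 := by
    rw [pow_one, conj_pow, ← hso, pow_orderOf_eq_one]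
    simp
  set Q := cPartOf s B with hQ
  have hQc : ∀ y ∈ Q, c⁻¹ * y * c ∈ Q := by
    intro y hy
    have h1 : Commute (c * u₁ * c⁻¹) y :=
      commute_of_pow_of_coprime h.nB hcu (cPartOf_le s B hy) hcs (coprime_of_mem_cPartOf hy)
    have h2 : Commute (c⁻¹ * y * c) u₁ := by
      have h3 := h1.eq
      show c⁻¹ * y * c * u₁ = u₁ * (c⁻¹ * y * c)
      have h4 : y * (c * u₁ * c⁻¹) = (c * u₁ * c⁻¹) * y := h3.symm
      calc c⁻¹ * y * c * u₁ = c⁻¹ * (y * (c * u₁ * c⁻¹)) * c := by group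
        _ = c⁻¹ * ((c * u₁ * c⁻¹) * y) * c := by rw [h4]
        _ = u₁ * (c⁻¹ * y * c) := by group
    have h5 := h.mem_of_commute_central hu₁B hu₁c hne h2
    refine mem_cPartOf_of_coprime h.nB h5 ?_
    have h6 : orderOf (c⁻¹ * y * c) = orderOf y := by
      have := orderOf_conj_eq c⁻¹ y
      simpa using this
    rw [h6]
    exact coprime_of_mem_cPartOf hy
  have hcQ : c ∈ normalizer (Q : Set G) := by
    have : c⁻¹ ∈ normalizer (Q : Set G) := by
      apply mem_normalizer_of_conj_mem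
      intro y hy
      simpa using hQc y hy
    simpa using (normalizer (Q : Set G)).inv_mem this
  have hcQ' : ∀ y ∈ Q, c * y * c⁻¹ ∈ Q := fun y hy => (mem_normalizer_iff.mp hcQ y).mp hy
  obtain ⟨z, hzQ, hz1, hzc, -⟩ := exists_central_prime h.nB (cPartOf_le s B)
    (npair_cPartOf s).conj h.symm.cPartOf_ne_bot
  have hz' : c * z * c⁻¹ ∈ Q := hcQ' z hzQ
  have hz'1 : c * z * c⁻¹ ≠ 1 := by
    intro e
    apply hz1
    have : z = c⁻¹ * (c * z * c⁻¹) * c := by group
    rw [this, e]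
    simp
  have hz'Q : ∀ y ∈ Q, Commute (c * z * c⁻¹) y := by
    intro y hy
    have h1 := (hzc _ (cPartOf_le s B (hQc y hy))).eq
    show c * z * c⁻¹ * y = y * (c * z * c⁻¹)
    calc c * z * c⁻¹ * y = c * (z * (c⁻¹ * y * c)) * c⁻¹ := by group
      _ = c * ((c⁻¹ * y * c) * z) * c⁻¹ := by rw [h1]
      _ = _ := by group
  have hz'c : ∀ y ∈ B, Commute (c * z * c⁻¹) y := fun y hy =>
    commute_of_center_cPartOf h.nB hz' hz'Q hy
  apply mem_normalizer_of_conj_mem
  intro y hy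
  refine h.mem_of_commute_central (cPartOf_le s B hz') hz'c hz'1 ?_
  have h1 := (hzc y hy).eq
  show c * y * c⁻¹ * (c * z * c⁻¹) = (c * z * c⁻¹) * (c * y * c⁻¹)
  calc c * y * c⁻¹ * (c * z * c⁻¹) = c * (y * z) * c⁻¹ := by group
    _ = c * (z * y) * c⁻¹ := by rw [h1]
    _ = _ := by group

/-- index argument -/
theorem mem_of_normalizer_of_coprime (h : Ctx A B) {g : G} (hg : g ∈ normalizer (B : Set G))
    (hord : (orderOf g).Coprime (Nat.card A)) : g ∈ B := by
  obtain ⟨a, ha, b, hb, rfl⟩ := h.fac g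
  have hbN : b ∈ normalizer (B : Set G) := le_normalizer hb
  have haN : a ∈ normalizer (B : Set G) := by
    have := (normalizer (B : Set G)).mul_mem hg ((normalizer (B : Set G)).inv_mem hbN)
    simpa using this
  have hpow : ∀ n : ℕ, ∃ b' ∈ B, (a * b) ^ n = a ^ n * b' := by
    intro n
    induction n with
    | zero => exact ⟨1, B.one_mem, by simp⟩
    | succ n ih =>
      obtain ⟨b', hb', e⟩ := ih
      have h1 : a⁻¹ * b' * a ∈ B := by
        have := (mem_normalizer_iff.mp ((normalizer (B : Set G)).inv_mem haN) b').mp hb'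
        simpa using this
      refine ⟨a⁻¹ * b' * a * b, B.mul_mem h1 hb, ?_⟩
      rw [pow_succ, e, pow_succ]
      group
  obtain ⟨b', hb', e⟩ := hpow (orderOf (a * b))
  rw [pow_orderOf_eq_one] at e
  have h1 : a ^ orderOf (a * b) ∈ B := by
    have : a ^ orderOf (a * b) = b'⁻¹ := by
      rw [eq_inv_iff_mul_eq_one]
      exact e.symm
    rw [this]
    exact B.inv_mem hb'
  have h2 := h.eq_one_of_mem (A.pow_mem ha _) h1
  have h3 : a ^ Nat.card A = 1 := by
    rw [← orderOf_dvd_iff_pow_eq_one]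
    exact Subgroup.orderOf_dvd_natCard A ha
  have h4 : a = 1 := eq_one_of_pow_of_coprime hord h2 h3
  subst h4
  simpa using hb

/-- (E) -/
theorem normalizer_of_centralizer (h : Ctx A B) {e : G} (heA : e ∈ A) (he1 : e ≠ 1)
    (heN : e ∈ normalizer (B : Set G)) {w k : ℕ} [hw : Fact w.Prime] (hek : e ^ w ^ k = 1)
    {y : G} (hy : Commute y e) : y ∈ normalizer (A : Set G) := by
  set L : Subgroup G := centralizer ({e} : Set G) with hL
  have hmemL : ∀ {x : G}, x ∈ L ↔ Commute x e := by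
    intro x
    rw [hL, mem_centralizer_singleton_iff]
    rfl
  have hfac : Fac A B L := by
    intro g hg
    obtain ⟨a, ha, b, hb, rfl⟩ := h.fac g
    have hg' := (hmemL.mp hg).eq
    have h1 : b * e * b⁻¹ * e⁻¹ = 1 := by
      apply h.eq_one_of_mem
      · have h2 : b * e * b⁻¹ = a⁻¹ * e * a := by
          have : a * b * e = e * (a * b) := hg'
          calc b * e * b⁻¹ = a⁻¹ * (a * b * e) * b⁻¹ := by group
            _ = a⁻¹ * (e * (a * b)) * b⁻¹ := by rw [this]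
            _ = a⁻¹ * e * a := by group
        rw [h2]
        exact A.mul_mem (A.mul_mem (A.mul_mem (A.inv_mem ha) heA) ha) (A.inv_mem heA)
      · have h3 : e * b⁻¹ * e⁻¹ ∈ B := (mem_normalizer_iff.mp heN b⁻¹).mp (B.inv_mem hb)
        have h4 : b * e * b⁻¹ * e⁻¹ = b * (e * b⁻¹ * e⁻¹) := by group
        rw [h4]
        exact B.mul_mem hb h3
    have hbL : b ∈ L := by
      rw [hmemL]
      show b * e = e * b
      calc b * e = (b * e * b⁻¹ * e⁻¹) * (e * b) := by group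
        _ = e * b := by rw [h1, one_mul]
    have haL : a ∈ L := by
      have := L.mul_mem hg (L.inv_mem hbL)
      simpa using this
    exact ⟨a, ha, haL, b, hb, hbL, rfl⟩
  have hLtop : L ≠ ⊤ := by
    intro et
    apply he1
    apply h.eq_one_of_central
    intro x
    have : x ∈ L := et ▸ mem_top x
    exact (hmemL.mp this).symm
  haveI hLs : Group.IsSolvable L := h.ih L hLtop hfac
  -- a second prime
  obtain ⟨⟨y₀, hy₀⟩, hy₀1⟩ := Subgroup.ne_bot_iff_exists_ne_one.mp (h.cPartOf_ne_bot (r := w))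
  have hy₀1' : y₀ ≠ 1 := fun e => hy₀1 (Subtype.ext e)
  obtain ⟨-, t, htp, -, -, htd⟩ := exists_pow_prime_order hy₀1'
  haveI : Fact t.Prime := ⟨htp⟩
  have htw : t ≠ w := by
    rintro rfl
    have := coprime_of_mem_cPartOf hy₀
    exact htp.one_lt.ne' (Nat.dvd_one.mp (by
      have h5 := Nat.dvd_gcd htd dvd_rfl
      rwa [this.gcd_eq_one] at h5))
  have htA : t ∣ Nat.card A := htd.trans (Subgroup.orderOf_dvd_natCard A (cPartOf_le w A hy₀))
  have heco : (orderOf e).Coprime t := by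
    obtain ⟨j, -, hj⟩ := (Nat.dvd_prime_pow hw.out).mp (orderOf_dvd_of_pow_eq_one hek)
    rw [hj]
    exact Nat.Coprime.pow_left j ((Nat.coprime_primes hw.out htp).mpr htw.symm)
  have htL : pCoreOf t A ≤ L := by
    intro x hx
    obtain ⟨l, hl⟩ := pow_eq_one_of_mem_pCoreOf hx
    rw [hmemL]
    exact commute_of_pow_of_coprime h.nA (pCoreOf_le A hx) heA hl heco
  obtain ⟨z, hzP, hz1, hzc, -⟩ := exists_central_prime h.nA (pCoreOf_le A)
    (npair_pCoreOf t).conj (h.pCoreOf_ne_bot htA)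
  have hzL : z ∈ L := htL hzP
  have hcoreB : ∀ (v : ℕ) [Fact v.Prime], v ∣ Nat.card B → pCoreOf v L = ⊥ := by
    intro v _ hvB
    refine h.symm.no_invariant (pCoreOf_le A hzP) hzc hz1 (h.symm.not_dvd_of_dvd Fact.out hvB) _
      (isPGroup_pCoreOf L) ?_
    intro x hx
    exact conj_mem_pCoreOf z hzL hx
  have hcoreA : ∀ (v : ℕ) [Fact v.Prime], ¬ v ∣ Nat.card B → pCoreOf v L ≤ A := by
    intro v _ hvB
    refine h.le_of_fac hfac (pCoreOf_le L) ?_ (isPGroup_pCoreOf L) hvB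
    intro g hg x hx
    exact conj_mem_pCoreOf g hg hx
  have hSne : pCoreOf t L ≠ ⊥ := by
    intro hS
    have hzF : (⟨z, hzL⟩ : L) ∈ fittingSubgroup L := by
      refine mem_fitting_of_commute hzL fun p x hx => ?_
      haveI : Fact (p : ℕ).Prime := ⟨p.2⟩
      by_cases hpB : (p : ℕ) ∣ Nat.card B
      · rw [hcoreB p hpB, mem_bot] at hx
        rw [hx]
        exact Commute.one_right z
      · by_cases hpt : (p : ℕ) = t
        · subst hpt
          rw [hS, mem_bot] at hx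
          rw [hx]
          exact Commute.one_right z
        · have hxA := hcoreA p hpB hx
          exact hzc x hxA
    have hF : fittingSubgroup L ≤ pPrimeCore t L := by
      refine fitting_le_of_cores fun p => ?_
      haveI : Fact (p : ℕ).Prime := ⟨p.2⟩
      by_cases hpt : (p : ℕ) = t
      · rw [hpt, pCore_eq_bot_of_pCoreOf hS]
        exact bot_le
      · refine le_pPrimeCore (pCore_normal _ _) ?_
        obtain ⟨n, hn⟩ := exists_card_pCore (p := (p : ℕ)) (G := L)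
        rw [hn]
        exact Nat.Coprime.pow_left n ((Nat.coprime_primes p.2 htp).mpr hpt)
    have h1 := orderOf_coprime_of_mem_pPrimeCore (hF hzF)
    rw [Subgroup.orderOf_mk] at h1
    obtain ⟨l, hl⟩ := pow_eq_one_of_mem_pCoreOf hzP
    exact hz1 (eq_one_of_pow_of_coprime (Nat.Coprime.pow_left l h1.symm) hl (pow_orderOf_eq_one z))
  have hSA : pCoreOf t L ≤ A := hcoreA t (h.not_dvd_of_dvd htp htA)
  have hSP : pCoreOf t L ≤ pCoreOf t A := le_pCoreOf_of_isPGroup h.nA hSA (isPGroup_pCoreOf L)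
  have hPnil : Group.IsNilpotent (pCoreOf t A) := (isPGroup_pCoreOf A).isNilpotent
  obtain ⟨z₁, hz₁S, hz₁1, hz₁c, -⟩ := exists_central_prime hPnil hSP
    (fun a ha x hx => conj_mem_pCoreOf a (htL ha) hx) hSne
  have hz₁A : ∀ a ∈ A, Commute z₁ a := fun a ha =>
    commute_of_center_pCoreOf h.nA (hSP hz₁S) hz₁c ha
  have hyL : y ∈ L := hmemL.mpr hy
  exact h.symm.normalizer_of_conj_central (hSA hz₁S) hz₁A hz₁1
    (hSA (conj_mem_pCoreOf y hyL hz₁S))

end Cfsg.Agent.Lib.Perm.KWCtx.Ctx
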