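/-
Kegel-Wielandt: a Frobenius type lemma with a central subgroup.
-/
import Cfsg.Agent.Lib.Frobenius.Theorem
import Cfsg.Agent.Lib.Perm.KWCent

set_option autoImplicit false
set_option linter.style.haveILetI false
set_option linter.unusedSectionVars false
set_option linter.unusedVariables false

namespace Cfsg.Agent.Lib.Perm.KWFW

open Subgroup Cfsg Cfsg.Agent.Lib.Frobenius.Basic Cfsg.Agent.Lib.Frobenius.Theorem
open scoped Pointwise

section Fix

variable {L : Type*} [Group L] [Finite L]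

/-- An `s`-element acting on a normal subgroup fixes a Sylow subgroup if the number of Sylow
subgroups is prime to `s`. -/
theorem exists_fixed_sylow (K : Subgroup L) [hK : K.Normal] {r s : ℕ} [hr : Fact r.Prime]
    [hs : Fact s.Prime] (u : L) (hu : u ^ s = 1) (hnd : ¬ s ∣ Nat.card (Sylow r K)) :
    ∃ P : Sylow r K, ∀ x ∈ (P : Subgroup K), ∀ y : K, (y : L) = u * (x : L) * u⁻¹ →
      y ∈ (P : Subgroup K) := by
  letI : MulDistribMulAction (zpowers u) K :=
    MulDistribMulAction.compHom K ((MulAut.conjNormal : L →* MulAut K).comp (zpowers u).subtype)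
  have hp : IsPGroup s (zpowers u) := by
    refine Cfsg.Agent.Lib.Perm.KWCent.isPGroup_zpowers_of_pow (k := 1) ?_
    simpa using hu
  obtain ⟨P, hP⟩ := hp.nonempty_fixed_point_of_prime_not_dvd_card (Sylow r K) hnd
  refine ⟨P, fun x hx y hy => ?_⟩
  have h1 := hP ⟨u, mem_zpowers u⟩
  have h2 : (⟨u, mem_zpowers u⟩ : zpowers u) • x ∈ (⟨u, mem_zpowers u⟩ : zpowers u) • (P : Subgroup K) :=
    Subgroup.smul_mem_pointwise_smul _ _ _ hx
  rw [← Sylow.pointwise_smul_def, h1] at h2
  have h3 : (⟨u, mem_zpowers u⟩ : zpowers u) • x = y := by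
    apply Subtype.ext
    rw [hy]
    change ((MulAut.conjNormal u x : K) : L) = _
    rw [MulAut.conjNormal_apply]
  rwa [h3] at h2

/-- Frobenius with a central subgroup. -/
theorem exists_of_central_TI (Z Y : Subgroup L) (hZc : Z ≤ center L) (hZY : Z ≤ Y)
    (hYtop : Y ≠ ⊤) (hTI : ∀ g, g ∉ Y → ∀ y ∈ Y, g⁻¹ * y * g ∈ Y → y ∈ Z)
    {u : L} (huY : u ∈ Y) (huZ : u ∉ Z) {s : ℕ} [hs : Fact s.Prime] (hus : u ^ s = 1) :
    ∃ (r : ℕ) (_ : Fact r.Prime) (P : Subgroup L), r ≠ s ∧ IsPGroup r P ∧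
      (∀ x ∈ P, u * x * u⁻¹ ∈ P) ∧ (∀ x ∈ P, x ∈ Y → x ∈ Z) ∧ ∃ x ∈ P, x ∉ Z := by
  classical
  haveI hZn : Z.Normal := by
    refine ⟨fun x hx g => ?_⟩
    have := (mem_center_iff.mp (hZc hx) g)
    rw [this, mul_inv_cancel_right]
    exact hx
  set π := QuotientGroup.mk' Z with hπ
  have hπs : Function.Surjective π := QuotientGroup.mk'_surjective Z
  set H := Y.map π with hH
  have hmemH : ∀ {y : L}, π y ∈ H ↔ y ∈ Y := by
    intro y
    constructor
    · rintro ⟨y', hy', e⟩
      have h1 : y'⁻¹ * y ∈ Z := by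
        have : (y' : L ⧸ Z) = y := e
        exact QuotientGroup.eq.mp this
      have h2 := Y.mul_mem hy' (hZY h1)
      simpa using h2
    · intro hy
      exact ⟨y, hy, rfl⟩
  have hker : ∀ {y : L}, π y = 1 ↔ y ∈ Z := by
    intro y
    exact QuotientGroup.eq_one_iff y
  have hH1 : H ≠ ⊥ := by
    intro e
    have : π u ∈ H := hmemH.mpr huY
    rw [e, mem_bot, hker] at this
    exact huZ this
  have hHtop : H ≠ ⊤ := by
    intro e
    apply hYtop
    rw [eq_top_iff]
    intro g _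
    apply hmemH.mp
    rw [e]
    exact mem_top _
  have hF : IsFrobeniusComplement H := by
    refine isFrobeniusComplement_of hH1 hHtop ?_
    intro gb hgb xb hxb hconj
    obtain ⟨g, rfl⟩ := hπs gb
    obtain ⟨x, hx, rfl⟩ := hxb
    have hg : g ∉ Y := fun h => hgb (hmemH.mpr h)
    have h1 : π (g⁻¹ * x * g) ∈ H := by
      simpa using hconj
    exact hker.mpr (hTI g hg x hx (hmemH.mp h1))
  set K₀ := kernel H with hK₀
  set K := K₀.comap π with hK
  haveI hKn : K.Normal := Subgroup.Normal.comap inferInstance π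
  have hcomap : Y = H.comap π := by
    ext y
    exact hmemH.symm
  have hindex : H.index = Y.index := by
    rw [hcomap, Subgroup.index_comap_of_surjective _ hπs]
  set n := H.index with hn
  have hn1 : n ≠ 1 := fun e => hHtop (Subgroup.index_eq_one.mp e)
  -- `s` does not divide `n`
  have hsH : s ∣ Nat.card H := by
    have ho : orderOf (π u) = s := by
      refine orderOf_eq_prime ?_ ?_
      · rw [← map_pow, hus, map_one]
      · intro e
        exact huZ (hker.mp e)
    rw [← ho]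
    exact Subgroup.orderOf_dvd_natCard H (hmemH.mpr huY)
  have hsn : ¬ s ∣ n := by
    intro hd
    have h1 : n ≡ 1 [MOD Nat.card H] := index_mod hF
    have h2 : n ≡ 1 [MOD s] := h1.of_dvd hsH
    have h3 : 1 ≡ 0 [MOD s] := h2.symm.trans ((Nat.modEq_zero_iff_dvd).mpr hd)
    have h4 := (Nat.modEq_zero_iff_dvd).mp h3
    exact hs.out.one_lt.ne' (Nat.dvd_one.mp h4)
  obtain ⟨r, hrp, hrd⟩ := Nat.exists_prime_and_dvd hn1
  haveI hr : Fact r.Prime := ⟨hrp⟩
  have hrs : r ≠ s := by
    rintro rfl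
    exact hsn hrd
  -- the map `K → K₀`
  set f : K →* L ⧸ Z := π.comp K.subtype with hf
  have hfr : f.range = K₀ := by
    ext x
    constructor
    · rintro ⟨y, rfl⟩
      exact y.2
    · intro hx
      obtain ⟨y, rfl⟩ := hπs x
      exact ⟨⟨y, hx⟩, rfl⟩
  have hfk : f.ker = Z.subgroupOf K := by
    ext x
    rw [MonoidHom.mem_ker, mem_subgroupOf]
    exact hker
  have hZi : (Z.subgroupOf K).index = n := by
    rw [← hfk, Subgroup.index_ker, hfr, hK₀, card_kernel hF]
  have hZK : ∀ P : Sylow r K, Z.subgroupOf K ≤ normalizer ((P : Subgroup K) : Set K) := by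
    intro P x hx
    rw [mem_normalizer_iff]
    intro y
    have h1 : x * y * x⁻¹ = y := by
      apply Subtype.ext
      have h2 : (y : L) * (x : L) = (x : L) * (y : L) := mem_center_iff.mp (hZc hx) (y : L)
      simp only [Subgroup.coe_mul, Subgroup.coe_inv]
      rw [← h2, mul_inv_cancel_right]
    rw [h1]
  have hcard : ∀ P : Sylow r K, Nat.card (Sylow r K) ∣ n := by
    intro P
    rw [P.card_eq_index_normalizer, ← hZi]
    exact Subgroup.index_dvd_of_le (hZK P)
  obtain ⟨P₀⟩ : Nonempty (Sylow r K) := inferInstance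
  have hsnd : ¬ s ∣ Nat.card (Sylow r K) := fun h => hsn (h.trans (hcard P₀))
  obtain ⟨P, hP⟩ := exists_fixed_sylow K u hus hsnd
  refine ⟨r, hr, (P : Subgroup K).map K.subtype, hrs, P.isPGroup'.map _, ?_, ?_, ?_⟩
  · rintro _ ⟨x, hx, rfl⟩
    have hy : u * (x : L) * u⁻¹ ∈ K := hKn.conj_mem _ x.2 u
    exact ⟨⟨_, hy⟩, hP x hx ⟨_, hy⟩ rfl, rfl⟩
  · rintro _ ⟨x, hx, rfl⟩ hxY
    have h1 : π (x : L) ∈ K₀ := x.2
    have h2 : π (x : L) ∈ K₀ ⊓ H := mem_inf.mpr ⟨h1, hmemH.mpr hxY⟩
    rw [hK₀, kernel_inf_eq_bot hF, mem_bot] at h2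
    exact hker.mp h2
  · by_contra hall
    push Not at hall
    have hle : (P : Subgroup K) ≤ Z.subgroupOf K := by
      intro x hx
      exact hall x ⟨x, hx, rfl⟩
    have h1 : (Z.subgroupOf K).index ∣ (P : Subgroup K).index := Subgroup.index_dvd_of_le hle
    rw [hZi] at h1
    exact P.not_dvd_index (hrd.trans h1)

end Fix

end Cfsg.Agent.Lib.Perm.KWFW
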