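/-
Kegel-Wielandt, coprime simple case: the contradiction.
-/
import Cfsg.Agent.Lib.Perm.KWFW

set_option autoImplicit false
set_option linter.style.haveILetI false
set_option linter.unusedSectionVars false
set_option linter.unusedVariables false

namespace Cfsg.Agent.Lib.Perm.KWCtx.Ctx

open Subgroup Cfsg Cfsg.Agent.Lib.Core.Basic Cfsg.Agent.Lib.OddLocal.CN
  Cfsg.Agent.Lib.LocalStruct.PCoreOf Cfsg.Agent.Lib.LocalStruct.Basic
  Cfsg.Agent.Lib.LocalStruct.Comm Cfsg.Agent.Lib.Perm.KWParts Cfsg.Agent.Lib.Perm.KWCtx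
  Cfsg.Agent.Lib.Perm.KWStar Cfsg.Agent.Lib.Perm.KWCent Cfsg.Agent.Lib.Perm.KWFW

variable {G : Type*} [Group G] [Finite G] {A B : Subgroup G}

/-- `s ∤ |G : B_s|` -/
theorem not_dvd_index_pCoreOf (h : Ctx A B) {s : ℕ} [hs : Fact s.Prime]
    (hsA : ¬ s ∣ Nat.card A) : ¬ s ∣ (pCoreOf s B).index := by
  have h1 : (pCoreOf s B).relIndex B * B.index = (pCoreOf s B).index :=
    Subgroup.relIndex_mul_index (pCoreOf_le B)
  rw [← h1, h.index_B]
  intro hd
  rcases (Nat.Prime.dvd_mul hs.out).mp hd with hd | hd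
  · obtain ⟨P⟩ : Nonempty (Sylow s B) := inferInstance
    haveI := h.nB
    have hPn := sylow_normal_nil P
    have hle : (P : Subgroup B) ≤ pCore s B := le_pCore hPn P.isPGroup'
    have h2 : (pCoreOf s B).subgroupOf B = pCore s B := by
      ext x
      rw [mem_subgroupOf]
      constructor
      · rintro ⟨y, hy, e⟩
        have : y = x := Subtype.ext e
        rwa [← this]
      · intro hx
        exact ⟨x, hx, rfl⟩
    have h3 : (pCore s B).index ∣ (P : Subgroup B).index := Subgroup.index_dvd_of_le hle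
    rw [Subgroup.relIndex, h2] at hd
    exact P.not_dvd_index (hd.trans h3)
  · exact hsA hd

/-- Conjugation of `s`-elements into `B_s` inside an overgroup of `B_s`. -/
theorem exists_conj_mem_pCoreOf (h : Ctx A B) {s : ℕ} [hs : Fact s.Prime] (hsA : ¬ s ∣ Nat.card A)
    {M : Subgroup G} (hM : pCoreOf s B ≤ M) {t : G} (ht : t ∈ M) (hts : t ^ s = 1) :
    ∃ g ∈ M, g⁻¹ * t * g ∈ pCoreOf s B := by
  have h1 : (pCoreOf s B).relIndex M * M.index = (pCoreOf s B).index :=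
    Subgroup.relIndex_mul_index hM
  have h2 : ¬ s ∣ ((pCoreOf s B).subgroupOf M).index := fun hd =>
    h.not_dvd_index_pCoreOf hsA (by rw [← h1]; exact Dvd.dvd.mul_right hd _)
  have h3 : IsPGroup s (zpowers (⟨t, ht⟩ : M)) := by
    refine isPGroup_zpowers_of_pow (k := 1) ?_
    rw [pow_one]
    exact Subtype.ext (by simpa using hts)
  obtain ⟨g, hg⟩ := exists_conj_of_not_dvd_index _ _ h3 h2
  have h4 := hg ⟨t, ht⟩ (mem_zpowers _)
  rw [mem_subgroupOf] at h4
  exact ⟨g, g.2, by simpa using h4⟩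

/-- Lemma C -/
theorem commute_of_normalized (h : Ctx A B) {r s : ℕ} [hr : Fact r.Prime] [hs : Fact s.Prime]
    (hrs : r ≠ s) (hrB : r ∣ Nat.card B) (hsB : s ∣ Nat.card B) {P : Subgroup G} (hP : IsPGroup r P)
    {u : G} (hu : u ∈ B) (hus : u ^ s = 1) (hPu : ∀ x ∈ P, u * x * u⁻¹ ∈ P) :
    ∀ x ∈ P, Commute u x := by
  have hrA := h.symm.not_dvd_of_dvd hr.out hrB
  have hsA := h.symm.not_dvd_of_dvd hs.out hsB
  obtain ⟨a, ha, haP⟩ := h.symm.exists_conj_le P hP hrA
  set P₁ : Subgroup G := P.map (MulAut.conj a⁻¹).toMonoidHom with hP₁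
  have hmem : ∀ x ∈ P, a⁻¹ * x * a ∈ P₁ := fun x hx => ⟨x, hx, by simp⟩
  have hP₁B : P₁ ≤ B := by
    rintro _ ⟨x, hx, rfl⟩
    simpa using haP x hx
  have hP₁p : IsPGroup r P₁ := isPGroup_map_conj _ hP
  set M := normalizer (P₁ : Set G) with hM
  have hcop : (r).Coprime s := (Nat.coprime_primes hr.out hs.out).mpr hrs
  have hcomm : ∀ y ∈ pCoreOf s B, ∀ x ∈ P₁, Commute y x := by
    intro y hy x hx
    obtain ⟨k, hk⟩ := pow_eq_one_of_mem_pCoreOf hy
    obtain ⟨l, hl⟩ := pow_eq_one_of_mem_isPGroup hP₁p hx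
    refine commute_of_coprime' h.nB (pCoreOf_le B hy) (hP₁B hx) ?_
    obtain ⟨i, -, hi⟩ := (Nat.dvd_prime_pow hs.out).mp (orderOf_dvd_of_pow_eq_one hk)
    obtain ⟨j, -, hj⟩ := (Nat.dvd_prime_pow hr.out).mp (orderOf_dvd_of_pow_eq_one hl)
    rw [hi, hj]
    exact (Nat.Coprime.pow j i hcop).symm
  have hsM : pCoreOf s B ≤ M := by
    intro y hy
    apply mem_normalizer_of_conj_mem
    intro x hx
    rw [(hcomm y hy x hx).eq, mul_inv_cancel_right]
    exact hx
  set u₁ := a⁻¹ * u * a with hu₁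
  have hu₁M : u₁ ∈ M := by
    apply mem_normalizer_of_conj_mem
    rintro _ ⟨x, hx, rfl⟩
    have h1 := hmem _ (hPu x hx)
    have e : u₁ * ((MulAut.conj a⁻¹).toMonoidHom x) * u₁⁻¹ = a⁻¹ * (u * x * u⁻¹) * a := by
      simp only [MulEquiv.coe_toMonoidHom, MulAut.conj_apply, inv_inv, hu₁]
      group
    rw [e]
    exact h1
  have hu₁s : u₁ ^ s = 1 := by
    have : u₁ = a⁻¹ * u * a⁻¹⁻¹ := by rw [hu₁, inv_inv]
    rw [this, conj_pow, hus]
    simp
  obtain ⟨g, hgM, hg⟩ := h.exists_conj_mem_pCoreOf hsA hsM hu₁M hu₁s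
  intro x hx
  have hx₁ : a⁻¹ * x * a ∈ P₁ := hmem x hx
  -- `g⁻¹ x₁ g ∈ P₁`
  have hgx : g⁻¹ * (a⁻¹ * x * a) * g ∈ P₁ := by
    have := (mem_normalizer_iff.mp ((normalizer (P₁ : Set G)).inv_mem hgM) _).mp hx₁
    simpa using this
  have h5 := (hcomm _ hg _ hgx).eq
  -- so `u₁` commutes with `x₁`
  have h6 : u₁ * (a⁻¹ * x * a) = (a⁻¹ * x * a) * u₁ := by
    have h7 : g * (g⁻¹ * u₁ * g * (g⁻¹ * (a⁻¹ * x * a) * g)) * g⁻¹ =
        g * (g⁻¹ * (a⁻¹ * x * a) * g * (g⁻¹ * u₁ * g)) * g⁻¹ := by rw [h5]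
    have e1 : g * (g⁻¹ * u₁ * g * (g⁻¹ * (a⁻¹ * x * a) * g)) * g⁻¹ = u₁ * (a⁻¹ * x * a) := by
      group
    have e2 : g * (g⁻¹ * (a⁻¹ * x * a) * g * (g⁻¹ * u₁ * g)) * g⁻¹ = (a⁻¹ * x * a) * u₁ := by
      group
    rwa [e1, e2] at h7
  show u * x = x * u
  have h8 : a * (u₁ * (a⁻¹ * x * a)) * a⁻¹ = a * ((a⁻¹ * x * a) * u₁) * a⁻¹ := by rw [h6]
  have e3 : a * (u₁ * (a⁻¹ * x * a)) * a⁻¹ = u * x := by
    rw [hu₁]; group
  have e4 : a * ((a⁻¹ * x * a) * u₁) * a⁻¹ = x * u := by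
    rw [hu₁]; group
  rwa [e3, e4] at h8

/-- Case (ii) -/
theorem centralizer_case_two (h : Ctx A B) {X : Subgroup G} (hXB : X ≤ B) (hX1 : X ≠ ⊥) {g₀ : G}
    (hg₀N : g₀ ∈ normalizer (B : Set G)) (hg₀B : g₀ ∉ B) (hg₀X : ∀ x ∈ X, Commute g₀ x) {g : G}
    (hgX : ∀ x ∈ X, Commute g x) : g ∈ normalizer (B : Set G) := by
  -- a prime `w` dividing `o(g₀)` and `|A|`
  have h1 : ¬ (orderOf g₀).Coprime (Nat.card A) := fun hc =>
    hg₀B (h.mem_of_normalizer_of_coprime hg₀N hc)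
  obtain ⟨w, hwp, hwo, hwA⟩ := Nat.Prime.not_coprime_iff_dvd.mp h1
  haveI : Fact w.Prime := ⟨hwp⟩
  have hwB := h.not_dvd_of_dvd hwp hwA
  set e' := g₀ ^ (orderOf g₀ / w) with he'
  have he'o : orderOf e' = w := orderOf_pow_orderOf_div (orderOf_pos g₀).ne' hwo
  have he'1 : e' ≠ 1 := by
    intro e
    rw [e, orderOf_one] at he'o
    exact hwp.one_lt.ne he'o
  have he'w : e' ^ w ^ 1 = 1 := by
    rw [pow_one, ← he'o]
    exact pow_orderOf_eq_one e'
  have he'N : e' ∈ normalizer (B : Set G) := (normalizer (B : Set G)).pow_mem hg₀N _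
  have he'X : ∀ x ∈ X, Commute e' x := fun x hx => (hg₀X x hx).pow_left _
  obtain ⟨b, hb, hbX⟩ := h.exists_conj_le (zpowers e') (isPGroup_zpowers_of_pow he'w) hwB
  have hbN : b ∈ normalizer (B : Set G) := le_normalizer hb
  set e₁ := b⁻¹ * e' * b with he₁
  have he₁A : e₁ ∈ A := hbX e' (mem_zpowers _)
  have he₁N : e₁ ∈ normalizer (B : Set G) :=
    (normalizer (B : Set G)).mul_mem ((normalizer (B : Set G)).mul_mem
      ((normalizer (B : Set G)).inv_mem hbN) he'N) hbN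
  have he₁1 : e₁ ≠ 1 := by
    intro e
    apply he'1
    have : e' = b * e₁ * b⁻¹ := by rw [he₁]; group
    rw [this, e]
    simp
  have he₁w : e₁ ^ w ^ 1 = 1 := by
    have : e₁ = b⁻¹ * e' * b⁻¹⁻¹ := by rw [he₁, inv_inv]
    rw [this, conj_pow, he'w]
    simp
  -- an element of `X`
  obtain ⟨⟨x, hx⟩, hx1⟩ := Subgroup.ne_bot_iff_exists_ne_one.mp hX1
  have hx1' : x ≠ 1 := fun e => hx1 (Subtype.ext e)
  set x₁ := b⁻¹ * x * b with hx₁
  have hx₁B : x₁ ∈ B := B.mul_mem (B.mul_mem (B.inv_mem hb) (hXB hx)) hb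
  have hx₁1 : x₁ ≠ 1 := by
    intro e
    apply hx1'
    have : x = b * x₁ * b⁻¹ := by rw [hx₁]; group
    rw [this, e]
    simp
  have hx₁e : Commute x₁ e₁ := by
    have h2 := (he'X x hx).eq
    show x₁ * e₁ = e₁ * x₁
    rw [hx₁, he₁]
    calc b⁻¹ * x * b * (b⁻¹ * e' * b) = b⁻¹ * (x * e') * b := by group
      _ = b⁻¹ * (e' * x) * b := by rw [h2]
      _ = _ := by group
  have hx₁NA : x₁ ∈ normalizer (A : Set G) := h.normalizer_of_centralizer he₁A he₁1 he₁N he₁w hx₁e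
  obtain ⟨k, v, hvp, hvo, hne, -⟩ := exists_pow_prime_order hx₁1
  haveI : Fact v.Prime := ⟨hvp⟩
  set x₂ := x₁ ^ k with hx₂
  have hx₂v : x₂ ^ v ^ 1 = 1 := by
    rw [pow_one, ← hvo]
    exact pow_orderOf_eq_one x₂
  -- `b⁻¹ g b` commutes with `x₂`
  have hgx₁ : Commute (b⁻¹ * g * b) x₁ := by
    have h2 := (hgX x hx).eq
    show b⁻¹ * g * b * x₁ = x₁ * (b⁻¹ * g * b)
    rw [hx₁]
    calc b⁻¹ * g * b * (b⁻¹ * x * b) = b⁻¹ * (g * x) * b := by group
      _ = b⁻¹ * (x * g) * b := by rw [h2]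
      _ = _ := by group
  have h3 : b⁻¹ * g * b ∈ normalizer (B : Set G) :=
    h.symm.normalizer_of_centralizer (B.pow_mem hx₁B k) hne
      ((normalizer (A : Set G)).pow_mem hx₁NA k) hx₂v (hgx₁.pow_right k)
  have h4 : g = b * (b⁻¹ * g * b) * b⁻¹ := by group
  rw [h4]
  exact (normalizer (B : Set G)).mul_mem ((normalizer (B : Set G)).mul_mem hbN h3)
    ((normalizer (B : Set G)).inv_mem hbN)

/-- Case (iii) -/
theorem centralizer_case_three (h : Ctx A B) {X : Subgroup G} (hXB : X ≤ B)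
    (hIH : ∀ X' : Subgroup G, X ≤ X' → X' ≠ X → X' ≤ B → ∀ g, (∀ x ∈ X', Commute g x) →
      g ∈ normalizer (B : Set G))
    (hZ : ∀ u ∈ X, (∀ y ∈ B, Commute u y) → u = 1)
    (hNB : ∀ g, (∀ x ∈ X, Commute g x) → g ∈ normalizer (B : Set G) → g ∈ B)
    {g : G} (hgX : ∀ x ∈ X, Commute g x) : g ∈ B := by
  obtain ⟨u, huB, hu1, huc, huo⟩ := exists_central_prime h.nB (le_refl B) (fun a ha x hx =>
    B.mul_mem (B.mul_mem ha hx) (B.inv_mem ha)) h.B_ne_bot
  set s := orderOf u with hs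
  haveI hsf : Fact s.Prime := ⟨huo⟩
  have hsB : s ∣ Nat.card B := Subgroup.orderOf_dvd_natCard B huB
  have hsA := h.symm.not_dvd_of_dvd huo hsB
  have hus : u ^ s = 1 := pow_orderOf_eq_one u
  have huX : u ∉ X := fun hx => hu1 (hZ u hx huc)
  set Γ : Subgroup G := centralizer (X : Set G) with hΓ
  have hmemΓ : ∀ {t : G}, t ∈ Γ ↔ ∀ x ∈ X, Commute t x := by
    intro t
    rw [hΓ, mem_centralizer_iff]
    constructor
    · intro ht x hx
      exact (ht x hx).symm
    · intro ht x hx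
      exact (ht x hx).symm
  have huΓ : u ∈ Γ := hmemΓ.mpr fun x hx => huc x (hXB hx)
  have hgΓ : g ∈ Γ := hmemΓ.mpr hgX
  -- the TI property
  have hTI : ∀ t ∈ Γ, t ∉ B → ∀ y ∈ Γ, y ∈ B → t⁻¹ * y * t ∈ B → y ∈ X := by
    intro t htΓ htB y hyΓ hyB hty
    by_contra hyX
    have htX := hmemΓ.mp htΓ
    have hyXc := hmemΓ.mp hyΓ
    set w := t * u * t⁻¹ with hw
    have hwX : ∀ x ∈ X ⊔ zpowers y, Commute w x := by
      have hle : X ⊔ zpowers y ≤ centralizer ({w} : Set G) := by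
        refine sup_le ?_ ?_
        · intro x hx
          rw [mem_centralizer_singleton_iff]
          have h1 := (huc x (hXB hx)).eq
          have h2 := (htX x hx).eq
          have h3 : t⁻¹ * x = x * t⁻¹ := by
            rw [inv_mul_eq_iff_eq_mul, ← mul_assoc, h2, mul_assoc, mul_inv_cancel, mul_one]
          show x * (t * u * t⁻¹) = t * u * t⁻¹ * x
          calc x * (t * u * t⁻¹) = (x * t) * u * t⁻¹ := by group
            _ = (t * x) * u * t⁻¹ := by rw [h2]
            _ = t * (x * u) * t⁻¹ := by group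
            _ = t * (u * x) * t⁻¹ := by rw [h1]
            _ = t * u * (x * t⁻¹) := by group
            _ = t * u * (t⁻¹ * x) := by rw [h3]
            _ = _ := by group
        · rw [Subgroup.zpowers_le, mem_centralizer_singleton_iff]
          have h1 := (huc _ hty).eq
          show y * (t * u * t⁻¹) = t * u * t⁻¹ * y
          calc y * (t * u * t⁻¹) = t * ((t⁻¹ * y * t) * u) * t⁻¹ := by group
            _ = t * (u * (t⁻¹ * y * t)) * t⁻¹ := by rw [h1]
            _ = _ := by group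
      intro x hx
      have := hle hx
      rw [mem_centralizer_singleton_iff] at this
      exact this.symm
    have hX'ne : X ⊔ zpowers y ≠ X := by
      intro e
      apply hyX
      rw [← e]
      exact mem_sup_right (mem_zpowers y)
    have hwN : w ∈ normalizer (B : Set G) :=
      hIH _ le_sup_left hX'ne (sup_le hXB (Subgroup.zpowers_le.mpr hyB)) w hwX
    have hwo : orderOf w = s := orderOf_conj_eq t u
    have hwB : w ∈ B := by
      refine h.mem_of_normalizer_of_coprime hwN ?_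
      rw [hwo]
      exact (Nat.Prime.coprime_iff_not_dvd huo).mpr hsA
    have htN : t ∈ normalizer (B : Set G) := h.normalizer_of_conj_central huB huc hu1 hwB
    exact htB (hNB t htX htN)
  -- the Frobenius argument
  by_contra hgB
  have hZc : X.subgroupOf Γ ≤ center Γ := by
    intro x hx
    rw [mem_center_iff]
    intro y
    apply Subtype.ext
    exact (hmemΓ.mp y.2 x hx)
  have hZY : X.subgroupOf Γ ≤ B.subgroupOf Γ := fun x hx => hXB hx
  have hYtop : B.subgroupOf Γ ≠ ⊤ := by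
    intro e
    have : (⟨g, hgΓ⟩ : Γ) ∈ B.subgroupOf Γ := e ▸ mem_top _
    exact hgB this
  have hTI' : ∀ t : Γ, t ∉ B.subgroupOf Γ → ∀ y ∈ B.subgroupOf Γ,
      t⁻¹ * y * t ∈ B.subgroupOf Γ → y ∈ X.subgroupOf Γ := by
    intro t ht y hy hty
    exact hTI t t.2 ht y y.2 hy hty
  obtain ⟨r, hr, P, hrs, hPp, hPu, hPY, x, hxP, hxZ⟩ := exists_of_central_TI (X.subgroupOf Γ)
    (B.subgroupOf Γ) hZc hZY hYtop hTI' (u := ⟨u, huΓ⟩) huB huX (s := s)
    (Subtype.ext (by simpa using hus))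
  have hxY : x ∉ B.subgroupOf Γ := fun hh => hxZ (hPY x hxP hh)
  set P' : Subgroup G := P.map Γ.subtype with hP'
  have hP'p : IsPGroup r P' := hPp.map _
  have hP'u : ∀ y ∈ P', u * y * u⁻¹ ∈ P' := by
    rintro _ ⟨y, hy, rfl⟩
    exact ⟨_, hPu y hy, rfl⟩
  have hxP' : (x : G) ∈ P' := ⟨x, hxP, rfl⟩
  by_cases hrB : r ∣ Nat.card B
  · have hc := h.commute_of_normalized hrs hrB hsB hP'p huB hus hP'u x hxP'
    have h1 : (x : G)⁻¹ * u * x ∈ B := by
      have e : (x : G)⁻¹ * u * x = u := by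
        rw [mul_assoc, hc.eq, ← mul_assoc, inv_mul_cancel, one_mul]
      rw [e]
      exact huB
    exact huX (hTI x x.2 hxY u huΓ huB h1)
  · have := h.no_invariant huB huc hu1 hrB P' hP'p hP'u
    rw [this, mem_bot] at hxP'
    exact hxZ (by
      rw [mem_subgroupOf, hxP']
      exact X.one_mem)

/-- (l) -/
theorem centralizer_le_normalizer (h : Ctx A B) : ∀ X : Subgroup G, X ≤ B → X ≠ ⊥ → ∀ g,
    (∀ x ∈ X, Commute g x) → g ∈ normalizer (B : Set G) := by
  have key : ∀ (n : ℕ) (X : Subgroup G), Nat.card B - Nat.card X = n → X ≤ B → X ≠ ⊥ → ∀ g,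
      (∀ x ∈ X, Commute g x) → g ∈ normalizer (B : Set G) := by
    intro n
    induction n using Nat.strong_induction_on with
    | _ n ih =>
      intro X hn hXB hX1 g hgX
      have hIH : ∀ X' : Subgroup G, X ≤ X' → X' ≠ X → X' ≤ B → ∀ g, (∀ x ∈ X', Commute g x) →
          g ∈ normalizer (B : Set G) := by
        intro X' h1 h2 h3 g hg
        have hc1 : Nat.card X < Nat.card X' := by
          refine lt_of_le_of_ne (Subgroup.card_le_of_le h1) fun e => h2 ?_
          exact (Subgroup.eq_of_le_of_card_ge h1 e.ge).symm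
        have hc2 : Nat.card X' ≤ Nat.card B := Subgroup.card_le_of_le h3
        refine ih _ ?_ X' rfl h3 ?_ g hg
        · omega
        · intro e
          apply hX1
          rw [eq_bot_iff, ← e]
          exact h1
      by_cases hi : ∃ u ∈ X, (∀ y ∈ B, Commute u y) ∧ u ≠ 1
      · obtain ⟨u, huX, huc, hu1⟩ := hi
        exact le_normalizer (h.mem_of_commute_central (hXB huX) huc hu1 (hgX u huX))
      by_cases hii : ∃ g₀ ∈ normalizer (B : Set G), g₀ ∉ B ∧ ∀ x ∈ X, Commute g₀ x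
      · obtain ⟨g₀, h1, h2, h3⟩ := hii
        exact h.centralizer_case_two hXB hX1 h1 h2 h3 hgX
      push Not at hi hii
      refine le_normalizer (h.centralizer_case_three hXB hIH ?_ ?_ hgX)
      · intro u huX huc
        exact hi u huX huc
      · intro t htX htN
        by_contra htB
        obtain ⟨x, hx, hne⟩ := hii t htN htB
        exact hne (htX x hx)
  exact fun X => key _ X rfl

/-- (m) -/
theorem normalizer_of_conj_mem (h : Ctx A B) {y : G} (hy : y ∈ B) (hy1 : y ≠ 1) {g : G}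
    (hgy : g⁻¹ * y * g ∈ B) : g ∈ normalizer (B : Set G) := by
  obtain ⟨u, huB, hu1, huc, huo⟩ := exists_central_prime h.nB (le_refl B) (fun a ha x hx =>
    B.mul_mem (B.mul_mem ha hx) (B.inv_mem ha)) h.B_ne_bot
  have hsB : orderOf u ∣ Nat.card B := Subgroup.orderOf_dvd_natCard B huB
  have hsA := h.symm.not_dvd_of_dvd huo hsB
  set w := g * u * g⁻¹ with hw
  have hwN : w ∈ normalizer (B : Set G) := by
    refine h.centralizer_le_normalizer (zpowers y) (Subgroup.zpowers_le.mpr hy)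
      (zpowers_ne_bot_of_ne_one hy1) w ?_
    intro x hx
    obtain ⟨i, rfl⟩ := Subgroup.mem_zpowers_iff.mp hx
    refine Commute.zpow_right ?_ i
    have h1 := (huc _ hgy).eq
    show g * u * g⁻¹ * y = y * (g * u * g⁻¹)
    calc g * u * g⁻¹ * y = g * (u * (g⁻¹ * y * g)) * g⁻¹ := by group
      _ = g * ((g⁻¹ * y * g) * u) * g⁻¹ := by rw [h1]
      _ = _ := by group
  have hwB : w ∈ B := by
    refine h.mem_of_normalizer_of_coprime hwN ?_
    rw [hw, orderOf_conj_eq]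
    exact (Nat.Prime.coprime_iff_not_dvd huo).mpr hsA
  exact h.normalizer_of_conj_central huB huc hu1 hwB

/-- (n) -/
theorem card_lt (h : Ctx A B) : Nat.card B < Nat.card A := by
  set N := normalizer (B : Set G) with hN
  have hNtop : N ≠ ⊤ := h.normalizer_ne_top h.B_ne_bot h.B_ne_top
  obtain ⟨g, hg⟩ : ∃ g, g ∉ N := by
    by_contra hall
    push Not at hall
    exact hNtop (eq_top_iff.mpr fun x _ => hall x)
  let f : B → G ⧸ N := fun b => ((b * g : G) : G ⧸ N)
  have hinj : Function.Injective f := by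
    intro b₁ b₂ e
    have h1 : ((b₁ : G) * g)⁻¹ * ((b₂ : G) * g) ∈ N := QuotientGroup.eq.mp e
    have e1 : ((b₁ : G) * g)⁻¹ * ((b₂ : G) * g) = g⁻¹ * ((b₁ : G)⁻¹ * b₂) * g := by group
    rw [e1] at h1
    have hmem : (b₁ : G)⁻¹ * b₂ ∈ B := B.mul_mem (B.inv_mem b₁.2) b₂.2
    have h2 : g⁻¹ * ((b₁ : G)⁻¹ * b₂) * g ∈ B := by
      refine h.mem_of_normalizer_of_coprime h1 ?_
      have e2 := orderOf_conj_eq g⁻¹ ((b₁ : G)⁻¹ * b₂)
      rw [inv_inv] at e2
      rw [e2]
      exact Nat.Coprime.coprime_dvd_left (Subgroup.orderOf_dvd_natCard B hmem) h.cop.symm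
    by_contra hne
    have h3 : (b₁ : G)⁻¹ * b₂ ≠ 1 := by
      intro e3
      apply hne
      apply Subtype.ext
      exact (inv_mul_eq_one.mp e3)
    exact hg (h.normalizer_of_conj_mem hmem h3 h2)
  have hnsurj : ¬ Function.Surjective f := by
    intro hs
    obtain ⟨b, hb⟩ := hs ((1 : G) : G ⧸ N)
    have h1 : ((b : G) * g)⁻¹ * 1 ∈ N := QuotientGroup.eq.mp hb
    have h2 : (b : G) * g ∈ N := by
      have := N.inv_mem h1
      simpa using this
    have hbN : (b : G) ∈ N := le_normalizer b.2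
    apply hg
    have := N.mul_mem (N.inv_mem hbN) h2
    simpa using this
  have hlt : Nat.card B < Nat.card (G ⧸ N) := by
    classical
    cases nonempty_fintype B
    cases nonempty_fintype (G ⧸ N)
    rw [Nat.card_eq_fintype_card, Nat.card_eq_fintype_card]
    exact Fintype.card_lt_of_injective_not_surjective f hinj hnsurj
  have hle : N.index ∣ B.index := Subgroup.index_dvd_of_le le_normalizer
  rw [h.index_B] at hle
  have hle2 : N.index ≤ Nat.card A := Nat.le_of_dvd Nat.card_pos hle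
  exact lt_of_lt_of_le hlt hle2

theorem false_ (h : Ctx A B) : False :=
  absurd h.card_lt (not_lt.mpr h.symm.card_lt.le)

end Cfsg.Agent.Lib.Perm.KWCtx.Ctx
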