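/-
Kegel-Wielandt, coprime case.
-/
import Cfsg.Agent.Lib.Perm.KWMain
import Cfsg.Agent.Lib.Solvable.Hall
import Cfsg.Agent.Lib.Solvable.Misc1

set_option autoImplicit false
set_option linter.style.haveILetI false
set_option linter.unusedSectionVars false
set_option linter.unusedVariables false

namespace Cfsg.Agent.Lib.Perm.KWCop

open Subgroup Cfsg Cfsg.Agent.Lib.Core.Basic Cfsg.Agent.Lib.OddLocal.CN
  Cfsg.Agent.Lib.LocalStruct.PCoreOf Cfsg.Agent.Lib.LocalStruct.Basic
  Cfsg.Agent.Lib.LocalStruct.Comm Cfsg.Agent.Lib.Perm.KWParts Cfsg.Agent.Lib.Perm.KWCtx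
open scoped Pointwise

universe u

section Aux

variable {G : Type*} [Group G]

theorem nilpotent_subgroupOf {A : Subgroup G} (hA : Group.IsNilpotent A) (H : Subgroup G) :
    Group.IsNilpotent (A.subgroupOf H) := by
  let f : A.subgroupOf H →* A :=
    { toFun := fun x => ⟨(x : H), x.2⟩
      map_one' := rfl
      map_mul' := fun _ _ => rfl }
  have hf : Function.Injective f := by
    intro x y e
    have := congrArg Subtype.val e
    exact Subtype.ext (Subtype.ext this)
  exact isNilpotent_of_injective f hf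

theorem nilpotent_map {G' : Type*} [Group G'] {A : Subgroup G} (hA : Group.IsNilpotent A)
    (f : G →* G') : Group.IsNilpotent (A.map f) :=
  Group.nilpotent_of_surjective (f.subgroupMap A) (f.subgroupMap_surjective A)

theorem card_subgroupOf_dvd [Finite G] (A H : Subgroup G) :
    Nat.card (A.subgroupOf H) ∣ Nat.card A := by
  have h1 : Nat.card (A.subgroupOf H) = Nat.card (A ⊓ H : Subgroup G) := by
    rw [← Subgroup.subgroupOf_map_subtype]
    exact (Subgroup.card_map_of_injective H.subtype_injective).symm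
  rw [h1]
  exact Subgroup.card_dvd_of_le inf_le_left

theorem card_map_dvd [Finite G] {G' : Type*} [Group G'] (A : Subgroup G) (f : G →* G') :
    Nat.card (A.map f) ∣ Nat.card A :=
  Cfsg.Agent.Lib.Core.Basic.card_dvd_of_surjective (f.subgroupMap A) (f.subgroupMap_surjective A)

/-- A normal subgroup of a coprime product is factorized. -/
theorem fac_of_normal [Finite G] {A B N : Subgroup G} [hN : N.Normal]
    (hcop : (Nat.card A).Coprime (Nat.card B)) (hfac : ∀ g, ∃ a ∈ A, ∃ b ∈ B, g = a * b) :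
    Fac A B N := by
  -- orders
  have hG : Nat.card A * Nat.card B = Nat.card G := by
    refine (isComplement'_of_disjoint_and_mul_eq_univ
      (Subgroup.disjoint_of_coprime_natCard hcop) ?_).card_mul_card
    ext g
    simp only [Set.mem_univ, iff_true]
    obtain ⟨a, ha, b, hb, e⟩ := hfac g
    exact Set.mem_mul.mpr ⟨a, ha, b, hb, e.symm⟩
  set a := Nat.card (A.subgroupOf N) with ha
  set b := Nat.card (B.subgroupOf N) with hb
  have hcA : a ∣ Nat.card A := card_subgroupOf_dvd A N
  have hcB : b ∣ Nat.card B := card_subgroupOf_dvd B N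
  have hiA : (A.subgroupOf N).index ∣ Nat.card B := by
    have h1 : (A.subgroupOf N).index = (A.relIndex N) := rfl
    have h2 : A.relIndex N ∣ A.index := by
      rw [← Cfsg.Agent.Lib.Solvable.Misc1.relIndex_sup_eq A N,
        ← Subgroup.relIndex_mul_index (le_sup_left : A ≤ A ⊔ N)]
      exact dvd_mul_right _ _
    have h3 : A.index = Nat.card B := by
      have := Subgroup.card_mul_index A
      rw [← hG] at this
      exact Nat.eq_of_mul_eq_mul_left Nat.card_pos this
    rw [h1]
    rw [h3] at h2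
    exact h2
  have hiB : (B.subgroupOf N).index ∣ Nat.card A := by
    have h1 : (B.subgroupOf N).index = (B.relIndex N) := rfl
    have h2 : B.relIndex N ∣ B.index := by
      rw [← Cfsg.Agent.Lib.Solvable.Misc1.relIndex_sup_eq B N,
        ← Subgroup.relIndex_mul_index (le_sup_left : B ≤ B ⊔ N)]
      exact dvd_mul_right _ _
    have h3 : B.index = Nat.card A := by
      have := Subgroup.card_mul_index B
      rw [← hG, mul_comm (Nat.card A)] at this
      exact Nat.eq_of_mul_eq_mul_left Nat.card_pos this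
    rw [h1]
    rw [h3] at h2
    exact h2
  have e1 : a * (A.subgroupOf N).index = Nat.card N := Subgroup.card_mul_index _
  have e2 : b * (B.subgroupOf N).index = Nat.card N := Subgroup.card_mul_index _
  set c := (A.subgroupOf N).index with hc
  set d := (B.subgroupOf N).index with hd
  -- `a * c = b * d`, `a, d ∣ |A|`, `b, c ∣ |B|`
  have hab : a.Coprime b := Nat.Coprime.coprime_dvd_left hcA (Nat.Coprime.coprime_dvd_right hcB hcop)
  have hdc : d.Coprime c := Nat.Coprime.coprime_dvd_left hiB (Nat.Coprime.coprime_dvd_right hiA hcop)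
  have h1 : a ∣ d := by
    have : a ∣ b * d := ⟨c, by rw [e1, e2]⟩
    exact hab.dvd_of_dvd_mul_left this
  have h2 : d ∣ a := by
    have : d ∣ a * c := ⟨b, by rw [e1, ← e2, mul_comm]⟩
    exact hdc.dvd_of_dvd_mul_right this
  have had : a = d := Nat.dvd_antisymm h1 h2
  have hcard : a * b = Nat.card N := by
    rw [← e2, had, mul_comm]
  have hco : Subgroup.IsComplement' (A.subgroupOf N) (B.subgroupOf N) :=
    isComplement'_of_coprime hcard hab
  intro g hg
  obtain ⟨⟨⟨x, hx⟩, ⟨y, hy⟩⟩, e⟩ := hco.2 ⟨g, hg⟩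
  have e' : ((x : N) : G) * (y : N) = g := congrArg Subtype.val e
  exact ⟨x, hx, x.2, y, hy, y.2, e'.symm⟩

end Aux

/-- Solvability of a coprime product of nilpotent groups. -/
theorem isSolvable_of_coprime_aux : ∀ (n : ℕ) (G : Type u) [Group G] [Finite G], Nat.card G = n →
    ∀ (A B : Subgroup G), Group.IsNilpotent A → Group.IsNilpotent B →
    (Nat.card A).Coprime (Nat.card B) → (∀ g, ∃ a ∈ A, ∃ b ∈ B, g = a * b) → Group.IsSolvable G := by
  intro n
  induction n using Nat.strong_induction_on with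
  | _ n ih =>
  intro G _ _ hn A B hA hB hcop hfac
  -- the inductive hypothesis for subgroups
  have hsub : ∀ H : Subgroup G, H ≠ ⊤ → Fac A B H → Group.IsSolvable H := by
    intro H hH hF
    have hlt : Nat.card H < n := by
      rw [← hn]
      refine lt_of_le_of_ne (Subgroup.card_le_card_group H) fun e => hH ?_
      exact Subgroup.eq_top_of_card_eq H e
    refine ih _ hlt H rfl (A.subgroupOf H) (B.subgroupOf H) (nilpotent_subgroupOf hA H)
      (nilpotent_subgroupOf hB H) ?_ ?_
    · exact Nat.Coprime.coprime_dvd_left (card_subgroupOf_dvd A H)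
        (Nat.Coprime.coprime_dvd_right (card_subgroupOf_dvd B H) hcop)
    · intro g
      obtain ⟨a, ha, haH, b, hb, hbH, e⟩ := hF g g.2
      exact ⟨⟨a, haH⟩, ha, ⟨b, hbH⟩, hb, Subtype.ext e⟩
  by_cases hsimp : ∀ N : Subgroup G, N.Normal → N = ⊥ ∨ N = ⊤
  · by_cases hcomm : ∀ x y : G, x * y = y * x
    · exact Group.isSolvable_of_comm hcomm
    by_cases hnt : Nontrivial G
    · exfalso
      push Not at hcomm
      have hsimple : IsSimpleGroup G := ⟨fun N hN => hsimp N hN⟩
      exact Ctx.false_ (A := A) (B := B) ⟨hsimple, hcomm, hA, hB, hcop, hfac, hsub⟩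
    · rw [not_nontrivial_iff_subsingleton] at hnt
      exact inferInstance
  · push Not at hsimp
    obtain ⟨N, hN, hN1, hN2⟩ := hsimp
    haveI := hN
    have hF : Fac A B N := fac_of_normal hcop hfac
    haveI hs1 : Group.IsSolvable N := hsub N hN2 hF
    have hcardlt : Nat.card (G ⧸ N) < n := by
      rw [← hn, ← Subgroup.index_eq_card]
      have h1 := Subgroup.card_mul_index N
      have h2 : 1 < Nat.card N := by
        have : Nontrivial N := (Subgroup.nontrivial_iff_ne_bot N).mpr hN1
        exact Finite.one_lt_card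
      have h3 : 0 < N.index := Nat.pos_of_ne_zero Subgroup.index_ne_zero_of_finite
      nlinarith
    haveI hs2 : Group.IsSolvable (G ⧸ N) := by
      refine ih _ hcardlt (G ⧸ N) rfl (A.map (QuotientGroup.mk' N)) (B.map (QuotientGroup.mk' N))
        (nilpotent_map hA _) (nilpotent_map hB _) ?_ ?_
      · exact Nat.Coprime.coprime_dvd_left (card_map_dvd A _)
          (Nat.Coprime.coprime_dvd_right (card_map_dvd B _) hcop)
      · intro g
        obtain ⟨x, rfl⟩ := QuotientGroup.mk'_surjective N g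
        obtain ⟨a, ha, b, hb, rfl⟩ := hfac x
        exact ⟨_, ⟨a, ha, rfl⟩, _, ⟨b, hb, rfl⟩, map_mul _ a b⟩
    exact Group.isSolvable_of_ker_le_range N.subtype (QuotientGroup.mk' N) (by
      intro x hx
      rw [MonoidHom.mem_ker] at hx
      exact ⟨⟨x, (QuotientGroup.eq_one_iff x).mp hx⟩, rfl⟩)

theorem isSolvable_of_coprime {G : Type u} [Group G] [Finite G] (A B : Subgroup G)
    (hA : Group.IsNilpotent A) (hB : Group.IsNilpotent B)
    (hcop : (Nat.card A).Coprime (Nat.card B)) (hfac : ∀ g, ∃ a ∈ A, ∃ b ∈ B, g = a * b) :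
    Group.IsSolvable G :=
  isSolvable_of_coprime_aux _ G rfl A B hA hB hcop hfac

section Perm

variable {G : Type*} [Group G] [Finite G]

/-- Product of two subgroups of a subgroup `S` with `|P||Q| = |S|` and coprime orders. -/
theorem coe_eq_mul_of_card {S P Q : Subgroup G} (hP : P ≤ S) (hQ : Q ≤ S)
    (hcard : Nat.card P * Nat.card Q = Nat.card S) (hc : (Nat.card P).Coprime (Nat.card Q)) :
    (S : Set G) = (P : Set G) * (Q : Set G) := by
  have h1 : Nat.card (P.subgroupOf S) = Nat.card P := by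
    have : Nat.card ((P.subgroupOf S).map S.subtype) = Nat.card (P.subgroupOf S) :=
      Subgroup.card_map_of_injective S.subtype_injective
    rw [Subgroup.subgroupOf_map_subtype, inf_of_le_left hP] at this
    exact this.symm
  have h2 : Nat.card (Q.subgroupOf S) = Nat.card Q := by
    have : Nat.card ((Q.subgroupOf S).map S.subtype) = Nat.card (Q.subgroupOf S) :=
      Subgroup.card_map_of_injective S.subtype_injective
    rw [Subgroup.subgroupOf_map_subtype, inf_of_le_left hQ] at this
    exact this.symm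
  have hco : Subgroup.IsComplement' (P.subgroupOf S) (Q.subgroupOf S) :=
    isComplement'_of_coprime (by rw [h1, h2, hcard]) (by rw [h1, h2]; exact hc)
  ext g
  constructor
  · intro hg
    obtain ⟨⟨⟨x, hx⟩, ⟨y, hy⟩⟩, e⟩ := hco.2 ⟨g, hg⟩
    have e' : ((x : S) : G) * (y : S) = g := congrArg Subtype.val e
    exact Set.mem_mul.mpr ⟨x, hx, y, hy, e'⟩
  · intro hg
    obtain ⟨x, hx, y, hy, rfl⟩ := Set.mem_mul.mp hg
    exact S.mul_mem (hP hx) (hQ hy)

theorem sylow_map_normal {A : Subgroup G} (hA : Group.IsNilpotent A) {p : ℕ} [Fact p.Prime]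
    (P : Sylow p A) (a : G) (ha : a ∈ A) {x : G} (hx : x ∈ (P : Subgroup A).map A.subtype) :
    a * x * a⁻¹ ∈ (P : Subgroup A).map A.subtype := by
  obtain ⟨y, hy, rfl⟩ := hx
  haveI := hA
  have hn := sylow_normal_nil P
  exact ⟨⟨a, ha⟩ * y * (⟨a, ha⟩ : A)⁻¹, hn.conj_mem y hy _, by simp⟩

/-- Permutability of Sylow subgroups in coprime factorizations -/
theorem exists_subgroup_mul {A B : Subgroup G} (hA : Group.IsNilpotent A)
    (hB : Group.IsNilpotent B) (hcop : (Nat.card A).Coprime (Nat.card B))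
    (hfac : ∀ g, ∃ a ∈ A, ∃ b ∈ B, g = a * b) [Group.IsSolvable G] {p q : ℕ} [hp : Fact p.Prime]
    [hq : Fact q.Prime] (P : Sylow p A) (Q : Sylow q B) :
    ∃ S : Subgroup G, (S : Set G) = (((P : Subgroup A).map A.subtype : Subgroup G) : Set G) *
      (((Q : Subgroup B).map B.subtype : Subgroup G) : Set G) := by
  classical
  set P' : Subgroup G := (P : Subgroup A).map A.subtype with hP'
  set Q' : Subgroup G := (Q : Subgroup B).map B.subtype with hQ'
  by_cases hP1 : P' = ⊥
  · refine ⟨Q', ?_⟩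
    rw [hP1]
    ext x
    simp
  by_cases hQ1 : Q' = ⊥
  · refine ⟨P', ?_⟩
    rw [hQ1]
    ext x
    simp
  have hcP : Nat.card P' = Nat.card (P : Subgroup A) :=
    Subgroup.card_map_of_injective A.subtype_injective
  have hcQ : Nat.card Q' = Nat.card (Q : Subgroup B) :=
    Subgroup.card_map_of_injective B.subtype_injective
  -- `p ∣ |A|`, `q ∣ |B|`
  have hpA : p ∣ Nat.card A := by
    by_contra hnd
    apply hP1
    have := Cfsg.Agent.Lib.Core.Basic.pCore_eq_bot_of_not_dvd (G := A) (p := p) hnd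
    rw [hP', (?_ : (P : Subgroup A) = ⊥)]
    · exact Subgroup.map_bot _
    · rw [eq_bot_iff, ← this]
      exact le_pCore (by haveI := hA; exact sylow_normal_nil P) P.isPGroup'
  have hqB : q ∣ Nat.card B := by
    by_contra hnd
    apply hQ1
    have := Cfsg.Agent.Lib.Core.Basic.pCore_eq_bot_of_not_dvd (G := B) (p := q) hnd
    rw [hQ', (?_ : (Q : Subgroup B) = ⊥)]
    · exact Subgroup.map_bot _
    · rw [eq_bot_iff, ← this]
      exact le_pCore (by haveI := hB; exact sylow_normal_nil Q) Q.isPGroup'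
  have hpB : ¬ p ∣ Nat.card B := by
    intro hb
    have := Nat.dvd_gcd hpA hb
    rw [hcop.gcd_eq_one] at this
    exact hp.out.one_lt.ne' (Nat.dvd_one.mp this)
  have hqA : ¬ q ∣ Nat.card A := by
    intro hb
    have := Nat.dvd_gcd hb hqB
    rw [hcop.gcd_eq_one] at this
    exact hq.out.one_lt.ne' (Nat.dvd_one.mp this)
  have hpq : p ≠ q := by
    rintro rfl
    exact hpB hqB
  have hG : Nat.card A * Nat.card B = Nat.card G := by
    refine (isComplement'_of_disjoint_and_mul_eq_univ
      (Subgroup.disjoint_of_coprime_natCard hcop) ?_).card_mul_card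
    ext g
    simp only [Set.mem_univ, iff_true]
    obtain ⟨a, ha, b, hb, e⟩ := hfac g
    exact Set.mem_mul.mpr ⟨a, ha, b, hb, e.symm⟩
  -- `|A| = |P'| * a'`, `|B| = |Q'| * b'`
  have h1 : Nat.card P' * (P : Subgroup A).index = Nat.card A := by
    rw [hcP]; exact Subgroup.card_mul_index _
  have h2 : Nat.card Q' * (Q : Subgroup B).index = Nat.card B := by
    rw [hcQ]; exact Subgroup.card_mul_index _
  set a' := (P : Subgroup A).index with ha'
  set b' := (Q : Subgroup B).index with hb'
  have hpa : ¬ p ∣ a' := P.not_dvd_index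
  have hqb : ¬ q ∣ b' := Q.not_dvd_index
  obtain ⟨k, hk⟩ := IsPGroup.iff_card.mp (P.isPGroup'.map A.subtype : IsPGroup p P')
  obtain ⟨l, hl⟩ := IsPGroup.iff_card.mp (Q.isPGroup'.map B.subtype : IsPGroup q Q')
  set m := Nat.card P' * Nat.card Q' with hm
  set n := a' * b' with hn
  have hGmn : Nat.card G = m * n := by
    rw [← hG, ← h1, ← h2, hm, hn]
    ring
  have hqa : ¬ q ∣ a' := fun h => hqA (by rw [← h1]; exact h.mul_left _)
  have hpb : ¬ p ∣ b' := fun h => hpB (by rw [← h2]; exact h.mul_left _)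
  have hmn : m.Coprime n := by
    rw [hm, hn, hk, hl]
    refine Nat.Coprime.mul_left (Nat.Coprime.pow_left _ ?_) (Nat.Coprime.pow_left _ ?_)
    · exact (Nat.Prime.coprime_iff_not_dvd hp.out).mpr (fun h =>
        ((Nat.Prime.dvd_mul hp.out).mp h).elim hpa hpb)
    · exact (Nat.Prime.coprime_iff_not_dvd hq.out).mpr (fun h =>
        ((Nat.Prime.dvd_mul hq.out).mp h).elim hqa hqb)
  obtain ⟨H, hH⟩ := Cfsg.Agent.Lib.Solvable.Hall.exists_card_eq m n hGmn hmn
  have hidx : H.index = n := by
    have := Subgroup.card_mul_index H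
    rw [hGmn, hH] at this
    have hmpos : 0 < m := by
      rw [← hH]
      exact Nat.card_pos
    exact Nat.eq_of_mul_eq_mul_left hmpos this
  have hHc : (Nat.card H).Coprime H.index := by rw [hH, hidx]; exact hmn
  have hPc : (Nat.card P').Coprime H.index := by
    rw [hidx, hk]
    exact Nat.Coprime.pow_left _ ((Nat.Prime.coprime_iff_not_dvd hp.out).mpr (fun h =>
        ((Nat.Prime.dvd_mul hp.out).mp h).elim hpa hpb))
  have hQc : (Nat.card Q').Coprime H.index := by
    rw [hidx, hl]
    exact Nat.Coprime.pow_left _ ((Nat.Prime.coprime_iff_not_dvd hq.out).mpr (fun h =>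
        ((Nat.Prime.dvd_mul hq.out).mp h).elim hqa hqb))
  obtain ⟨g₁, hg₁⟩ := Cfsg.Agent.Lib.Solvable.Hall.exists_le_conj H P' hHc hPc
  obtain ⟨g₂, hg₂⟩ := Cfsg.Agent.Lib.Solvable.Hall.exists_le_conj H Q' hHc hQc
  -- `g₂ g₁⁻¹ = b a`
  obtain ⟨a, ha, b, hb, e⟩ := hfac (g₁ * g₂⁻¹)
  -- `H₂ = g₁ ... `: conjugate
  set S : Subgroup G := MulAut.conj (a⁻¹ * g₁) • H with hS
  have hPS : P' ≤ S := by
    intro x hx
    rw [hS, Cfsg.Agent.Lib.Solvable.Hall.mem_conj_smul_iff]
    have h3 := hg₁ (sylow_map_normal hA P a ha hx)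
    rw [Cfsg.Agent.Lib.Solvable.Hall.mem_conj_smul_iff] at h3
    have e1 : (a⁻¹ * g₁)⁻¹ * x * (a⁻¹ * g₁) = g₁⁻¹ * (a * x * a⁻¹) * g₁ := by group
    rw [e1]
    exact h3
  have hQS : Q' ≤ S := by
    intro x hx
    rw [hS, Cfsg.Agent.Lib.Solvable.Hall.mem_conj_smul_iff]
    have h3 := hg₂ (sylow_map_normal hB Q b hb hx)
    rw [Cfsg.Agent.Lib.Solvable.Hall.mem_conj_smul_iff] at h3
    -- `a⁻¹ g₁ = b g₂`
    have e2 : a⁻¹ * g₁ = b * g₂ := by
      have : g₁ = a * b * g₂ := by rw [← e]; group
      rw [this]; group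
    have e1 : (a⁻¹ * g₁)⁻¹ * x * (a⁻¹ * g₁) = g₂⁻¹ * (b⁻¹ * x * b) * g₂ := by
      rw [e2]; group
    rw [e1]
    have h4 := hg₂ (sylow_map_normal hB Q b⁻¹ (B.inv_mem hb) hx)
    rw [Cfsg.Agent.Lib.Solvable.Hall.mem_conj_smul_iff] at h4
    simpa using h4
  refine ⟨S, ?_⟩
  apply coe_eq_mul_of_card hPS hQS
  · rw [hS, Cfsg.Agent.Lib.Solvable.Hall.card_conj_smul, hH]
  · rw [hk, hl]
    exact Nat.Coprime.pow _ _ ((Nat.coprime_primes hp.out hq.out).mpr hpq)

end Perm

end Cfsg.Agent.Lib.Perm.KWCop
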