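/-
Kegel's lemma on permuting subgroups.
-/
import Cfsg.Agent.Lib.Perm.KWCop

set_option autoImplicit false
set_option linter.style.haveILetI false
set_option linter.unusedSectionVars false
set_option linter.unusedVariables false

namespace Cfsg.Agent.Lib.Perm.KWKegel

open Subgroup Cfsg Cfsg.Agent.Lib.LocalStruct.Basic Cfsg.Agent.Lib.LocalStruct.Comm

variable {G : Type*} [Group G]

/-- `A` permutes with `X`. -/
def Perm' (A X : Subgroup G) : Prop := ∀ a ∈ A, ∀ x ∈ X, ∃ x' ∈ X, ∃ a' ∈ A, a * x = x' * a'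

theorem Perm'.symm' {A X : Subgroup G} (h : Perm' A X) :
    ∀ a ∈ A, ∀ x ∈ X, ∃ a' ∈ A, ∃ x' ∈ X, x * a = a' * x' := by
  intro a ha x hx
  obtain ⟨x', hx', a', ha', e⟩ := h a⁻¹ (A.inv_mem ha) x⁻¹ (X.inv_mem hx)
  refine ⟨a'⁻¹, A.inv_mem ha', x'⁻¹, X.inv_mem hx', ?_⟩
  have : (a⁻¹ * x⁻¹)⁻¹ = (x' * a')⁻¹ := by rw [e]
  simpa using this

theorem Perm'.sup {A X Y : Subgroup G} (hX : Perm' A X) (hY : Perm' A Y) : Perm' A (X ⊔ Y) := by
  set Q : G → Prop := fun z => ∀ a ∈ A, ∃ z' ∈ X ⊔ Y, ∃ a' ∈ A, a * z = z' * a' with hQ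
  have hmul : ∀ {z₁ z₂ : G}, Q z₁ → Q z₂ → Q (z₁ * z₂) := by
    intro z₁ z₂ h₁ h₂ a ha
    obtain ⟨z₁', hz₁', a₁, ha₁, e₁⟩ := h₁ a ha
    obtain ⟨z₂', hz₂', a₂, ha₂, e₂⟩ := h₂ a₁ ha₁
    refine ⟨z₁' * z₂', (X ⊔ Y).mul_mem hz₁' hz₂', a₂, ha₂, ?_⟩
    rw [← mul_assoc, e₁, mul_assoc, e₂, mul_assoc]
  let K : Subgroup G :=
    { carrier := {z | Q z ∧ Q z⁻¹}
      mul_mem' := by
        rintro z₁ z₂ ⟨h₁, h₁'⟩ ⟨h₂, h₂'⟩
        refine ⟨hmul h₁ h₂, ?_⟩
        rw [mul_inv_rev]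
        exact hmul h₂' h₁'
      one_mem' := by
        have h1 : Q 1 := fun a ha => ⟨1, one_mem _, a, ha, by simp⟩
        exact ⟨h1, by simpa using h1⟩
      inv_mem' := by
        rintro z ⟨h, h'⟩
        exact ⟨h', by simpa using h⟩ }
  have hXK : X ≤ K := by
    intro x hx
    refine ⟨fun a ha => ?_, fun a ha => ?_⟩
    · obtain ⟨x', hx', a', ha', e⟩ := hX a ha x hx
      exact ⟨x', mem_sup_left hx', a', ha', e⟩
    · obtain ⟨x', hx', a', ha', e⟩ := hX a ha x⁻¹ (X.inv_mem hx)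
      exact ⟨x', mem_sup_left hx', a', ha', e⟩
  have hYK : Y ≤ K := by
    intro x hx
    refine ⟨fun a ha => ?_, fun a ha => ?_⟩
    · obtain ⟨x', hx', a', ha', e⟩ := hY a ha x hx
      exact ⟨x', mem_sup_right hx', a', ha', e⟩
    · obtain ⟨x', hx', a', ha', e⟩ := hY a ha x⁻¹ (Y.inv_mem hx)
      exact ⟨x', mem_sup_right hx', a', ha', e⟩
  intro a ha z hz
  exact (sup_le hXK hYK hz).1 a ha

/-- The product subgroup. -/
def prodSub (A X : Subgroup G) (h : Perm' A X) : Subgroup G where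
  carrier := {g | ∃ a ∈ A, ∃ x ∈ X, g = a * x}
  mul_mem' := by
    rintro _ _ ⟨a, ha, x, hx, rfl⟩ ⟨a₂, ha₂, x₂, hx₂, rfl⟩
    obtain ⟨a', ha', x', hx', e⟩ := h.symm' a₂ ha₂ x hx
    refine ⟨a * a', A.mul_mem ha ha', x' * x₂, X.mul_mem hx' hx₂, ?_⟩
    calc a * x * (a₂ * x₂) = a * (x * a₂) * x₂ := by group
      _ = a * (a' * x') * x₂ := by rw [e]
      _ = _ := by group
  one_mem' := ⟨1, A.one_mem, 1, X.one_mem, by simp⟩
  inv_mem' := by
    rintro _ ⟨a, ha, x, hx, rfl⟩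
    obtain ⟨a', ha', x', hx', e⟩ := h.symm' a⁻¹ (A.inv_mem ha) x⁻¹ (X.inv_mem hx)
    exact ⟨a', ha', x', hx', by rw [mul_inv_rev]; exact e⟩

variable [Finite G]

/-- **Kegel's lemma**. -/
theorem kegel_aux (A : Subgroup G) (hA : normalClosure (A : Set G) = ⊤) :
    ∀ (n : ℕ) (B : Subgroup G), Nat.card G - Nat.card B = n →
      (∀ g, Perm' A (B.map (MulAut.conj g).toMonoidHom)) → normalClosure (B : Set G) = ⊤ →
      ∀ y, ∃ a ∈ A, ∃ b ∈ B, y = a * b := by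
  intro n
  induction n using Nat.strong_induction_on with
  | _ n ih =>
  intro B hn hperm hB
  by_cases hc : ∃ g, ∃ a ∈ A, a ∉ normalizer ((B.map (MulAut.conj g).toMonoidHom : Subgroup G) : Set G)
  · obtain ⟨g, a, ha, haN⟩ := hc
    set B' : Subgroup G := B.map (MulAut.conj g).toMonoidHom with hB'
    set E : Subgroup G := B' ⊔ B'.map (MulAut.conj a).toMonoidHom with hE
    have hcardB' : Nat.card B' = Nat.card B := card_map_conj g B
    have hEne : E ≠ B' := by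
      intro e
      apply haN
      apply mem_normalizer_of_conj_mem
      intro x hx
      have : a * x * a⁻¹ ∈ E := mem_sup_right ⟨x, hx, rfl⟩
      rwa [e] at this
    have hcardlt : Nat.card B < Nat.card E := by
      rw [← hcardB']
      refine lt_of_le_of_ne (Subgroup.card_le_of_le le_sup_left) fun e => hEne ?_
      exact (Subgroup.eq_of_le_of_card_ge le_sup_left e.ge).symm
    have hcardE : Nat.card E ≤ Nat.card G := Subgroup.card_le_card_group E
    have hpermE : ∀ h, Perm' A (E.map (MulAut.conj h).toMonoidHom) := by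
      intro h
      rw [hE, Subgroup.map_sup]
      refine Perm'.sup ?_ ?_
      · rw [hB', ← map_conj_mul]
        exact hperm _
      · rw [hB', ← map_conj_mul, ← map_conj_mul]
        exact hperm _
    have hncE : normalClosure (E : Set G) = ⊤ := by
      rw [eq_top_iff, ← hB]
      refine normalClosure_le_normal ?_
      intro b hb
      have h1 : g * b * g⁻¹ ∈ E := mem_sup_left ⟨b, hb, rfl⟩
      have h2 : g * b * g⁻¹ ∈ normalClosure (E : Set G) := subset_normalClosure h1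
      have h3 := (normalClosure_normal (s := (E : Set G))).conj_mem _ h2 g⁻¹
      simpa [mul_assoc] using h3
    have hfacE := ih _ (by omega) E rfl hpermE hncE
    -- `G = A B'`
    have hP : Perm' A B' := hperm g
    have hEP : E ≤ prodSub A B' hP := by
      refine sup_le ?_ ?_
      · intro x hx
        exact ⟨1, A.one_mem, x, hx, by simp⟩
      · rintro _ ⟨x, hx, rfl⟩
        have h1 : a ∈ prodSub A B' hP := ⟨a, ha, 1, B'.one_mem, by simp⟩
        have h2 : x ∈ prodSub A B' hP := ⟨1, A.one_mem, x, hx, by simp⟩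
        exact (prodSub A B' hP).mul_mem ((prodSub A B' hP).mul_mem h1 h2)
          ((prodSub A B' hP).inv_mem h1)
    have hfacB' : ∀ y, ∃ a₁ ∈ A, ∃ b₁ ∈ B, y = a₁ * (g * b₁ * g⁻¹) := by
      intro y
      obtain ⟨a₁, ha₁, e, heE, rfl⟩ := hfacE y
      obtain ⟨a₂, ha₂, x, hx, rfl⟩ := hEP heE
      obtain ⟨b₁, hb₁, rfl⟩ := hx
      exact ⟨a₁ * a₂, A.mul_mem ha₁ ha₂, b₁, hb₁, by
        simp only [MulEquiv.coe_toMonoidHom, MulAut.conj_apply]
        group⟩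
    have hdouble : ∀ y, ∃ a₁ ∈ A, ∃ b₁ ∈ B, y = a₁ * g * b₁ := by
      intro y
      obtain ⟨a₁, ha₁, b₁, hb₁, e⟩ := hfacB' (y * g⁻¹)
      refine ⟨a₁, ha₁, b₁, hb₁, ?_⟩
      have : y = y * g⁻¹ * g := by group
      rw [this, e]
      group
    obtain ⟨a₂, ha₂, b₂, hb₂, e₂⟩ := hdouble 1
    have hg : g = a₂⁻¹ * b₂⁻¹ := by
      have : g = a₂⁻¹ * (a₂ * g * b₂) * b₂⁻¹ := by group
      rw [this, ← e₂]
      group
    intro y
    obtain ⟨a₁, ha₁, b₁, hb₁, e⟩ := hdouble y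
    refine ⟨a₁ * a₂⁻¹, A.mul_mem ha₁ (A.inv_mem ha₂), b₂⁻¹ * b₁, B.mul_mem (B.inv_mem hb₂) hb₁, ?_⟩
    rw [e, hg]
    group
  · push Not at hc
    -- `B` is normal
    have hN : normalizer (B : Set G) = ⊤ := by
      rw [eq_top_iff, ← hA, normalClosure, closure_le]
      intro x hx
      rw [Group.mem_conjugatesOfSet_iff] at hx
      obtain ⟨z, hz, hzx⟩ := hx
      obtain ⟨c, rfl⟩ := isConj_iff.mp hzx
      have h1 := hc c⁻¹ z hz
      have h2 : z ∈ normalizer ((B.map (MulAut.conj c⁻¹).toMonoidHom : Subgroup G) : Set G) := h1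
      rw [normalizer_map_conj] at h2
      obtain ⟨t, ht, e⟩ := h2
      simp only [MulEquiv.coe_toMonoidHom, MulAut.conj_apply, inv_inv] at e
      have : c * z * c⁻¹ = t := by
        rw [← e]
        group
      rw [SetLike.mem_coe, this]
      exact ht
    have hBn : B.Normal := normalizer_eq_top_iff.mp hN
    have hBtop : B = ⊤ := by
      rw [eq_top_iff, ← hB]
      exact normalClosure_le_normal le_rfl
    intro y
    exact ⟨1, A.one_mem, y, hBtop ▸ mem_top y, by simp⟩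

theorem kegel (A B : Subgroup G) (hperm : ∀ g, Perm' A (B.map (MulAut.conj g).toMonoidHom))
    (hA : normalClosure (A : Set G) = ⊤) (hB : normalClosure (B : Set G) = ⊤) :
    ∀ y, ∃ a ∈ A, ∃ b ∈ B, y = a * b :=
  kegel_aux A hA _ B rfl hperm hB

/-- Kegel's lemma in a subgroup. -/
theorem kegel_in (H X Y : Subgroup G) (hXH : X ≤ H) (hYH : Y ≤ H)
    (hperm : ∀ g ∈ H, Perm' X (Y.map (MulAut.conj g).toMonoidHom))
    (hne : ∃ h ∈ H, ¬ ∃ x ∈ X, ∃ y ∈ Y, h = x * y) :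
    ∃ K : Subgroup G, K ≤ H ∧ K ≠ H ∧ H ≤ normalizer (K : Set G) ∧ (X ≤ K ∨ Y ≤ K) := by
  set X' := X.subgroupOf H with hX'
  set Y' := Y.subgroupOf H with hY'
  have hperm' : ∀ g : H, Perm' X' (Y'.map (MulAut.conj g).toMonoidHom) := by
    rintro g a ha _ ⟨y, hy, rfl⟩
    obtain ⟨_, ⟨y', hy', rfl⟩, a', ha', e⟩ := hperm g g.2 a ha _ ⟨y, hy, rfl⟩
    simp only [MulEquiv.coe_toMonoidHom, MulAut.conj_apply] at e
    refine ⟨⟨g * y' * (g : G)⁻¹, ?_⟩, ?_, ⟨a', hXH ha'⟩, ha', ?_⟩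
    · exact H.mul_mem (H.mul_mem g.2 (hYH hy')) (H.inv_mem g.2)
    · refine ⟨⟨y', hYH hy'⟩, hy', ?_⟩
      exact Subtype.ext (by simp)
    · exact Subtype.ext (by simpa using e)
  have key : ¬ (normalClosure (X' : Set H) = ⊤ ∧ normalClosure (Y' : Set H) = ⊤) := by
    rintro ⟨h1, h2⟩
    obtain ⟨h, hh, hnot⟩ := hne
    obtain ⟨a, ha, b, hb, e⟩ := kegel X' Y' hperm' h1 h2 ⟨h, hh⟩
    exact hnot ⟨a, ha, b, hb, congrArg Subtype.val e⟩
  have hgen : ∀ (C : Subgroup H), normalClosure (C : Set H) ≠ ⊤ →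
      ∃ K : Subgroup G, K ≤ H ∧ K ≠ H ∧ H ≤ normalizer (K : Set G) ∧ C.map H.subtype ≤ K := by
    intro C hC
    refine ⟨(normalClosure (C : Set H)).map H.subtype, ?_, ?_, ?_, ?_⟩
    · rintro _ ⟨x, -, rfl⟩
      exact x.2
    · intro e
      apply hC
      rw [eq_top_iff]
      intro x _
      have : (x : G) ∈ (normalClosure (C : Set H)).map H.subtype := by
        rw [e]
        exact x.2
      obtain ⟨y, hy, e'⟩ := this
      have : y = x := Subtype.ext e'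
      rwa [← this]
    · intro h hh
      apply mem_normalizer_of_conj_mem
      rintro _ ⟨x, hx, rfl⟩
      refine ⟨⟨h, hh⟩ * x * (⟨h, hh⟩ : H)⁻¹,
        (normalClosure_normal (s := (C : Set H))).conj_mem x hx _, by simp⟩
    · exact Subgroup.map_mono subset_normalClosure
  by_cases hc : normalClosure (X' : Set H) = ⊤
  · have hc2 : normalClosure (Y' : Set H) ≠ ⊤ := fun h2 => key ⟨hc, h2⟩
    obtain ⟨K, h1, h2, h3, h4⟩ := hgen Y' hc2
    refine ⟨K, h1, h2, h3, Or.inr ?_⟩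
    intro y hy
    exact h4 ⟨⟨y, hYH hy⟩, hy, rfl⟩
  · obtain ⟨K, h1, h2, h3, h4⟩ := hgen X' hc
    refine ⟨K, h1, h2, h3, Or.inl ?_⟩
    intro y hy
    exact h4 ⟨⟨y, hXH hy⟩, hy, rfl⟩

end Cfsg.Agent.Lib.Perm.KWKegel
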