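/-
Products of Sylow subgroups in a product of two nilpotent groups.
-/
import Cfsg.Agent.Lib.Perm.KWKegel

set_option autoImplicit false
set_option linter.style.haveILetI false
set_option linter.unusedSectionVars false
set_option linter.unusedVariables false

namespace Cfsg.Agent.Lib.Perm.KWSyl

open Subgroup Cfsg Cfsg.Agent.Lib.Core.Basic Cfsg.Agent.Lib.OddLocal.CN
  Cfsg.Agent.Lib.LocalStruct.PCoreOf Cfsg.Agent.Lib.LocalStruct.Basic
  Cfsg.Agent.Lib.LocalStruct.Comm Cfsg.Agent.Lib.Perm.KWParts Cfsg.Agent.Lib.Perm.KWCtx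
  Cfsg.Agent.Lib.Perm.KWCop Cfsg.Agent.Lib.Perm.KWKegel

section Count

variable {Γ : Type*} [Group Γ] [Finite Γ]

theorem card_inf_mul_ncard (X Y : Subgroup Γ) :
    Nat.card (X ⊓ Y : Subgroup Γ) * (MulAction.orbit Y ((1 : Γ) : Γ ⧸ X)).ncard = Nat.card Y := by
  rw [← MulAction.index_stabilizer]
  have h1 : MulAction.stabilizer Y ((1 : Γ) : Γ ⧸ X) = X.subgroupOf Y := by
    ext y
    rw [MulAction.mem_stabilizer_iff, mem_subgroupOf, eq_comm]
    change ((1 : Γ) : Γ ⧸ X) = ((y * 1 : Γ) : Γ ⧸ X) ↔ _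
    rw [QuotientGroup.eq]
    simp
  have h2 : Nat.card (X.subgroupOf Y) = Nat.card (X ⊓ Y : Subgroup Γ) := by
    rw [← Subgroup.subgroupOf_map_subtype]
    exact (Subgroup.card_map_of_injective Y.subtype_injective).symm
  rw [← h2, h1]
  exact Subgroup.card_mul_index _

theorem card_mul_of_fac (X Y : Subgroup Γ) (h : ∀ g : Γ, ∃ y ∈ Y, ∃ x ∈ X, g = y * x) :
    Nat.card (X ⊓ Y : Subgroup Γ) * Nat.card Γ = Nat.card X * Nat.card Y := by
  have h1 := card_inf_mul_ncard X Y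
  have h2 : MulAction.orbit Y ((1 : Γ) : Γ ⧸ X) = Set.univ := by
    rw [Set.eq_univ_iff_forall]
    intro q
    obtain ⟨g, rfl⟩ := QuotientGroup.mk_surjective q
    obtain ⟨y, hy, x, hx, rfl⟩ := h g
    refine ⟨⟨y, hy⟩, ?_⟩
    change ((y * 1 : Γ) : Γ ⧸ X) = _
    rw [QuotientGroup.eq]
    simpa using hx
  rw [h2, Set.ncard_univ] at h1
  have h3 : Nat.card (Γ ⧸ X) = X.index := rfl
  rw [h3] at h1
  rw [← h1, ← Subgroup.card_mul_index X]
  ring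

theorem fac_of_card_mul (X Y : Subgroup Γ)
    (h : Nat.card (X ⊓ Y : Subgroup Γ) * Nat.card Γ = Nat.card X * Nat.card Y) :
    ∀ g : Γ, ∃ y ∈ Y, ∃ x ∈ X, g = y * x := by
  have h1 := card_inf_mul_ncard X Y
  have h0 : 0 < Nat.card (X ⊓ Y : Subgroup Γ) := Nat.card_pos
  have h4 : 0 < Nat.card X := Nat.card_pos
  have h2 : (MulAction.orbit Y ((1 : Γ) : Γ ⧸ X)).ncard = Nat.card (Γ ⧸ X) := by
    have h3 : Nat.card (Γ ⧸ X) = X.index := rfl
    rw [h3]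
    have h5 := Subgroup.card_mul_index X
    have h6 : Nat.card (X ⊓ Y : Subgroup Γ) * (Nat.card X * X.index) =
        Nat.card (X ⊓ Y : Subgroup Γ) *
          (Nat.card X * (MulAction.orbit Y ((1 : Γ) : Γ ⧸ X)).ncard) := by
      rw [h5, h, ← h1]
      ring
    exact (Nat.eq_of_mul_eq_mul_left h4 (Nat.eq_of_mul_eq_mul_left h0 h6)).symm
  have h3 : MulAction.orbit Y ((1 : Γ) : Γ ⧸ X) = Set.univ := by
    apply Set.eq_of_subset_of_ncard_le (Set.subset_univ _)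
    rw [Set.ncard_univ, h2]
  intro g
  have h5 : (g : Γ ⧸ X) ∈ MulAction.orbit Y ((1 : Γ) : Γ ⧸ X) := h3 ▸ Set.mem_univ _
  obtain ⟨y, hy⟩ := h5
  change ((y * 1 : Γ) : Γ ⧸ X) = _ at hy
  rw [QuotientGroup.eq] at hy
  refine ⟨y, y.2, (y : Γ)⁻¹ * g, ?_, by simp⟩
  simpa using hy

end Count

variable {G : Type*} [Group G] [Finite G]

/-- subgroup version -/
theorem fac_of_card_mul_sub {S P Q : Subgroup G} (hP : P ≤ S) (hQ : Q ≤ S)
    (h : Nat.card (P ⊓ Q : Subgroup G) * Nat.card S = Nat.card P * Nat.card Q) :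
    ∀ g ∈ S, ∃ y ∈ Q, ∃ x ∈ P, g = y * x := by
  have hc : ∀ {R : Subgroup G}, R ≤ S → Nat.card (R.subgroupOf S) = Nat.card R := by
    intro R hR
    have : Nat.card ((R.subgroupOf S).map S.subtype) = Nat.card (R.subgroupOf S) :=
      Subgroup.card_map_of_injective S.subtype_injective
    rw [Subgroup.subgroupOf_map_subtype, inf_of_le_left hR] at this
    exact this.symm
  have h1 : P.subgroupOf S ⊓ Q.subgroupOf S = (P ⊓ Q).subgroupOf S := by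
    ext x
    simp [mem_subgroupOf]
  have key := fac_of_card_mul (P.subgroupOf S) (Q.subgroupOf S) (by
    rw [h1, hc hP, hc hQ, hc (inf_le_left.trans hP)]
    exact h)
  intro g hg
  obtain ⟨y, hy, x, hx, e⟩ := key ⟨g, hg⟩
  exact ⟨y, hy, x, hx, congrArg Subtype.val e⟩

theorem card_pCoreOf {A : Subgroup G} (hA : Group.IsNilpotent A) (r : ℕ) [hr : Fact r.Prime] :
    Nat.card (pCoreOf r A) = r ^ Nat.factorization (Nat.card A) r := by
  obtain ⟨P⟩ : Nonempty (Sylow r A) := inferInstance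
  haveI := hA
  have hn := sylow_normal_nil P
  have h1 : pCore r A = P := le_antisymm (pCore_le_sylow P) (le_pCore hn P.isPGroup')
  have h2 : Nat.card (pCoreOf r A) = Nat.card (pCore r A) :=
    Subgroup.card_map_of_injective A.subtype_injective
  rw [h2, h1]
  exact P.card_eq_multiplicity

theorem nilpotent_inf {A : Subgroup G} (hA : Group.IsNilpotent A) (B : Subgroup G) :
    Group.IsNilpotent (A ⊓ B : Subgroup G) :=
  isNilpotent_of_injective (Subgroup.inclusion (inf_le_left : A ⊓ B ≤ A))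
    (Subgroup.inclusion_injective _)

theorem pCoreOf_inf {A B : Subgroup G} (hA : Group.IsNilpotent A) (hB : Group.IsNilpotent B)
    (r : ℕ) [hr : Fact r.Prime] : pCoreOf r A ⊓ pCoreOf r B = pCoreOf r (A ⊓ B) := by
  ext x
  constructor
  · rintro ⟨h1, h2⟩
    obtain ⟨k, hk⟩ := pow_eq_one_of_mem_pCoreOf h1
    exact mem_pCoreOf_of_pow (nilpotent_inf hA B) ⟨pCoreOf_le A h1, pCoreOf_le B h2⟩ hk
  · intro h
    obtain ⟨k, hk⟩ := pow_eq_one_of_mem_pCoreOf h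
    have h1 := pCoreOf_le _ h
    exact ⟨mem_pCoreOf_of_pow hA h1.1 hk, mem_pCoreOf_of_pow hB h1.2 hk⟩

theorem exists_sylow_prod {A B : Subgroup G} (hA : Group.IsNilpotent A)
    (hB : Group.IsNilpotent B) (hfac : ∀ g, ∃ a ∈ A, ∃ b ∈ B, g = a * b) (r : ℕ)
    [hr : Fact r.Prime] :
    ∃ S : Subgroup G, IsPGroup r S ∧ pCoreOf r A ≤ S ∧ pCoreOf r B ≤ S ∧
      ∀ x ∈ S, ∃ y ∈ pCoreOf r B, ∃ z ∈ pCoreOf r A, x = y * z := by
  set P := pCoreOf r A with hP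
  set Q := pCoreOf r B with hQ
  have hPp : IsPGroup r P := isPGroup_pCoreOf A
  have hQp : IsPGroup r Q := isPGroup_pCoreOf B
  obtain ⟨S₁, hS₁⟩ := hPp.exists_le_sylow
  obtain ⟨g, hg⟩ := exists_conj_of_not_dvd_index (S₁ : Subgroup G) Q hQp S₁.not_dvd_index
  obtain ⟨a, ha, b, hb, e⟩ := hfac g⁻¹
  have hQS : ∀ x ∈ Q, a * x * a⁻¹ ∈ (S₁ : Subgroup G) := by
    intro x hx
    have h1 := hg _ (conj_mem_pCoreOf b⁻¹ (B.inv_mem hb) hx)
    have h2 : g⁻¹ * (b⁻¹ * x * b⁻¹⁻¹) * g = a * x * a⁻¹ := by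
      have h3 : g = (a * b)⁻¹ := by rw [← e, inv_inv]
      rw [e, h3]
      group
    rwa [h2] at h1
  set S : Subgroup G := (S₁ : Subgroup G).map (MulAut.conj a⁻¹).toMonoidHom with hS
  have hmem : ∀ {x : G}, x ∈ S ↔ a * x * a⁻¹ ∈ (S₁ : Subgroup G) := by
    intro x
    rw [hS, Cfsg.Agent.Lib.LocalStruct.Basic.mem_conj_iff, inv_inv]
  have hSp : IsPGroup r S := isPGroup_map_conj _ S₁.isPGroup'
  have hPS : P ≤ S := fun x hx => hmem.mpr (hS₁ (conj_mem_pCoreOf a ha hx))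
  have hQS' : Q ≤ S := fun x hx => hmem.mpr (hQS x hx)
  refine ⟨S, hSp, hPS, hQS', ?_⟩
  apply fac_of_card_mul_sub hPS hQS'
  have hfac' : ∀ g : G, ∃ y ∈ A, ∃ x ∈ B, g = y * x := hfac
  have hcount := card_mul_of_fac B A hfac'
  have hcS : Nat.card S = r ^ Nat.factorization (Nat.card G) r := by
    rw [hS, card_map_conj]
    exact S₁.card_eq_multiplicity
  rw [pCoreOf_inf hA hB, card_pCoreOf (nilpotent_inf hA B), hcS, card_pCoreOf hA, card_pCoreOf hB,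
    ← pow_add, ← pow_add]
  congr 1
  have h1 : Nat.factorization (Nat.card (B ⊓ A : Subgroup G) * Nat.card G) r =
      Nat.factorization (Nat.card B * Nat.card A) r := by rw [hcount]
  rw [Nat.factorization_mul Nat.card_pos.ne' Nat.card_pos.ne',
    Nat.factorization_mul Nat.card_pos.ne' Nat.card_pos.ne'] at h1
  simp only [Finsupp.add_apply] at h1
  rw [inf_comm] at h1
  omega

/-- `A_r` permutes with all conjugates of `B_r`. -/
theorem perm_pCoreOf {A B : Subgroup G} (hA : Group.IsNilpotent A)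
    (hB : Group.IsNilpotent B) (hfac : ∀ g, ∃ a ∈ A, ∃ b ∈ B, g = a * b) (r : ℕ)
    [hr : Fact r.Prime] (g : G) : Perm' (pCoreOf r A) ((pCoreOf r B).map (MulAut.conj g).toMonoidHom) := by
  obtain ⟨S, hSp, hPS, hQS, hS⟩ := exists_sylow_prod hA hB hfac r
  obtain ⟨a₀, ha₀, b₀, hb₀, rfl⟩ := hfac g
  rintro x hx _ ⟨y, hy, rfl⟩
  simp only [MulEquiv.coe_toMonoidHom, MulAut.conj_apply]
  have hx₁ : a₀⁻¹ * x * a₀⁻¹⁻¹ ∈ pCoreOf r A := conj_mem_pCoreOf a₀⁻¹ (A.inv_mem ha₀) hx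
  have hy₁ : b₀ * y * b₀⁻¹ ∈ pCoreOf r B := conj_mem_pCoreOf b₀ hb₀ hy
  obtain ⟨y₂, hy₂, z₂, hz₂, e⟩ := hS _ (S.mul_mem (hPS hx₁) (hQS hy₁))
  refine ⟨(a₀ * b₀) * (b₀⁻¹ * y₂ * b₀) * (a₀ * b₀)⁻¹, ?_, a₀ * z₂ * a₀⁻¹, conj_mem_pCoreOf a₀ ha₀ hz₂, ?_⟩
  · refine ⟨b₀⁻¹ * y₂ * b₀, ?_, rfl⟩
    have := conj_mem_pCoreOf b₀⁻¹ (B.inv_mem hb₀) hy₂
    simpa using this
  · have e2 : x * (a₀ * b₀ * y * (a₀ * b₀)⁻¹) = a₀ * (a₀⁻¹ * x * a₀⁻¹⁻¹ * (b₀ * y * b₀⁻¹)) * a₀⁻¹ := by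
      group
    rw [e2, e]
    group

end Cfsg.Agent.Lib.Perm.KWSyl
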