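/-
Kegel-Wielandt, general case: reductions.
-/
import Cfsg.Agent.Lib.Perm.KWSyl
import Cfsg.Agent.Lib.Solvable.Carter

set_option autoImplicit false
set_option linter.style.haveILetI false
set_option linter.unusedSectionVars false
set_option linter.unusedVariables false

namespace Cfsg.Agent.Lib.Perm.KWGen

open Subgroup Cfsg Cfsg.Agent.Lib.Core.Basic Cfsg.Agent.Lib.OddLocal.CN
  Cfsg.Agent.Lib.LocalStruct.PCoreOf Cfsg.Agent.Lib.LocalStruct.Basic
  Cfsg.Agent.Lib.LocalStruct.Comm Cfsg.Agent.Lib.Perm.KWParts Cfsg.Agent.Lib.Perm.KWCtx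
  Cfsg.Agent.Lib.Perm.KWCop Cfsg.Agent.Lib.Perm.KWKegel Cfsg.Agent.Lib.Perm.KWSyl
  Cfsg.Agent.Lib.Solvable.Basic

universe u

variable {G : Type u} [Group G] [Finite G]

structure GenCtx (A B : Subgroup G) : Prop where
  nA : Group.IsNilpotent A
  nB : Group.IsNilpotent B
  fac : ∀ g, ∃ a ∈ A, ∃ b ∈ B, g = a * b
  hA : ∀ N : Subgroup G, N.Normal → N ≠ ⊤ → ¬ A ≤ N
  hB : ∀ N : Subgroup G, N.Normal → N ≠ ⊤ → ¬ B ≤ N
  hq : ∀ N : Subgroup G, N.Normal → N ≠ ⊥ → N ⊔ A = ⊤ ∧ N ⊔ B = ⊤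
  hproper : A ≠ ⊤ ∨ B ≠ ⊤

theorem exists_mul_of_sup {N C : Subgroup G} (hN : N.Normal) (h : N ⊔ C = ⊤) (g : G) :
    ∃ c ∈ C, ∃ n ∈ N, g = c * n := by
  haveI := hN
  have h1 : g ∈ ((C ⊔ N : Subgroup G) : Set G) := by
    rw [sup_comm, h]
    exact mem_top g
  rw [Subgroup.mul_normal] at h1
  obtain ⟨c, hc, n, hn, e⟩ := Set.mem_mul.mp h1
  exact ⟨c, hc, n, hn, e.symm⟩

theorem exists_normal_of_nilpotent (hG : Group.IsNilpotent G) {X : Subgroup G} (hX : X ≠ ⊤) :
    ∃ N : Subgroup G, N.Normal ∧ N ≠ ⊤ ∧ X ≤ N := by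
  rcases eq_top_or_exists_le_coatom X with h | ⟨M, hM, hXM⟩
  · exact absurd h hX
  · exact ⟨M, NormalizerCondition.normal_of_coatom M Group.normalizerCondition_of_isNilpotent hM, hM.1, hXM⟩

theorem isNilpotent_of_top {X : Subgroup G} (hX : X = ⊤) (hn : Group.IsNilpotent X) :
    Group.IsNilpotent G := by
  subst hX
  exact isNilpotent_of_injective (Subgroup.topEquiv (G := G)).symm.toMonoidHom
    (Subgroup.topEquiv (G := G)).symm.injective

theorem pCoreOf_ne_bot_of_dvd {A : Subgroup G} (hA : Group.IsNilpotent A) {r : ℕ}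
    [hr : Fact r.Prime] (hd : r ∣ Nat.card A) : pCoreOf r A ≠ ⊥ := by
  intro e
  obtain ⟨x, hx⟩ := exists_prime_orderOf_dvd_card' r hd
  have hxm : (x : G) ∈ pCoreOf r A := by
    refine mem_pCoreOf_of_pow hA x.2 (k := 1) ?_
    have := pow_orderOf_eq_one x
    rw [hx] at this
    simpa using congrArg Subtype.val this
  rw [e, mem_bot] at hxm
  have h3 : x = 1 := Subtype.ext hxm
  rw [h3, orderOf_one] at hx
  exact hr.out.one_lt.ne hx

namespace GenCtx

variable {A B : Subgroup G}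

theorem symm (h : GenCtx A B) : GenCtx B A where
  nA := h.nB
  nB := h.nA
  fac := fun g => by
    obtain ⟨a, ha, b, hb, e⟩ := h.fac g⁻¹
    refine ⟨b⁻¹, B.inv_mem hb, a⁻¹, A.inv_mem ha, ?_⟩
    rw [← mul_inv_rev, ← e, inv_inv]
  hA := h.hB
  hB := h.hA
  hq := fun N h1 h2 => (h.hq N h1 h2).symm
  hproper := h.hproper.symm

theorem not_nilpotent (h : GenCtx A B) : ¬ Group.IsNilpotent G := by
  intro hG
  rcases h.hproper with hne | hne
  · obtain ⟨N, h1, h2, h3⟩ := exists_normal_of_nilpotent hG hne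
    exact h.hA N h1 h2 h3
  · obtain ⟨N, h1, h2, h3⟩ := exists_normal_of_nilpotent hG hne
    exact h.hB N h1 h2 h3

theorem A_ne_top (h : GenCtx A B) : A ≠ ⊤ := fun e =>
  h.not_nilpotent (isNilpotent_of_top e h.nA)

theorem B_ne_top (h : GenCtx A B) : B ≠ ⊤ := h.symm.A_ne_top

theorem no_normal_le_A (h : GenCtx A B) {N : Subgroup G} (hN : N.Normal) (h1 : N ≠ ⊥)
    (hle : N ≤ A) : False := by
  have := (h.hq N hN h1).1
  rw [sup_of_le_right hle] at this
  exact h.A_ne_top this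

theorem no_normal_le_B (h : GenCtx A B) {N : Subgroup G} (hN : N.Normal) (h1 : N ≠ ⊥)
    (hle : N ≤ B) : False := h.symm.no_normal_le_A hN h1 hle

theorem quot_nilpotent (h : GenCtx A B) {N : Subgroup G} (hN : N.Normal) (h1 : N ≠ ⊥) :
    Group.IsNilpotent (G ⧸ N) := by
  haveI := hN
  haveI := h.nA
  have hs : Function.Surjective ((QuotientGroup.mk' N).comp A.subtype) := by
    intro x
    obtain ⟨g, rfl⟩ := QuotientGroup.mk'_surjective N x
    obtain ⟨a, ha, n, hn, rfl⟩ := exists_mul_of_sup hN (h.hq N hN h1).1 g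
    refine ⟨⟨a, ha⟩, ?_⟩
    simp only [MonoidHom.comp_apply, Subgroup.coe_subtype]
    have hn1 : (QuotientGroup.mk' N) n = 1 := (QuotientGroup.eq_one_iff n).mpr hn
    rw [map_mul, hn1, mul_one]
  exact Group.nilpotent_of_surjective _ hs

theorem inf_ne_bot (h : GenCtx A B) {N M : Subgroup G} (hN : N.Normal) (hM : M.Normal)
    (h1 : N ≠ ⊥) (h2 : M ≠ ⊥) : N ⊓ M ≠ ⊥ := by
  intro e
  haveI := hN
  haveI := hM
  haveI := h.quot_nilpotent hN h1
  haveI := h.quot_nilpotent hM h2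
  apply h.not_nilpotent
  refine isNilpotent_of_injective ((QuotientGroup.mk' N).prod (QuotientGroup.mk' M)) ?_
  rw [injective_iff_map_eq_one]
  intro x hx
  have h3 : (x : G ⧸ N) = 1 := congrArg Prod.fst hx
  have h4 : (x : G ⧸ M) = 1 := congrArg Prod.snd hx
  have h5 : x ∈ N ⊓ M := ⟨(QuotientGroup.eq_one_iff x).mp h3, (QuotientGroup.eq_one_iff x).mp h4⟩
  rw [e] at h5
  exact h5

/-- no normal `r`-subgroups -/
theorem no_normal_pgroup (h : GenCtx A B) {r : ℕ} [hr : Fact r.Prime] {R : Subgroup G}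
    (hR : R.Normal) (hp : IsPGroup r R) : R = ⊥ := by
  by_contra hne
  obtain ⟨N, ⟨hNn, hN1, hNmin⟩, hNR⟩ := exists_isMinNormal_le R hR hne
  haveI := hNn
  have hNp : IsPGroup r N := hp.to_le hNR
  -- `N` is abelian
  have hNab : N ≤ centralizer (N : Set G) := by
    have h1 : (N ⊓ centralizer (N : Set G)).Normal := inferInstance
    rcases hNmin _ h1 inf_le_left with h2 | h2
    · exact absurd h2 (center_ne_bot hNp hN1)
    · exact inf_eq_left.mp h2
  have hcomm : ∀ x ∈ N, ∀ y ∈ N, Commute x y := by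
    intro x hx y hy
    exact (mem_centralizer_iff.mp (hNab hy) x hx)
  -- `C ⊓ N = ⊥`
  have key : ∀ C : Subgroup G, N ⊔ C = ⊤ → (∀ M : Subgroup G, M.Normal → M ≠ ⊥ → M ≤ C → False) →
      C ⊓ N = ⊥ := by
    intro C hC hno
    by_contra hne2
    refine hno (C ⊓ N) ?_ hne2 inf_le_left
    refine ⟨fun x hx g => ?_⟩
    obtain ⟨c, hc, n, hn, rfl⟩ := exists_mul_of_sup hNn hC g
    have e : c * n * x * (c * n)⁻¹ = c * (n * x * n⁻¹) * c⁻¹ := by group
    rw [e, (hcomm n hn x hx.2).eq, mul_inv_cancel_right]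
    exact ⟨C.mul_mem (C.mul_mem hc hx.1) (C.inv_mem hc), hNn.conj_mem x hx.2 c⟩
  have hAN := key A (h.hq N hNn hN1).1 fun M h1 h2 h3 => h.no_normal_le_A h1 h2 h3
  have hBN := key B (h.hq N hNn hN1).2 fun M h1 h2 h3 => h.no_normal_le_B h1 h2 h3
  have hcard : ∀ C : Subgroup G, N ⊔ C = ⊤ → C ⊓ N = ⊥ → Nat.card C * Nat.card N = Nat.card G := by
    intro C hC hCN
    refine (isComplement'_of_disjoint_and_mul_eq_univ (disjoint_iff.mpr hCN) ?_).card_mul_card
    ext g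
    simp only [Set.mem_univ, iff_true]
    obtain ⟨c, hc, n, hn, e⟩ := exists_mul_of_sup hNn hC g
    exact Set.mem_mul.mpr ⟨c, hc, n, hn, e.symm⟩
  have hcA := hcard A (h.hq N hNn hN1).1 hAN
  have hcB := hcard B (h.hq N hNn hN1).2 hBN
  have hAB : Nat.card A = Nat.card B :=
    Nat.eq_of_mul_eq_mul_right Nat.card_pos (hcA.trans hcB.symm)
  have hprod := card_mul_of_fac B A h.fac
  rw [← hcA, ← hAB] at hprod
  -- `|N| ∣ |A|`
  have hNA : Nat.card N ∣ Nat.card A := by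
    have h2 : Nat.card A * (Nat.card (B ⊓ A : Subgroup G) * Nat.card N) = Nat.card A * Nat.card A := by
      rw [← hprod]
      ring
    have h3 := Nat.eq_of_mul_eq_mul_left Nat.card_pos h2
    exact ⟨_, by rw [← h3, mul_comm]⟩
  have hrN : r ∣ Nat.card N := by
    obtain ⟨k, hk⟩ := IsPGroup.iff_card.mp hNp
    have hk0 : k ≠ 0 := by
      rintro rfl
      apply hN1
      rw [pow_zero] at hk
      exact Subgroup.eq_bot_of_card_eq N hk
    rw [hk]
    exact dvd_pow_self r hk0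
  have hAr : pCoreOf r A ≠ ⊥ := pCoreOf_ne_bot_of_dvd h.nA (hrN.trans hNA)
  -- the normal `r`-subgroup `T`
  set T : Subgroup G := pCoreOf r A ⊔ N with hT
  have hTp : IsPGroup r T := Cfsg.Agent.Lib.Solvable.Carter.isPGroup_sup_normal (isPGroup_pCoreOf A) hNp
  have hNT : N ≤ T := le_sup_right
  have hArT : pCoreOf r A ≤ T := le_sup_left
  have hTa : ∀ a ∈ A, ∀ x ∈ T, a * x * a⁻¹ ∈ T := by
    intro a ha x hx
    have hle : T ≤ T.comap (MulAut.conj a).toMonoidHom := by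
      refine sup_le ?_ ?_
      · intro y hy
        exact hArT (conj_mem_pCoreOf a ha hy)
      · intro y hy
        exact hNT (hNn.conj_mem y hy a)
    exact hle hx
  have hTn : T.Normal := by
    refine ⟨fun x hx g => ?_⟩
    obtain ⟨a, ha, n, hn, rfl⟩ := exists_mul_of_sup hNn (h.hq N hNn hN1).1 g
    have e : a * n * x * (a * n)⁻¹ = a * (n * x * n⁻¹) * a⁻¹ := by group
    rw [e]
    exact hTa a ha _ (T.mul_mem (T.mul_mem (hNT hn) hx) (T.inv_mem (hNT hn)))
  haveI := hTn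
  have hNC : N ≤ centralizer (T : Set G) := by
    have h1 : (N ⊓ centralizer (T : Set G)).Normal := inferInstance
    rcases hNmin _ h1 inf_le_left with h2 | h2
    · exfalso
      obtain ⟨z, hzN, hz1, hzc⟩ := exists_center_of_nilpotent hTp.isNilpotent hNT
        (fun t ht => mem_normalizer_of_conj_mem fun x hx => hNn.conj_mem x hx t) hN1
      have : z ∈ N ⊓ centralizer (T : Set G) := ⟨hzN, hzc⟩
      rw [h2] at this
      exact hz1 this
    · exact inf_eq_left.mp h2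
  have hArn : (pCoreOf r A).Normal := by
    refine ⟨fun x hx g => ?_⟩
    obtain ⟨a, ha, n, hn, rfl⟩ := exists_mul_of_sup hNn (h.hq N hNn hN1).1 g
    have e : a * n * x * (a * n)⁻¹ = a * (n * x * n⁻¹) * a⁻¹ := by group
    have e2 : n * x = x * n := (mem_centralizer_iff.mp (hNC hn) x (hArT hx)).symm
    rw [e, e2, mul_inv_cancel_right]
    exact conj_mem_pCoreOf a ha hx
  exact h.no_normal_le_A hArn hAr (pCoreOf_le A)

end GenCtx

end Cfsg.Agent.Lib.Perm.KWGen
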