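/-
Kegel-Wielandt, general case: the minimal normal subgroup.
-/
import Cfsg.Agent.Lib.Perm.KWGen

set_option autoImplicit false
set_option linter.style.haveILetI false
set_option linter.unusedSectionVars false
set_option linter.unusedVariables false

namespace Cfsg.Agent.Lib.Perm.KWGen

open Subgroup Cfsg Cfsg.Agent.Lib.Core.Basic Cfsg.Agent.Lib.OddLocal.CN
  Cfsg.Agent.Lib.LocalStruct.PCoreOf Cfsg.Agent.Lib.LocalStruct.Basic
  Cfsg.Agent.Lib.LocalStruct.Comm Cfsg.Agent.Lib.Perm.KWParts Cfsg.Agent.Lib.Perm.KWCtx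
  Cfsg.Agent.Lib.Perm.KWCop Cfsg.Agent.Lib.Perm.KWKegel Cfsg.Agent.Lib.Perm.KWSyl
  Cfsg.Agent.Lib.Solvable.Basic

universe u

variable {G : Type u} [Group G] [Finite G]

structure MinCtx (A B N : Subgroup G) : Prop where
  gen : GenCtx A B
  nn : N.Normal
  ne : N ≠ ⊥
  min : ∀ M : Subgroup G, M.Normal → M ≤ N → M = ⊥ ∨ M = N

/-- the preimage of `O_r(G/N)` -/
abbrev HH (N : Subgroup G) [N.Normal] (r : ℕ) : Subgroup G :=
  (pCore r (G ⧸ N)).comap (QuotientGroup.mk' N)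

section HHsec

variable {N : Subgroup G} [hN : N.Normal] {r : ℕ} [hr : Fact r.Prime]

theorem HH_normal : (HH N r).Normal := Subgroup.Normal.comap (pCore_normal r _) _

theorem le_HH : N ≤ HH N r := by
  intro x hx
  rw [mem_comap]
  have : (QuotientGroup.mk' N) x = 1 := (QuotientGroup.eq_one_iff x).mpr hx
  rw [this]
  exact one_mem _

theorem pCoreOf_le_HH [Group.IsNilpotent (G ⧸ N)] (C : Subgroup G) : pCoreOf r C ≤ HH N r := by
  intro x hx
  rw [mem_comap]
  obtain ⟨k, hk⟩ := pow_eq_one_of_mem_pCoreOf hx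
  refine mem_pCore_of_pow (k := k) ?_
  rw [← map_pow, hk, map_one]

theorem split_HH [Group.IsNilpotent (G ⧸ N)] {C : Subgroup G} (hC : Group.IsNilpotent C)
    (hNC : N ⊔ C = ⊤) : ∀ y ∈ HH N r, ∃ x ∈ pCoreOf r C, ∃ n ∈ N, y = x * n := by
  intro y hy
  obtain ⟨c, hc, n₀, hn₀, rfl⟩ := exists_mul_of_sup hN hNC y
  obtain ⟨x, hx, c', hc', rfl⟩ := exists_split_mem (r := r) hC hc
  have h1 : (QuotientGroup.mk' N) c' ∈ pCore r (G ⧸ N) := by
    have h2 : (QuotientGroup.mk' N) c' =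
        ((QuotientGroup.mk' N) x)⁻¹ * (QuotientGroup.mk' N) (x * c' * n₀) *
          ((QuotientGroup.mk' N) n₀)⁻¹ := by
      simp only [map_mul]
      group
    rw [h2]
    refine mul_mem (mul_mem (inv_mem (pCoreOf_le_HH C hx)) hy) (inv_mem (le_HH hn₀))
  obtain ⟨k, hk⟩ := (pCore_isPGroup (p := r) (G := G ⧸ N)) ⟨_, h1⟩
  have hk' : ((QuotientGroup.mk' N) c') ^ r ^ k = 1 := by
    simpa using congrArg Subtype.val hk
  have h3 : ((QuotientGroup.mk' N) c') ^ orderOf c' = 1 := by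
    rw [← map_pow, pow_orderOf_eq_one, map_one]
  have h4 : (QuotientGroup.mk' N) c' = 1 :=
    eq_one_of_pow_of_coprime (Nat.Coprime.pow_left k (coprime_of_mem_cPartOf hc').symm) hk' h3
  have h5 : c' ∈ N := (QuotientGroup.eq_one_iff c').mp h4
  exact ⟨x, hx, c' * n₀, N.mul_mem h5 hn₀, by group⟩

end HHsec

namespace MinCtx

variable {A B N : Subgroup G}

theorem not_pgroup (h : MinCtx A B N) {r : ℕ} [hr : Fact r.Prime] : ¬ IsPGroup r N := fun hp =>
  h.ne (h.gen.no_normal_pgroup h.nn hp)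

theorem le_of_normal (h : MinCtx A B N) {M : Subgroup G} (hM : M.Normal) (h1 : M ≠ ⊥) : N ≤ M := by
  haveI := h.nn
  rcases h.min (N ⊓ M) inferInstance inf_le_left with h2 | h2
  · exact absurd h2 (h.gen.inf_ne_bot h.nn hM h.ne h1)
  · exact inf_eq_left.mp h2

theorem abelian_bot (h : MinCtx A B N) {T : Subgroup G} (hTN : T ≤ N)
    (hNT : N ≤ normalizer (T : Set G)) (hab : ∀ x ∈ T, ∀ y ∈ T, Commute x y) : T = ⊥ := by
  by_contra hne
  obtain ⟨⟨x, hx⟩, hx1⟩ := Subgroup.ne_bot_iff_exists_ne_one.mp hne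
  have hx1' : x ≠ 1 := fun e => hx1 (Subtype.ext e)
  obtain ⟨k, r, hrp, hro, hne', -⟩ := exists_pow_prime_order hx1'
  haveI : Fact r.Prime := ⟨hrp⟩
  haveI hcomm : IsMulCommutative T := ⟨⟨fun a b => Subtype.ext (hab a a.2 b b.2).eq⟩⟩
  have hTnil : Group.IsNilpotent T := isNilpotent_of_isMulCommutative
  have h1 : x ^ k ∈ pCoreOf r T := by
    refine mem_pCoreOf_of_pow hTnil (T.pow_mem hx k) (k := 1) ?_
    rw [pow_one, ← hro]
    exact pow_orderOf_eq_one _
  have h2 : pCoreOf r T ≤ pCoreOf r N :=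
    le_pCoreOf ((pCoreOf_le T).trans hTN) (hNT.trans (normalizer_le_normalizer_pCoreOf T))
      (isPGroup_pCoreOf T)
  have h3 : (pCoreOf r N).Normal := by
    haveI := h.nn
    refine ⟨fun y hy g => conj_mem_pCoreOf_of_normalizer ?_ hy⟩
    rw [normalizer_eq_top_iff.mpr h.nn]
    exact mem_top g
  have h4 := h.gen.no_normal_pgroup h3 (isPGroup_pCoreOf N)
  have h5 := h2 h1
  rw [h4] at h5
  exact hne' h5

theorem center_bot (h : MinCtx A B N) {E : Subgroup G} (hEN : E ≤ N)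
    (hNE : N ≤ normalizer (E : Set G)) : E ⊓ centralizer (E : Set G) = ⊥ := by
  refine h.abelian_bot (inf_le_left.trans hEN) (hNE.trans (normalizer_le_normalizer_center E)) ?_
  intro x hx y hy
  exact (mem_centralizer_iff.mp hy.2 x hx.1)

theorem centralizer_bot (h : MinCtx A B N) : centralizer (N : Set G) = ⊥ := by
  haveI := h.nn
  by_contra hne
  have h1 := h.le_of_normal (M := centralizer (N : Set G)) inferInstance hne
  refine h.ne (h.abelian_bot le_rfl ?_ ?_)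
  · intro x hx
    apply mem_normalizer_of_conj_mem
    intro y hy
    exact h.nn.conj_mem y hy x
  · intro x hx y hy
    exact (mem_centralizer_iff.mp (h1 hy) x hx)

/-- Lemma A -/
theorem centralizes_aux (h : MinCtx A B N) {H K X S₁ : Subgroup G} (hHn : H.Normal) (hNH : N ≤ H)
    (hKH : K ≤ H) (hHK : H ≤ normalizer (K : Set G)) (hXK : X ≤ K)
    (hsplit : ∀ y ∈ H, ∃ x ∈ X, ∃ n ∈ N, y = x * n) (hS₁N : S₁ ≤ N)
    (hNS : N ≤ normalizer (S₁ : Set G))
    (hmin : ∀ T : Subgroup G, T ≤ S₁ → T ≠ ⊥ → N ≤ normalizer (T : Set G) → T = S₁)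
    (hnot : ¬ S₁ ≤ K ⊓ N) : H ≤ normalizer (S₁ : Set G) := by
  set E := K ⊓ N with hE
  have hnn := h.nn
  have hEH : ∀ y ∈ H, ∀ z ∈ E, y * z * y⁻¹ ∈ E := by
    intro y hy z hz
    exact ⟨(mem_normalizer_iff.mp (hHK hy) z).mp hz.1, hnn.conj_mem z hz.2 y⟩
  have hEN' : N ≤ normalizer (E : Set G) := fun n hn =>
    mem_normalizer_of_conj_mem fun z hz => hEH n (hNH hn) z hz
  -- `S₁ ⊓ E = ⊥`
  have hSE : S₁ ⊓ E = ⊥ := by
    by_contra hne
    have h1 := hmin (S₁ ⊓ E) inf_le_left hne (by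
      intro n hn
      apply mem_normalizer_of_conj_mem
      intro z hz
      exact ⟨(mem_normalizer_iff.mp (hNS hn) z).mp hz.1, hEH n (hNH hn) z hz.2⟩)
    exact hnot (inf_eq_left.mp h1)
  have hSEc : ∀ s ∈ S₁, ∀ e ∈ E, Commute s e := by
    intro s hs e he
    have h1 : s * e * s⁻¹ * e⁻¹ ∈ S₁ ⊓ E := by
      constructor
      · have h2 : e * s⁻¹ * e⁻¹ ∈ S₁ :=
          (mem_normalizer_iff.mp (hNS he.2) s⁻¹).mp (S₁.inv_mem hs)
        have e1 : s * e * s⁻¹ * e⁻¹ = s * (e * s⁻¹ * e⁻¹) := by group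
        rw [e1]
        exact S₁.mul_mem hs h2
      · exact E.mul_mem (hEH s (hNH (hS₁N hs)) e he) (E.inv_mem he)
    rw [hSE, mem_bot] at h1
    show s * e = e * s
    calc s * e = (s * e * s⁻¹ * e⁻¹) * (e * s) := by group
      _ = e * s := by rw [h1, one_mul]
  -- `K` centralizes `V = C_N(E)`
  have hcenter := h.center_bot (inf_le_right : E ≤ N) hEN'
  have hKV : ∀ k ∈ K, ∀ v ∈ N, (∀ e ∈ E, Commute v e) → Commute k v := by
    intro k hk v hv hve
    have hvk : v * k⁻¹ * v⁻¹ ∈ K :=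
      (mem_normalizer_iff.mp (hHK (hNH hv)) k⁻¹).mp (K.inv_mem hk)
    have h1 : k * v * k⁻¹ * v⁻¹ ∈ E := by
      constructor
      · have e1 : k * v * k⁻¹ * v⁻¹ = k * (v * k⁻¹ * v⁻¹) := by group
        rw [e1]
        exact K.mul_mem hk hvk
      · exact N.mul_mem (hnn.conj_mem v hv k) (N.inv_mem hv)
    have h2 : k * v * k⁻¹ * v⁻¹ ∈ centralizer (E : Set G) := by
      rw [mem_centralizer_iff]
      intro e he
      have hek : k⁻¹ * e * k ∈ E := by
        have := hEH k⁻¹ (H.inv_mem (hKH hk)) e he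
        simpa using this
      have e1 := (hve _ hek).eq
      have e2 := (hve e he).eq
      have e3 : k * v * k⁻¹ * e = e * (k * v * k⁻¹) := by
        calc k * v * k⁻¹ * e = k * (v * (k⁻¹ * e * k)) * k⁻¹ := by group
          _ = k * ((k⁻¹ * e * k) * v) * k⁻¹ := by rw [e1]
          _ = e * (k * v * k⁻¹) := by group
      have e4 : v⁻¹ * e = e * v⁻¹ := by
        rw [inv_mul_eq_iff_eq_mul, ← mul_assoc, e2, mul_assoc, mul_inv_cancel, mul_one]
      calc e * (k * v * k⁻¹ * v⁻¹) = (e * (k * v * k⁻¹)) * v⁻¹ := by group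
        _ = (k * v * k⁻¹ * e) * v⁻¹ := by rw [e3]
        _ = k * v * k⁻¹ * (e * v⁻¹) := by group
        _ = k * v * k⁻¹ * (v⁻¹ * e) := by rw [e4]
        _ = _ := by group
    have h3 : k * v * k⁻¹ * v⁻¹ ∈ E ⊓ centralizer (E : Set G) := ⟨h1, h2⟩
    rw [hcenter, mem_bot] at h3
    show k * v = v * k
    calc k * v = (k * v * k⁻¹ * v⁻¹) * (v * k) := by group
      _ = v * k := by rw [h3, one_mul]
  intro y hy
  obtain ⟨x, hx, n, hn, rfl⟩ := hsplit y hy
  apply mem_normalizer_of_conj_mem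
  intro s hs
  have h1 : n * s * n⁻¹ ∈ S₁ := (mem_normalizer_iff.mp (hNS hn) s).mp hs
  have h2 := hKV x (hXK hx) _ (hS₁N h1) (fun e he => hSEc _ h1 e he)
  have e1 : x * n * s * (x * n)⁻¹ = x * (n * s * n⁻¹) * x⁻¹ := by group
  rw [e1, h2.eq, mul_inv_cancel_right]
  exact h1

/-- Lemma B -/
theorem normalizes_min (h : MinCtx A B N) {H K X S₁ : Subgroup G} (hHn : H.Normal) (hNH : N ≤ H)
    (hKH : K ≤ H) (hKne : K ≠ H) (hHK : H ≤ normalizer (K : Set G)) (hXK : X ≤ K)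
    (hsplit : ∀ y ∈ H, ∃ x ∈ X, ∃ n ∈ N, y = x * n) (hS₁N : S₁ ≤ N)
    (hNS : N ≤ normalizer (S₁ : Set G)) (hS1 : S₁ ≠ ⊥)
    (hmin : ∀ T : Subgroup G, T ≤ S₁ → T ≠ ⊥ → N ≤ normalizer (T : Set G) → T = S₁) :
    H ≤ normalizer (S₁ : Set G) := by
  have hnn := h.nn
  by_cases hex : ∃ g : G, ¬ S₁ ≤ (K.map (MulAut.conj g⁻¹).toMonoidHom) ⊓ N
  · obtain ⟨g, hg⟩ := hex
    set K' := K.map (MulAut.conj g⁻¹).toMonoidHom with hK'
    set X' := X.map (MulAut.conj g⁻¹).toMonoidHom with hX'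
    have hmemK : ∀ {x : G}, x ∈ K' ↔ g * x * g⁻¹ ∈ K := by
      intro x
      rw [hK', Cfsg.Agent.Lib.LocalStruct.Basic.mem_conj_iff, inv_inv]
    have hmemX : ∀ {x : G}, x ∈ X' ↔ g * x * g⁻¹ ∈ X := by
      intro x
      rw [hX', Cfsg.Agent.Lib.LocalStruct.Basic.mem_conj_iff, inv_inv]
    refine h.centralizes_aux hHn hNH (K := K') (X := X') ?_ ?_ ?_ ?_ hS₁N hNS hmin hg
    · intro x hx
      have h1 := hKH (hmemK.mp hx)
      have := hHn.conj_mem _ h1 g⁻¹
      simpa [mul_assoc] using this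
    · intro y hy
      apply mem_normalizer_of_conj_mem
      intro x hx
      rw [hmemK]
      have h1 := hHn.conj_mem y hy g
      have h2 := (mem_normalizer_iff.mp (hHK h1) _).mp (hmemK.mp hx)
      have e : g * (y * x * y⁻¹) * g⁻¹ = g * y * g⁻¹ * (g * x * g⁻¹) * (g * y * g⁻¹)⁻¹ := by group
      rw [e]
      exact h2
    · intro x hx
      exact hmemK.mpr (hXK (hmemX.mp hx))
    · intro y hy
      obtain ⟨x, hx, n, hn, e⟩ := hsplit _ (hHn.conj_mem y hy g)
      refine ⟨g⁻¹ * x * g, ?_, g⁻¹ * n * g, ?_, ?_⟩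
      · rw [hmemX]
        simpa [mul_assoc] using hx
      · have := hnn.conj_mem n hn g⁻¹
        simpa using this
      · have e2 : y = g⁻¹ * (g * y * g⁻¹) * g := by group
        rw [e2, e]
        group
  · push Not at hex
    exfalso
    -- all conjugates of `S₁` lie in `K ⊓ N`
    have hle : normalClosure (S₁ : Set G) ≤ K ⊓ N := by
      rw [normalClosure, closure_le]
      intro y hy
      rw [Group.mem_conjugatesOfSet_iff] at hy
      obtain ⟨z, hz, hzy⟩ := hy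
      obtain ⟨c, rfl⟩ := isConj_iff.mp hzy
      have h1 := hex c hz
      have h2 : z ∈ K.map (MulAut.conj c⁻¹).toMonoidHom := h1.1
      rw [Cfsg.Agent.Lib.LocalStruct.Basic.mem_conj_iff, inv_inv] at h2
      exact ⟨h2, hnn.conj_mem z (hS₁N hz) c⟩
    have hne : normalClosure (S₁ : Set G) ≠ ⊥ := by
      intro e
      apply hS1
      rw [eq_bot_iff, ← e]
      exact subset_normalClosure
    have h1 := h.le_of_normal (normalClosure_normal) hne
    have h2 : N ≤ K := (h1.trans hle).trans inf_le_left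
    apply hKne
    apply le_antisymm hKH
    intro y hy
    obtain ⟨x, hx, n, hn, rfl⟩ := hsplit y hy
    exact K.mul_mem (hXK hx) (h2 hn)

/-- Kegel in `H`. -/
theorem exists_K (h : MinCtx A B N) [N.Normal] (r : ℕ) [hr : Fact r.Prime]
    [Group.IsNilpotent (G ⧸ N)] :
    ∃ K X : Subgroup G, K ≤ HH N r ∧ K ≠ HH N r ∧ HH N r ≤ normalizer (K : Set G) ∧ X ≤ K ∧
      (X = pCoreOf r A ∨ X = pCoreOf r B) := by
  have hne : ∃ y ∈ HH N r, ¬ ∃ x ∈ pCoreOf r A, ∃ z ∈ pCoreOf r B, y = x * z := by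
    by_contra hall
    have hall' : ∀ y ∈ HH N r, ∃ x ∈ pCoreOf r A, ∃ z ∈ pCoreOf r B, y = x * z := by
      intro y hy
      by_contra hc
      exact hall ⟨y, hy, hc⟩
    obtain ⟨S, hSp, hPS, hQS, -⟩ := exists_sylow_prod h.gen.nA h.gen.nB h.gen.fac r
    apply h.not_pgroup (r := r)
    refine hSp.to_le ?_
    intro y hy
    obtain ⟨x, hx, z, hz, rfl⟩ := hall' y (le_HH hy)
    exact S.mul_mem (hPS hx) (hQS hz)
  obtain ⟨K, h1, h2, h3, h4⟩ := kegel_in (HH N r) (pCoreOf r A) (pCoreOf r B)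
    (pCoreOf_le_HH A) (pCoreOf_le_HH B)
    (fun g _ => perm_pCoreOf h.gen.nA h.gen.nB h.gen.fac r g) hne
  rcases h4 with h4 | h4
  · exact ⟨K, _, h1, h2, h3, h4, Or.inl rfl⟩
  · exact ⟨K, _, h1, h2, h3, h4, Or.inr rfl⟩

/-- every `N`-minimal normal subgroup of `N` is normal in `G` -/
theorem normalizer_min_eq_top (h : MinCtx A B N) [N.Normal] [Group.IsNilpotent (G ⧸ N)]
    {S₁ : Subgroup G} (hS₁N : S₁ ≤ N) (hNS : N ≤ normalizer (S₁ : Set G)) (hS1 : S₁ ≠ ⊥)
    (hmin : ∀ T : Subgroup G, T ≤ S₁ → T ≠ ⊥ → N ≤ normalizer (T : Set G) → T = S₁) :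
    normalizer (S₁ : Set G) = ⊤ := by
  have hH : ∀ (r : ℕ) [Fact r.Prime], HH N r ≤ normalizer (S₁ : Set G) := by
    intro r _
    obtain ⟨K, X, h1, h2, h3, h4, h5⟩ := h.exists_K r
    refine h.normalizes_min (HH_normal) le_HH h1 h2 h3 h4 ?_ hS₁N hNS hS1 hmin
    rcases h5 with rfl | rfl
    · exact split_HH h.gen.nA (h.gen.hq N h.nn h.ne).1
    · exact split_HH h.gen.nB (h.gen.hq N h.nn h.ne).2
  set X : Subgroup (G ⧸ N) := (normalizer (S₁ : Set G)).map (QuotientGroup.mk' N) with hX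
  have hXtop : X = ⊤ := by
    refine eq_top_of_forall_sylow_le X ?_
    intro p _
    obtain ⟨P⟩ : Nonempty (Sylow p (G ⧸ N)) := inferInstance
    refine ⟨P, ?_⟩
    intro x hx
    obtain ⟨g, rfl⟩ := QuotientGroup.mk'_surjective N x
    have h1 : (QuotientGroup.mk' N) g ∈ pCore p (G ⧸ N) :=
      le_pCore (sylow_normal_nil P) P.isPGroup' hx
    exact ⟨g, hH p h1, rfl⟩
  rw [eq_top_iff]
  intro g _
  have h1 : (QuotientGroup.mk' N) g ∈ X := hXtop ▸ mem_top _
  obtain ⟨t, ht, e⟩ := h1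
  have h2 : t⁻¹ * g ∈ N := QuotientGroup.eq.mp e
  have := (normalizer (S₁ : Set G)).mul_mem ht (hNS h2)
  simpa using this

/-- `N` has no proper nontrivial `N`-invariant subgroups. -/
theorem eq_of_invariant (h : MinCtx A B N) [N.Normal] [Group.IsNilpotent (G ⧸ N)]
    {E : Subgroup G} (hEN : E ≤ N) (hNE : N ≤ normalizer (E : Set G)) (hE1 : E ≠ ⊥) : E = N := by
  have hwf : WellFoundedLT (Subgroup G) := inferInstance
  obtain ⟨S₁, ⟨h1, h2, h3⟩, hmin⟩ := hwf.wf.has_min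
    {T : Subgroup G | T ≤ E ∧ T ≠ ⊥ ∧ N ≤ normalizer (T : Set G)} ⟨E, le_rfl, hE1, hNE⟩
  have hm : ∀ T : Subgroup G, T ≤ S₁ → T ≠ ⊥ → N ≤ normalizer (T : Set G) → T = S₁ := by
    intro T hT hT1 hTN
    by_contra hne
    exact hmin T ⟨hT.trans h1, hT1, hTN⟩ (lt_of_le_of_ne hT hne)
  have htop := h.normalizer_min_eq_top (h1.trans hEN) h3 h2 hm
  have hn : S₁.Normal := normalizer_eq_top_iff.mp htop
  have hNS := h.le_of_normal hn h2
  exact le_antisymm hEN (hNS.trans h1)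

/-- `N = G`. -/
theorem eq_top (h : MinCtx A B N) : N = ⊤ := by
  haveI := h.nn
  haveI := h.gen.quot_nilpotent h.nn h.ne
  by_contra hne
  have hi : N.index ≠ 1 := fun e => hne (Subgroup.index_eq_one.mp e)
  obtain ⟨r, hrp, hrd⟩ := Nat.exists_prime_and_dvd hi
  haveI : Fact r.Prime := ⟨hrp⟩
  have hdvd : ∀ C : Subgroup G, N ⊔ C = ⊤ → N.index ∣ Nat.card C := by
    intro C hC
    have hs : Function.Surjective ((QuotientGroup.mk' N).comp C.subtype) := by
      intro x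
      obtain ⟨g, rfl⟩ := QuotientGroup.mk'_surjective N x
      obtain ⟨c, hc, n, hn, rfl⟩ := exists_mul_of_sup h.nn hC g
      refine ⟨⟨c, hc⟩, ?_⟩
      have hn1 : (QuotientGroup.mk' N) n = 1 := (QuotientGroup.eq_one_iff n).mpr hn
      simp only [MonoidHom.comp_apply, Subgroup.coe_subtype]
      rw [map_mul, hn1, mul_one]
    exact Cfsg.Agent.Lib.Core.Basic.card_dvd_of_surjective _ hs
  have hAr : pCoreOf r A ≠ ⊥ :=
    pCoreOf_ne_bot_of_dvd h.gen.nA (hrd.trans (hdvd A (h.gen.hq N h.nn h.ne).1))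
  have hBr : pCoreOf r B ≠ ⊥ :=
    pCoreOf_ne_bot_of_dvd h.gen.nB (hrd.trans (hdvd B (h.gen.hq N h.nn h.ne).2))
  obtain ⟨K, X, h1, h2, h3, h4, h5⟩ := h.exists_K r
  have hsplit : ∀ y ∈ HH N r, ∃ x ∈ X, ∃ n ∈ N, y = x * n := by
    rcases h5 with rfl | rfl
    · exact split_HH h.gen.nA (h.gen.hq N h.nn h.ne).1
    · exact split_HH h.gen.nB (h.gen.hq N h.nn h.ne).2
  have hX1 : X ≠ ⊥ := by
    rcases h5 with rfl | rfl
    · exact hAr
    · exact hBr
  -- `E = K ⊓ N`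
  have hENe : K ⊓ N ≠ N := by
    intro e
    have h6 : N ≤ K := inf_eq_right.mp e
    apply h2
    apply le_antisymm h1
    intro y hy
    obtain ⟨x, hx, n, hn, rfl⟩ := hsplit y hy
    exact K.mul_mem (h4 hx) (h6 hn)
  have hNE : N ≤ normalizer ((K ⊓ N : Subgroup G) : Set G) := by
    intro n hn
    apply mem_normalizer_of_conj_mem
    intro z hz
    exact ⟨(mem_normalizer_iff.mp (h3 (le_HH hn)) z).mp hz.1, h.nn.conj_mem z hz.2 n⟩
  have hEb : K ⊓ N = ⊥ := by
    by_contra hE1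
    exact hENe (h.eq_of_invariant inf_le_right hNE hE1)
  have hKC : K ≤ centralizer (N : Set G) := by
    intro k hk
    rw [mem_centralizer_iff]
    intro n hn
    have hmem : k * n * k⁻¹ * n⁻¹ ∈ K ⊓ N := by
      constructor
      · have h6 : n * k⁻¹ * n⁻¹ ∈ K :=
          (mem_normalizer_iff.mp (h3 (le_HH hn)) k⁻¹).mp (K.inv_mem hk)
        have e1 : k * n * k⁻¹ * n⁻¹ = k * (n * k⁻¹ * n⁻¹) := by group
        rw [e1]
        exact K.mul_mem hk h6
      · exact N.mul_mem (h.nn.conj_mem n hn k) (N.inv_mem hn)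
    rw [hEb, mem_bot] at hmem
    show n * k = k * n
    calc n * k = (k * n * k⁻¹ * n⁻¹)⁻¹ * (k * n) := by group
      _ = k * n := by rw [hmem]; simp
  rw [h.centralizer_bot] at hKC
  exact hX1 (le_bot_iff.mp (h4.trans hKC))

/-- the final contradiction -/
theorem false_ (h : MinCtx A B N) : False := by
  have htop := h.eq_top
  have hnormal : ∀ M : Subgroup G, M.Normal → M ≠ ⊥ → M = ⊤ := by
    intro M hM hM1
    have := h.le_of_normal hM hM1
    rw [htop] at this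
    exact top_le_iff.mp this
  have hsimple : ∀ (p : ℕ) [Fact p.Prime], ¬ (p ∣ Nat.card A ∧ p ∣ Nat.card B) := by
    rintro p _ ⟨hpA, hpB⟩
    have hAp := pCoreOf_ne_bot_of_dvd h.gen.nA hpA
    have hBp := pCoreOf_ne_bot_of_dvd h.gen.nB hpB
    have hnc : ∀ Y : Subgroup G, Y ≠ ⊥ → normalClosure (Y : Set G) = ⊤ := by
      intro Y hY
      refine hnormal _ normalClosure_normal ?_
      intro e
      apply hY
      rw [eq_bot_iff, ← e]
      exact subset_normalClosure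
    have hk := kegel (pCoreOf p A) (pCoreOf p B) (perm_pCoreOf h.gen.nA h.gen.nB h.gen.fac p)
      (hnc _ hAp) (hnc _ hBp)
    obtain ⟨S, hSp, hPS, hQS, -⟩ := exists_sylow_prod h.gen.nA h.gen.nB h.gen.fac p
    apply h.not_pgroup (r := p)
    refine hSp.to_le ?_
    intro y _
    obtain ⟨x, hx, z, hz, rfl⟩ := hk y
    exact S.mul_mem (hPS hx) (hQS hz)
  have hcop : (Nat.card A).Coprime (Nat.card B) := by
    by_contra hnc
    obtain ⟨p, hp, h1, h2⟩ := Nat.Prime.not_coprime_iff_dvd.mp hnc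
    haveI : Fact p.Prime := ⟨hp⟩
    exact hsimple p ⟨h1, h2⟩
  haveI hs := isSolvable_of_coprime A B h.gen.nA h.gen.nB hcop h.gen.fac
  have hc := isMinNormal_comm (N := N) ⟨h.nn, h.ne, h.min⟩
  refine h.ne (h.abelian_bot le_rfl ?_ ?_)
  · intro x hx
    apply mem_normalizer_of_conj_mem
    intro y hy
    exact h.nn.conj_mem y hy x
  · intro x hx y hy
    exact hc x hx y hy

end MinCtx

/-- The main reduction. -/
theorem exists_normal_aux : ∀ (n : ℕ) (G : Type u) [Group G] [Finite G], Nat.card G = n →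
    ∀ (A B : Subgroup G), Group.IsNilpotent A → Group.IsNilpotent B →
    (∀ g, ∃ a ∈ A, ∃ b ∈ B, g = a * b) → (A ≠ ⊤ ∨ B ≠ ⊤) →
    ∃ N : Subgroup G, N.Normal ∧ N ≠ ⊤ ∧ (A ≤ N ∨ B ≤ N) := by
  intro n
  induction n using Nat.strong_induction_on with
  | _ n ih =>
  intro G _ _ hn A B hA hB hfac hproper
  by_contra hcon
  push Not at hcon
  have hgen : GenCtx A B := by
    refine ⟨hA, hB, hfac, fun N h1 h2 => (hcon N h1 h2).1, fun N h1 h2 => (hcon N h1 h2).2, ?_, hproper⟩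
    intro N hN hN1
    haveI := hN
    have hlt : Nat.card (G ⧸ N) < n := by
      rw [← hn, ← Subgroup.index_eq_card]
      have h1 := Subgroup.card_mul_index N
      have h2 : 1 < Nat.card N := by
        have : Nontrivial N := (Subgroup.nontrivial_iff_ne_bot N).mpr hN1
        exact Finite.one_lt_card
      have h3 : 0 < N.index := Nat.pos_of_ne_zero Subgroup.index_ne_zero_of_finite
      nlinarith
    have hfacq : ∀ g : G ⧸ N, ∃ a ∈ A.map (QuotientGroup.mk' N), ∃ b ∈ B.map (QuotientGroup.mk' N),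
        g = a * b := by
      intro g
      obtain ⟨x, rfl⟩ := QuotientGroup.mk'_surjective N g
      obtain ⟨a, ha, b, hb, rfl⟩ := hfac x
      exact ⟨_, ⟨a, ha, rfl⟩, _, ⟨b, hb, rfl⟩, map_mul _ a b⟩
    have hbar : A.map (QuotientGroup.mk' N) = ⊤ ∧ B.map (QuotientGroup.mk' N) = ⊤ := by
      by_contra hb
      have hb' : A.map (QuotientGroup.mk' N) ≠ ⊤ ∨ B.map (QuotientGroup.mk' N) ≠ ⊤ := by
        by_contra hc
        push Not at hc
        exact hb hc
      obtain ⟨M, hM1, hM2, hM3⟩ := ih _ hlt (G ⧸ N) rfl _ _ (nilpotent_map hA _) (nilpotent_map hB _)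
        hfacq hb'
      have hcomapne : M.comap (QuotientGroup.mk' N) ≠ ⊤ := by
        intro e
        apply hM2
        rw [eq_top_iff]
        intro x _
        obtain ⟨g, rfl⟩ := QuotientGroup.mk'_surjective N x
        have : g ∈ M.comap (QuotientGroup.mk' N) := e ▸ mem_top g
        exact this
      have hcn := hcon (M.comap (QuotientGroup.mk' N)) (Subgroup.Normal.comap hM1 _) hcomapne
      rcases hM3 with h3 | h3
      · exact hcn.1 (Subgroup.map_le_iff_le_comap.mp h3)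
      · exact hcn.2 (Subgroup.map_le_iff_le_comap.mp h3)
    have hsup : ∀ C : Subgroup G, C.map (QuotientGroup.mk' N) = ⊤ → N ⊔ C = ⊤ := by
      intro C hC
      rw [eq_top_iff]
      intro g _
      have h1 : (QuotientGroup.mk' N) g ∈ C.map (QuotientGroup.mk' N) := hC ▸ mem_top _
      obtain ⟨c, hc, e⟩ := h1
      have h2 : c⁻¹ * g ∈ N := QuotientGroup.eq.mp e
      have h3 : g = c * (c⁻¹ * g) := by group
      rw [h3]
      exact mul_mem (mem_sup_right hc) (mem_sup_left h2)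
    exact ⟨hsup A hbar.1, hsup B hbar.2⟩
  have htopne : (⊤ : Subgroup G) ≠ ⊥ := by
    intro e
    rcases hproper with h1 | h1
    · exact h1 (by rw [e]; exact le_bot_iff.mp (e ▸ le_top))
    · exact h1 (by rw [e]; exact le_bot_iff.mp (e ▸ le_top))
  obtain ⟨N, ⟨h1, h2, h3⟩, -⟩ := exists_isMinNormal_le (⊤ : Subgroup G) inferInstance htopne
  exact MinCtx.false_ (A := A) (B := B) (N := N) ⟨hgen, h1, h2, h3⟩

theorem exists_normal {G : Type u} [Group G] [Finite G] (A B : Subgroup G)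
    (hA : Group.IsNilpotent A) (hB : Group.IsNilpotent B) (hfac : ∀ g, ∃ a ∈ A, ∃ b ∈ B, g = a * b)
    (hproper : A ≠ ⊤ ∨ B ≠ ⊤) : ∃ N : Subgroup G, N.Normal ∧ N ≠ ⊤ ∧ (A ≤ N ∨ B ≤ N) :=
  exists_normal_aux _ G rfl A B hA hB hfac hproper

/-- **Kegel-Wielandt**. -/
theorem isSolvable_aux : ∀ (n : ℕ) (G : Type u) [Group G] [Finite G], Nat.card G = n →
    ∀ (A B : Subgroup G), Group.IsNilpotent A → Group.IsNilpotent B →
    (∀ g, ∃ a ∈ A, ∃ b ∈ B, g = a * b) → Group.IsSolvable G := by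
  intro n
  induction n using Nat.strong_induction_on with
  | _ n ih =>
  intro G _ _ hn A B hA hB hfac
  by_cases hproper : A ≠ ⊤ ∨ B ≠ ⊤
  · obtain ⟨N, hN, hN2, hN3⟩ := exists_normal A B hA hB hfac hproper
    haveI := hN
    have hltN : Nat.card N < n := by
      rw [← hn]
      refine lt_of_le_of_ne (Subgroup.card_le_card_group N) fun e => hN2 ?_
      exact Subgroup.eq_top_of_card_eq N e
    have hfacN : ∀ g ∈ N, ∃ a ∈ A, a ∈ N ∧ ∃ b ∈ B, b ∈ N ∧ g = a * b := by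
      intro g hg
      obtain ⟨a, ha, b, hb, rfl⟩ := hfac g
      rcases hN3 with h3 | h3
      · refine ⟨a, ha, h3 ha, b, hb, ?_, rfl⟩
        have := N.mul_mem (N.inv_mem (h3 ha)) hg
        simpa using this
      · refine ⟨a, ha, ?_, b, hb, h3 hb, rfl⟩
        have := N.mul_mem hg (N.inv_mem (h3 hb))
        simpa using this
    haveI hs1 : Group.IsSolvable N := by
      refine ih _ hltN N rfl (A.subgroupOf N) (B.subgroupOf N) (nilpotent_subgroupOf hA N)
        (nilpotent_subgroupOf hB N) ?_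
      intro g
      obtain ⟨a, ha, haN, b, hb, hbN, e⟩ := hfacN g g.2
      exact ⟨⟨a, haN⟩, ha, ⟨b, hbN⟩, hb, Subtype.ext e⟩
    haveI hs2 : Group.IsSolvable (G ⧸ N) := by
      have hnil : Group.IsNilpotent (G ⧸ N) := by
        rcases hN3 with h3 | h3
        · haveI := hB
          refine Group.nilpotent_of_surjective ((QuotientGroup.mk' N).comp B.subtype) ?_
          intro x
          obtain ⟨g, rfl⟩ := QuotientGroup.mk'_surjective N x
          obtain ⟨a, ha, b, hb, rfl⟩ := hfac g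
          refine ⟨⟨b, hb⟩, ?_⟩
          have ha1 : (QuotientGroup.mk' N) a = 1 := (QuotientGroup.eq_one_iff a).mpr (h3 ha)
          simp only [MonoidHom.comp_apply, Subgroup.coe_subtype]
          rw [map_mul, ha1, one_mul]
        · haveI := hA
          refine Group.nilpotent_of_surjective ((QuotientGroup.mk' N).comp A.subtype) ?_
          intro x
          obtain ⟨g, rfl⟩ := QuotientGroup.mk'_surjective N x
          obtain ⟨a, ha, b, hb, rfl⟩ := hfac g
          refine ⟨⟨a, ha⟩, ?_⟩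
          have hb1 : (QuotientGroup.mk' N) b = 1 := (QuotientGroup.eq_one_iff b).mpr (h3 hb)
          simp only [MonoidHom.comp_apply, Subgroup.coe_subtype]
          rw [map_mul, hb1, mul_one]
      exact inferInstance
    exact Group.isSolvable_of_ker_le_range N.subtype (QuotientGroup.mk' N) (by
      intro x hx
      rw [MonoidHom.mem_ker] at hx
      exact ⟨⟨x, (QuotientGroup.eq_one_iff x).mp hx⟩, rfl⟩)
  · push Not at hproper
    haveI hnil := isNilpotent_of_top hproper.1 hA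
    exact inferInstance

theorem isSolvable_of_nilpotent_fac {G : Type u} [Group G] [Finite G] (A B : Subgroup G)
    (hA : Group.IsNilpotent A) (hB : Group.IsNilpotent B)
    (hfac : ∀ g, ∃ a ∈ A, ∃ b ∈ B, g = a * b) : Group.IsSolvable G :=
  isSolvable_aux _ G rfl A B hA hB hfac

end Cfsg.Agent.Lib.Perm.KWGen
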