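import Mathlib

/-!
# `SL₂(F) ≃ PGL₂(F)` over a finite field of characteristic two
-/

set_option autoImplicit false

open Matrix

namespace Cfsg.Agent.Lib.Perm.PGLEven

variable (F : Type*) [Field F] [Fintype F]

/-- The natural map `SL₂(F) → PGL₂(F)` is an isomorphism when `F` has `2^j` elements. -/
noncomputable def mulEquiv {j : ℕ} (hF : Fintype.card F = 2 ^ j) (hj : 1 ≤ j) :
    Matrix.SpecialLinearGroup (Fin 2) F ≃* Matrix.ProjGenLinGroup (Fin 2) F := by
  classical
  have h20 : (2 : F) = 0 := by
    have h1 : ((Fintype.card F : ℕ) : F) = 0 := FiniteField.cast_card_eq_zero F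
    rw [hF] at h1
    push_cast at h1
    exact pow_eq_zero_iff (by omega) |>.1 h1
  have hchar : ringChar F = 2 := CharP.ringChar_of_prime_eq_zero Nat.prime_two (by exact_mod_cast h20)
  refine MulEquiv.ofBijective Matrix.SpecialLinearGroup.toPGL ⟨?_, ?_⟩
  · intro a b hab
    obtain ⟨u, hu⟩ := Matrix.ProjGenLinGroup.mk_eq_mk_iff.1 hab
    have hmat : (a : Matrix (Fin 2) (Fin 2) F) * Matrix.scalar (Fin 2) (u : F) = b := by
      have := congrArg (fun g : GL (Fin 2) F => (g : Matrix (Fin 2) (Fin 2) F)) hu
      simpa using this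
    have hdet := congrArg Matrix.det hmat
    have hds : (Matrix.scalar (Fin 2) (u : F)).det = (u : F) ^ 2 := by
      simp [Matrix.det_fin_two, Matrix.scalar_apply, sq]
    rw [Matrix.det_mul, Matrix.SpecialLinearGroup.det_coe, Matrix.SpecialLinearGroup.det_coe,
      one_mul, hds] at hdet
    have hu1 : (u : F) = 1 := by
      have h3 : ((u : F) + 1) ^ 2 = 0 := by
        have : ((u : F) + 1) ^ 2 = (u : F) ^ 2 + 2 * u + 1 := by ring
        rw [this, h20]
        rw [hdet]
        have h5 : (1 : F) + 1 = 0 := by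
          have : (1 : F) + 1 = 2 := by norm_num
          rw [this, h20]
        linear_combination h5
      have h4 : (u : F) + 1 = 0 := pow_eq_zero_iff (by norm_num) |>.1 h3
      have h5 : (1 : F) + 1 = 0 := by
        have : (1 : F) + 1 = 2 := by norm_num
        rw [this, h20]
      linear_combination h4 - h5
    apply Subtype.ext
    rw [← hmat, hu1]
    simp
  · intro y
    obtain ⟨g, rfl⟩ := Matrix.ProjGenLinGroup.mk_surjective y
    set d : F := (g : Matrix (Fin 2) (Fin 2) F).det with hd
    have hd0 : d ≠ 0 := by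
      have := Matrix.GeneralLinearGroup.det g
      exact (Matrix.GeneralLinearGroup.det g).ne_zero
    obtain ⟨c, hc⟩ := FiniteField.isSquare_of_char_two hchar d
    have hc0 : c ≠ 0 := by
      rintro rfl
      apply hd0
      rw [hc]
      simp
    let w : Fˣ := (Units.mk0 c hc0)⁻¹
    have hw : (w : F) * w * d = 1 := by
      have : (w : F) = c⁻¹ := by simp [w]
      rw [this, hc]
      field_simp
    have hdetw : ((g : Matrix (Fin 2) (Fin 2) F) * Matrix.scalar (Fin 2) (w : F)).det = 1 := by
      have hds : (Matrix.scalar (Fin 2) (w : F)).det = (w : F) ^ 2 := by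
        simp [Matrix.det_fin_two, Matrix.scalar_apply, sq]
      rw [Matrix.det_mul, hds, ← hd]
      linear_combination hw
    refine ⟨⟨_, hdetw⟩, ?_⟩
    have h1 : Matrix.SpecialLinearGroup.toGL (⟨_, hdetw⟩ : Matrix.SpecialLinearGroup (Fin 2) F) =
        g * Matrix.GeneralLinearGroup.scalar (Fin 2) w := by
      exact Units.ext rfl
    show Matrix.ProjGenLinGroup.mk (Matrix.SpecialLinearGroup.toGL _) = _
    rw [h1, map_mul, Matrix.ProjGenLinGroup.mk_scalar, mul_one]

end Cfsg.Agent.Lib.Perm.PGLEven
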