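import Cfsg.Agent.Lib.Perm.Basic

set_option autoImplicit false

open MulAction
open scoped Pointwise

namespace Cfsg.Agent.Lib.Perm.Count

/-- For a transitive action, `|{h | h • u ∈ Z}| * |Y| = |K| * |Z|`. -/
theorem card_hit_mul {K Y : Type*} [Group K] [MulAction K Y] [Fintype K] [Fintype Y] [DecidableEq Y]
    [IsPretransitive K Y] (Z : Finset Y) (u : Y) :
    (Finset.univ.filter (fun h : K => h • u ∈ Z)).card * Fintype.card Y =
      Fintype.card K * Z.card := by
  classical
  -- fibres have constant size
  have hfib : ∀ y : Y, (Finset.univ.filter (fun h : K => h • u = y)).card =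
      (Finset.univ.filter (fun h : K => h • u = u)).card := by
    intro y
    obtain ⟨t, ht⟩ := exists_smul_eq K u y
    refine Finset.card_bij (fun h _ => t⁻¹ * h) ?_ ?_ ?_
    · intro h hh
      simp only [Finset.mem_filter, Finset.mem_univ, true_and] at hh ⊢
      rw [mul_smul, hh, ← ht, inv_smul_smul]
    · intro a _ b _ hab
      exact mul_left_cancel hab
    · intro h hh
      simp only [Finset.mem_filter, Finset.mem_univ, true_and] at hh
      refine ⟨t * h, ?_, by simp⟩
      simp only [Finset.mem_filter, Finset.mem_univ, true_and]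
      rw [mul_smul, hh, ht]
  set c := (Finset.univ.filter (fun h : K => h • u = u)).card with hc
  have h1 : Fintype.card K = Fintype.card Y * c := by
    have := Finset.card_eq_sum_card_fiberwise (s := (Finset.univ : Finset K))
      (t := (Finset.univ : Finset Y)) (f := fun h : K => h • u) (fun _ _ => Finset.mem_univ _)
    rw [Finset.card_univ] at this
    rw [this, Finset.sum_congr rfl (fun y _ => hfib y)]
    simp
  have h2 : (Finset.univ.filter (fun h : K => h • u ∈ Z)).card = Z.card * c := by
    have := Finset.card_eq_sum_card_fiberwise (s := Finset.univ.filter (fun h : K => h • u ∈ Z))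
      (t := Z) (f := fun h : K => h • u) (fun h hh => by simpa using hh)
    rw [this, Finset.sum_congr rfl (g := fun _ => c)]
    · simp
    · intro z hz
      rw [← hfib z]
      congr 1
      ext h
      simp only [Finset.mem_filter, Finset.mem_univ, true_and]
      constructor
      · exact fun h1 => h1.2
      · intro h1
        exact ⟨h1 ▸ hz, h1⟩
  rw [h1, h2]
  ring

/-- Avoiding a small subset at two points. -/
theorem two_avoid {K Y : Type*} [Group K] [MulAction K Y] [Finite K] [Finite Y]
    [IsPretransitive K Y] (Z : Set Y) (hZ : 2 * Z.ncard < Nat.card Y) (u v : Y) :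
    ∃ h : K, h • u ∉ Z ∧ h • v ∉ Z := by
  classical
  have := Fintype.ofFinite K
  have := Fintype.ofFinite Y
  by_contra hcon
  push Not at hcon
  let Z' : Finset Y := Z.toFinite.toFinset
  have hZ' : Z'.card = Z.ncard := by
    rw [Set.ncard_eq_toFinset_card Z Z.toFinite]
  have hmem : ∀ y, y ∈ Z' ↔ y ∈ Z := fun y => by simp [Z']
  have h1 := card_hit_mul (K := K) Z' u
  have h2 := card_hit_mul (K := K) Z' v
  have hcov : (Finset.univ : Finset K) ⊆ Finset.univ.filter (fun h : K => h • u ∈ Z') ∪
      Finset.univ.filter (fun h : K => h • v ∈ Z') := by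
    intro h _
    simp only [Finset.mem_union, Finset.mem_filter, Finset.mem_univ, true_and, hmem]
    by_cases hu : h • u ∈ Z
    · exact Or.inl hu
    · exact Or.inr (hcon h hu)
  have h3 := (Finset.card_le_card hcov).trans (Finset.card_union_le _ _)
  rw [Finset.card_univ] at h3
  have hY : Nat.card Y = Fintype.card Y := Nat.card_eq_fintype_card
  rw [hY] at hZ
  have hKpos : 0 < Fintype.card K := Fintype.card_pos
  have hYpos : 0 < Fintype.card Y := by omega
  have h4 : Fintype.card K * Fintype.card Y ≤ Fintype.card K * (2 * Z'.card) := by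
    calc Fintype.card K * Fintype.card Y
        ≤ ((Finset.univ.filter (fun h : K => h • u ∈ Z')).card +
            (Finset.univ.filter (fun h : K => h • v ∈ Z')).card) * Fintype.card Y :=
          Nat.mul_le_mul_right _ h3
      _ = Fintype.card K * (2 * Z'.card) := by
          rw [add_mul, h1, h2]; ring
  have h5 := Nat.le_of_mul_le_mul_left h4 hKpos
  omega

end Cfsg.Agent.Lib.Perm.Count
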