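import Cfsg.Agent.Lib.Perm.Witt
import Mathlib.Data.ZMod.Basic
import Mathlib.GroupTheory.Perm.ViaEmbedding

/-!
# Generously `k`-transitive groups

Orbits of the pointwise stabiliser of a `k`-set with length prime to `p`.
-/

set_option autoImplicit false

open MulAction
open scoped Pointwise

namespace Cfsg.Agent.Lib.Perm.Generous

variable {G α : Type*} [Group G] [MulAction G α]

/-- Generosity in the form convenient for the action. -/
def IsGenerous (G : Type*) {α : Type*} [Group G] [MulAction G α] (k : ℕ) : Prop :=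
  ∀ s : Finset α, s.card = k + 1 → ∀ τ : Equiv.Perm α, (∀ x, x ∈ s ↔ τ x ∈ s) →
    ∃ g : G, ∀ x ∈ s, g • x = τ x

/-- A `p`-group has a fixed point on an invariant subset of size prime to `p`. -/
theorem fixed_point_exists [Finite α] {p : ℕ} [Fact p.Prime] {L : Type*} [Group L] [MulAction L α]
    {Q : Subgroup L} (hQ : IsPGroup p Q) (D : Set α) (hinv : ∀ q ∈ Q, ∀ y ∈ D, q • y ∈ D)
    (hD : ¬ p ∣ D.ncard) : ∃ y ∈ D, ∀ q ∈ Q, q • y = y := by
  classical
  let _ : MulAction Q D :=
    { smul := fun q y => ⟨(q : L) • (y : α), hinv q q.2 y y.2⟩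
      one_smul := fun y => Subtype.ext (one_smul L (y : α))
      mul_smul := fun a b y => Subtype.ext (mul_smul (a : L) (b : L) (y : α)) }
  have h1 : ¬ p ∣ Nat.card D := by rwa [Nat.card_coe_set_eq]
  obtain ⟨y, hy⟩ := hQ.nonempty_fixed_point_of_prime_not_dvd_card D h1
  refine ⟨y.1, y.2, fun q hq => ?_⟩
  exact congrArg Subtype.val (hy ⟨q, hq⟩)

/-- Generosity implies homogeneity. -/
theorem homogeneous {k : ℕ} (hgen : IsGenerous G (α := α) k) [DecidableEq α] (n : ℕ) :
    ∀ A B : Finset α, A.card = k → B.card = k → (A \ B).card = n →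
      ∃ g : G, ∀ x ∈ A, g • x ∈ B := by
  induction n with
  | zero =>
    intro A B hA hB h0
    refine ⟨1, fun x hx => ?_⟩
    rw [one_smul]
    have : A \ B = ∅ := Finset.card_eq_zero.1 h0
    exact Finset.sdiff_eq_empty_iff_subset.1 this hx
  | succ n ih =>
    intro A B hA hB hn
    have hba : (B \ A).card = n + 1 := by
      have := Finset.card_sdiff_add_card_inter A B
      have h2 := Finset.card_sdiff_add_card_inter B A
      rw [Finset.inter_comm] at h2
      omega
    obtain ⟨a, ha⟩ : (A \ B).Nonempty := Finset.card_pos.1 (by omega)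
    obtain ⟨b, hb⟩ : (B \ A).Nonempty := Finset.card_pos.1 (by omega)
    rw [Finset.mem_sdiff] at ha hb
    have hab : a ≠ b := fun h => ha.2 (h ▸ hb.1)
    obtain ⟨g₁, hg₁⟩ := hgen (insert b A) (by rw [Finset.card_insert_of_notMem hb.2, hA])
      (Equiv.swap a b) (by
        intro x
        by_cases hxa : x = a
        · subst hxa
          simp [ha.1]
        by_cases hxb : x = b
        · subst hxb
          simp [ha.1]
        · rw [Equiv.swap_apply_of_ne_of_ne hxa hxb])
    let A' : Finset α := insert b (A.erase a)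
    have hA' : A'.card = k := by
      rw [Finset.card_insert_of_notMem (by simp [hb.2]), Finset.card_erase_of_mem ha.1, hA]
      have : 0 < A.card := Finset.card_pos.2 ⟨a, ha.1⟩
      omega
    have hdiff : A' \ B = (A \ B).erase a := by
      ext x
      simp only [A', Finset.mem_sdiff, Finset.mem_insert, Finset.mem_erase]
      constructor
      · rintro ⟨rfl | ⟨h1, h2⟩, h3⟩
        · exact (h3 hb.1).elim
        · exact ⟨h1, h2, h3⟩
      · rintro ⟨h1, h2, h3⟩
        exact ⟨Or.inr ⟨h1, h2⟩, h3⟩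
    have hn' : (A' \ B).card = n := by
      rw [hdiff, Finset.card_erase_of_mem (Finset.mem_sdiff.2 ha), hn]
      rfl
    obtain ⟨g₂, hg₂⟩ := ih A' B hA' hB hn'
    refine ⟨g₂ * g₁, fun x hx => ?_⟩
    rw [mul_smul]
    apply hg₂
    rw [hg₁ x (Finset.mem_insert_of_mem hx)]
    by_cases hxa : x = a
    · subst hxa
      simp [A']
    · have hxb : x ≠ b := fun h => hb.2 (h ▸ hx)
      rw [Equiv.swap_apply_of_ne_of_ne hxa hxb]
      simp [A', hxa, hx]

/-- The main theorem on generously transitive groups. -/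
theorem exists_dvd_orbit [Finite G] [Fintype α] [DecidableEq α] {k : ℕ} (hk : k < Fintype.card α)
    (hgen : IsGenerous G (α := α) k) {p : ℕ} (hp : p.Prime) (hpk : p ≤ k)
    (Γ : Finset α) (hΓ : Γ.card = k) (f : Fin p → α) (hf : ∀ i, f i ∉ Γ)
    (hdist : ∀ i j, i ≠ j → f j ∉ orbit (fixingSubgroup G (Γ : Set α)) (f i)) :
    ∃ i, p ∣ Nat.card (orbit (fixingSubgroup G (Γ : Set α)) (f i)) := by
  classical
  have : Fact p.Prime := ⟨hp⟩
  by_contra hcon
  push Not at hcon
  obtain ⟨C, hCΓ, hC⟩ := Finset.exists_subset_card_eq (s := Γ) (n := p) (by omega)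
  let e : ZMod p ≃ C := Fintype.equivOfCardEq (by simp [ZMod.card, hC])
  let c : ZMod p ↪ α := ⟨fun i => (e i : α), fun i j h => e.injective (Subtype.ext h)⟩
  have hcmem : ∀ i, c i ∈ Γ := fun i => hCΓ (e i).2
  have hcrange : ∀ x, x ∈ C ↔ x ∈ Set.range c := by
    intro x
    constructor
    · intro hx
      refine ⟨e.symm ⟨x, hx⟩, ?_⟩
      change ((e (e.symm ⟨x, hx⟩) : C) : α) = x
      simp
    · rintro ⟨i, rfl⟩
      exact (e i).2
  let Γ₀ : Finset α := Γ \ C
  have hΓ₀ : ∀ x ∈ Γ₀, x ∉ Set.range c := by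
    intro x hx hr
    exact (Finset.mem_sdiff.1 hx).2 ((hcrange x).2 hr)
  have hΓsplit : ∀ x ∈ Γ, x ∈ Γ₀ ∨ ∃ i, c i = x := by
    intro x hx
    by_cases hxC : x ∈ C
    · exact Or.inr ((hcrange x).1 hxC)
    · exact Or.inl (Finset.mem_sdiff.2 ⟨hx, hxC⟩)
  -- the subgroup `L`
  let L : Subgroup G :=
    { carrier := {g | (∀ x ∈ Γ₀, g • x = x) ∧ ∃ j : ZMod p, ∀ i, g • c i = c (i + j)}
      mul_mem' := by
        rintro a b ⟨ha, ja, hja⟩ ⟨hb, jb, hjb⟩
        refine ⟨fun x hx => by rw [mul_smul, hb x hx, ha x hx], ja + jb, fun i => ?_⟩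
        rw [mul_smul, hjb, hja]
        congr 1
        ring
      one_mem' := ⟨fun x _ => one_smul _ _, 0, fun i => by simp⟩
      inv_mem' := by
        rintro a ⟨ha, ja, hja⟩
        refine ⟨fun x hx => ?_, -ja, fun i => ?_⟩
        · rw [inv_smul_eq_iff, ha x hx]
        · rw [inv_smul_eq_iff, hja]
          congr 1
          ring }
  have hLmem : ∀ g : G, g ∈ L ↔ (∀ x ∈ Γ₀, g • x = x) ∧ ∃ j : ZMod p, ∀ i, g • c i = c (i + j) :=
    fun g => Iff.rfl
  let H : Subgroup G := fixingSubgroup G (Γ : Set α)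
  have hHmem : ∀ g : G, g ∈ H ↔ ∀ x ∈ Γ, g • x = x := by
    intro g
    simp only [H, mem_fixingSubgroup_iff, Finset.mem_coe]
  -- shifts are available fixing any outside point
  have hshift : ∀ (j : ZMod p) (x : α), x ∉ Γ →
      ∃ g : G, (∀ y ∈ Γ₀, g • y = y) ∧ (∀ i, g • c i = c (i + j)) ∧ g • x = x := by
    intro j x hx
    let τ : Equiv.Perm α := (Equiv.addRight j).viaEmbedding c
    have hτc : ∀ i, τ (c i) = c (i + j) := fun i => by
      simp [τ, Equiv.Perm.viaEmbedding_apply]
    have hτo : ∀ y, y ∉ Set.range c → τ y = y := fun y hy =>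
      Equiv.Perm.viaEmbedding_apply_of_notMem _ _ _ hy
    obtain ⟨g, hg⟩ := hgen (insert x Γ) (by rw [Finset.card_insert_of_notMem hx, hΓ]) τ (by
      intro y
      by_cases hy : y ∈ Set.range c
      · obtain ⟨i, rfl⟩ := hy
        rw [hτc]
        simp [hcmem]
      · rw [hτo y hy])
    refine ⟨g, fun y hy => ?_, fun i => ?_, ?_⟩
    · rw [hg y (Finset.mem_insert_of_mem (Finset.mem_sdiff.1 hy).1), hτo y (hΓ₀ y hy)]
    · rw [hg _ (Finset.mem_insert_of_mem (hcmem i)), hτc]
    · rw [hg x (Finset.mem_insert_self _ _), hτo x]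
      rintro ⟨i, rfl⟩
      exact hx (hcmem i)
  have hcinj : ∀ i j, c i = c j → i = j := fun i j h => c.injective h
  -- `H ≤ L`
  have hHL : ∀ h ∈ H, h ∈ L := by
    intro h hh
    refine ⟨fun x hx => (hHmem h).1 hh x (Finset.mem_sdiff.1 hx).1, 0, fun i => ?_⟩
    rw [add_zero]
    exact (hHmem h).1 hh _ (hcmem i)
  -- invariance of the orbits
  have hinv : ∀ l ∈ L, ∀ x, x ∉ Γ → ∀ y ∈ orbit H x, l • y ∈ orbit H x := by
    rintro l ⟨hl0, j, hlj⟩ x hx y ⟨h, rfl⟩
    obtain ⟨g, hg0, hgj, hgx⟩ := hshift j x hx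
    have hh := (hHmem h).1 h.2
    have hginv : ∀ i, g⁻¹ • c i = c (i - j) := by
      intro i
      rw [inv_smul_eq_iff, hgj]
      congr 1
      ring
    have hmem : l * (h : G) * g⁻¹ ∈ H := by
      rw [hHmem]
      intro z hz
      rcases hΓsplit z hz with hz0 | ⟨i, rfl⟩
      · have h1 : g⁻¹ • z = z := by rw [inv_smul_eq_iff, hg0 z hz0]
        simp only [mul_smul]
        rw [h1, hh z hz, hl0 z hz0]
      · simp only [mul_smul]
        rw [hginv, hh _ (hcmem _), hlj]
        congr 1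
        ring
    refine ⟨⟨_, hmem⟩, ?_⟩
    change (l * (h : G) * g⁻¹) • x = l • (h : G) • x
    simp only [mul_smul]
    have h1 : g⁻¹ • x = x := by rw [inv_smul_eq_iff, hgx]
    rw [h1]
  -- the order of `L`
  have hcardL : Nat.card L = p * Nat.card H := by
    have h1 := Subgroup.card_mul_index (stabilizer L (c 0))
    have horb : orbit L (c 0) = Set.range c := by
      ext x
      constructor
      · rintro ⟨⟨l, _, j, hj⟩, rfl⟩
        exact ⟨0 + j, (hj 0).symm⟩
      · rintro ⟨j, rfl⟩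
        obtain ⟨x, hx⟩ : ∃ x, x ∉ Γ := by
          by_contra hcon'
          push Not at hcon'
          have : Γ = Finset.univ := Finset.eq_univ_of_forall hcon'
          rw [this, Finset.card_univ] at hΓ
          omega
        obtain ⟨g, hg0, hgj, _⟩ := hshift j x hx
        refine ⟨⟨g, hg0, j, hgj⟩, ?_⟩
        change g • c 0 = c j
        rw [hgj, zero_add]
    have hc1 : Nat.card (orbit L (c 0)) = p := by
      rw [horb, Nat.card_range_of_injective c.injective, Nat.card_zmod]
    have hc2 : Nat.card (stabilizer L (c 0)) = Nat.card H := by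
      refine Nat.card_congr ⟨fun l => ⟨l.1.1, ?_⟩, fun h => ⟨⟨h.1, hHL h.1 h.2⟩, ?_⟩, ?_, ?_⟩
      · obtain ⟨⟨l, hl0, j, hj⟩, hl⟩ := l
        have hl' : l • c 0 = c 0 := hl
        rw [hj, zero_add] at hl'
        have hj0 : 0 + j = 0 := by
          rw [zero_add]
          exact hcinj _ _ (by simpa using hl')
        have hj0' : j = 0 := by simpa using hj0
        rw [hHmem]
        intro z hz
        rcases hΓsplit z hz with hz0 | ⟨i, rfl⟩
        · exact hl0 z hz0
        · rw [hj, hj0', add_zero]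
      · exact (hHmem h.1).1 h.2 _ (hcmem 0)
      · intro l; rfl
      · intro h; rfl
    rw [index_stabilizer, ← Nat.card_coe_set_eq, hc1, hc2] at h1
    rw [← h1, mul_comm]
  -- Sylow subgroup and its fixed points
  let Q : Sylow p L := Classical.arbitrary _
  have hQp : IsPGroup p (Q : Subgroup L) := Q.isPGroup'
  have hfix : ∀ i, ∃ y ∈ orbit H (f i), ∀ q ∈ (Q : Subgroup L), q • y = y := by
    intro i
    refine fixed_point_exists hQp _ (fun q _ y hy => ?_) ?_
    · exact hinv q q.2 (f i) (hf i) y hy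
    · rw [← Nat.card_coe_set_eq]
      exact hcon i
  choose b hbo hbfix using hfix
  have hbΓ : ∀ i, b i ∉ Γ := by
    intro i hbi
    obtain ⟨h, hh⟩ := hbo i
    have h1 : (h : G) • b i = b i := (hHmem h).1 h.2 _ hbi
    have hh' : (h : G) • f i = b i := hh
    have h2 : f i = b i := MulAction.injective (h : G) (hh'.trans h1.symm)
    exact hf i (h2 ▸ hbi)
  have hbinj : Function.Injective b := by
    intro i j hij
    by_contra hne
    apply hdist i j hne
    obtain ⟨u, hu⟩ := hbo i
    obtain ⟨v, hv⟩ := hbo j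
    have hu' : (u : G) • f i = b i := hu
    have hv' : (v : G) • f j = b j := hv
    refine ⟨v⁻¹ * u, ?_⟩
    change ((v : G)⁻¹ * (u : G)) • f i = f j
    rw [mul_smul, hu', hij, ← hv', inv_smul_smul]
  -- the new `k`-set
  let Γ' : Finset α := Γ₀ ∪ Finset.univ.image b
  have hΓ' : Γ'.card = k := by
    rw [Finset.card_union_of_disjoint, Finset.card_image_of_injective _ hbinj, Finset.card_univ,
      Fintype.card_fin, Finset.card_sdiff_of_subset hCΓ, hΓ, hC]
    · omega
    · rw [Finset.disjoint_left]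
      intro x hx hx'
      obtain ⟨i, _, rfl⟩ := Finset.mem_image.1 hx'
      exact hbΓ i (Finset.mem_sdiff.1 hx).1
  obtain ⟨g₀, hg₀⟩ := homogeneous hgen _ Γ Γ' hΓ hΓ' rfl
  have hQfix : ∀ q ∈ (Q : Subgroup L), ∀ x ∈ Γ', (q : G) • x = x := by
    intro q hq x hx
    rcases Finset.mem_union.1 hx with hx | hx
    · exact q.2.1 x hx
    · obtain ⟨i, _, rfl⟩ := Finset.mem_image.1 hx
      exact hbfix i q hq
  let Q₁ : Subgroup G := ((Q : Subgroup L).map L.subtype).map (MulAut.conj g₀⁻¹).toMonoidHom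
  have hQ₁ : Q₁ ≤ H := by
    rintro _ ⟨_, ⟨q, hq, rfl⟩, rfl⟩
    rw [hHmem]
    intro x hx
    have := hQfix q hq _ (hg₀ x hx)
    simp only [MulEquiv.coe_toMonoidHom, MulAut.conj_apply, inv_inv, Subgroup.coe_subtype, mul_smul]
    rw [this, inv_smul_smul]
  have hcQ₁ : Nat.card Q₁ = Nat.card (Q : Subgroup L) := by
    rw [Subgroup.card_map_of_injective (MulAut.conj g₀⁻¹).injective,
      Subgroup.card_map_of_injective L.subtype_injective]
  have hdvd : Nat.card (Q : Subgroup L) ∣ Nat.card H := by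
    rw [← hcQ₁]
    exact Subgroup.card_dvd_of_le hQ₁
  obtain ⟨d, hd⟩ := hdvd
  have hindex := Subgroup.card_mul_index (Q : Subgroup L)
  rw [hcardL, hd] at hindex
  have hpos : 0 < Nat.card (Q : Subgroup L) := Nat.card_pos
  have hfin : (Q : Subgroup L).index = p * d := by
    have : Nat.card (Q : Subgroup L) * (Q : Subgroup L).index = Nat.card (Q : Subgroup L) * (p * d) := by
      rw [hindex]
      ring
    exact Nat.eq_of_mul_eq_mul_left hpos this
  apply Q.not_dvd_index
  rw [hfin]
  exact dvd_mul_right _ _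

end Cfsg.Agent.Lib.Perm.Generous
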