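import Cfsg.Agent.Lib.Perm.Witt

/-!
# Jordan's theorem on prime cycles

A primitive group containing a `p`-cycle, `p` prime, `p + 3 ≤ n`, contains the alternating group.
-/

set_option autoImplicit false

open MulAction Equiv
open scoped Pointwise

namespace Cfsg.Agent.Lib.Perm.JordanPrime

/-- A commutator of two elements of the normaliser of a cyclic group centralises it. -/
theorem commutator_centralizes {X : Type*} [Group X] (g x y : X)
    (hx : x ∈ Subgroup.normalizer ((Subgroup.zpowers g : Subgroup X) : Set X))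
    (hy : y ∈ Subgroup.normalizer ((Subgroup.zpowers g : Subgroup X) : Set X)) :
    (x⁻¹ * y⁻¹ * x * y) * g = g * (x⁻¹ * y⁻¹ * x * y) := by
  have h1 : x * g * x⁻¹ ∈ Subgroup.zpowers g :=
    (Subgroup.mem_normalizer_iff.1 hx g).1 (Subgroup.mem_zpowers g)
  have h2 : y * g * y⁻¹ ∈ Subgroup.zpowers g :=
    (Subgroup.mem_normalizer_iff.1 hy g).1 (Subgroup.mem_zpowers g)
  obtain ⟨a, ha⟩ := Subgroup.mem_zpowers_iff.1 h1
  obtain ⟨b, hb⟩ := Subgroup.mem_zpowers_iff.1 h2
  have h3 : (x * y) * g * (x * y)⁻¹ = g ^ (a * b) := by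
    calc (x * y) * g * (x * y)⁻¹ = x * (y * g * y⁻¹) * x⁻¹ := by group
      _ = x * g ^ b * x⁻¹ := by rw [hb]
      _ = (x * g * x⁻¹) ^ b := (conj_zpow).symm
      _ = g ^ (a * b) := by rw [← ha, zpow_mul]
  have h4 : (y * x) * g * (y * x)⁻¹ = g ^ (a * b) := by
    calc (y * x) * g * (y * x)⁻¹ = y * (x * g * x⁻¹) * y⁻¹ := by group
      _ = y * g ^ a * y⁻¹ := by rw [ha]
      _ = (y * g * y⁻¹) ^ a := (conj_zpow).symm
      _ = g ^ (a * b) := by rw [← hb, ← zpow_mul, mul_comm]
  have h5 : (x * y) * g * (x * y)⁻¹ = (y * x) * g * (y * x)⁻¹ := h3.trans h4.symm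
  have h6 : x⁻¹ * y⁻¹ * x * y = (y * x)⁻¹ * (x * y) := by group
  rw [h6]
  have h7 : (x * y) * g = (y * x) * g * (y * x)⁻¹ * (x * y) := by
    rw [← h5]
    group
  calc (y * x)⁻¹ * (x * y) * g = (y * x)⁻¹ * ((x * y) * g) := by group
    _ = (y * x)⁻¹ * ((y * x) * g * (y * x)⁻¹ * (x * y)) := by rw [← h7]
    _ = g * ((y * x)⁻¹ * (x * y)) := by group

variable {α : Type*} [Fintype α] [DecidableEq α]

/-- The main case. -/
theorem alternating_le_of_prime_cycle (G : Subgroup (Perm α)) (hG : IsPreprimitive G α) {p : ℕ}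
    (hp : p.Prime) (hpn : p + 3 ≤ Fintype.card α) (hp3 : p ≠ 3) {g : Perm α} (hgc : g.IsCycle)
    (hgp : g.support.card = p) (hg : g ∈ G) : alternatingGroup α ≤ G := by
  classical
  have : Fact p.Prime := ⟨hp⟩
  -- notation
  let s : Set α := ((g.support : Finset α) : Set α)ᶜ
  have hsmem : ∀ a : α, a ∈ s ↔ a ∉ g.support := fun a => by simp [s]
  let H : Subgroup G := fixingSubgroup G s
  have hHmem : ∀ y : G, y ∈ H ↔ ∀ a, a ∉ g.support → (y : Perm α) a = a := by
    intro y
    simp only [H, mem_fixingSubgroup_iff]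
    constructor
    · intro h a ha
      exact h a ((hsmem a).2 ha)
    · intro h a ha
      exact h a ((hsmem a).1 ha)
  have hcardΓ : Nat.card (SubMulAction.ofFixingSubgroup G s) = p := by
    rw [Nat.card_eq_fintype_card, Fintype.card_subtype, ← hgp]
    apply congr_arg
    ext x
    simp [SubMulAction.mem_ofFixingSubgroup_iff, s]
  have htr : IsPretransitive (fixingSubgroup G s) (SubMulAction.ofFixingSubgroup G s) :=
    Perm.isPretransitive_of_isCycle_mem hgc hg
  have hprimH : IsPreprimitive (fixingSubgroup G s) (SubMulAction.ofFixingSubgroup G s) :=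
    IsPreprimitive.of_prime_card (by rw [hcardΓ]; exact hp)
  have hcompl : (g.supportᶜ : Finset α).card + p = Fintype.card α := by
    rw [Finset.card_compl, hgp]
    have := Finset.card_le_univ g.support
    omega
  obtain ⟨r, hr⟩ : ∃ r, (g.supportᶜ : Finset α).card = r + 1 := ⟨_, by
    rw [Nat.sub_add_cancel (show 1 ≤ (g.supportᶜ : Finset α).card by omega)]⟩
  have hsc : s.ncard = r + 1 := by
    have : s = ((g.supportᶜ : Finset α) : Set α) := by simp [s]
    rw [this, Set.ncard_coe_finset, hr]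
  have hncard : Nat.card α = Fintype.card α := Nat.card_eq_fintype_card
  have hp2 := hp.two_le
  have hmp := hG.isMultiplyPreprimitive hsc (by omega) hprimH
  have hm2 : IsMultiplyPretransitive G α (r + 2) := hmp.isMultiplyPretransitive
  have hmr : IsMultiplyPretransitive G α (r + 1) :=
    isMultiplyPretransitive_of_le' (Nat.le_succ _) (by
      rw [ENat.card_eq_coe_fintype_card]
      exact_mod_cast (show r + 2 ≤ Fintype.card α by omega))
  -- the Sylow subgroup
  let g' : G := ⟨g, hg⟩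
  let Q : Subgroup G := Subgroup.zpowers g'
  have hgp1 : g ^ p = 1 := by
    rw [← hgp, ← hgc.orderOf]
    exact pow_orderOf_eq_one g
  have hordg : orderOf g' = p := by
    rw [← Subgroup.orderOf_coe]
    change orderOf g = p
    rw [hgc.orderOf, hgp]
  have hQcard : Nat.card Q = p := by
    rw [Nat.card_zpowers, hordg]
  have hQp : IsPGroup p Q := IsPGroup.of_card (n := 1) (by rw [hQcard, pow_one])
  have hg'H : g' ∈ H := by
    rw [hHmem]
    intro a ha
    simpa [Perm.mem_support] using ha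
  have hQH : Q ≤ H := by
    rw [Subgroup.zpowers_le]
    exact hg'H
  -- the index is prime to `p`
  have hind : ¬ p ∣ (Q.subgroupOf H).index := by
    intro hd
    have hcardH : Nat.card H ∣ p.factorial := by
      have hinj : Function.Injective (toPermHom H (SubMulAction.ofFixingSubgroup G s)) := by
        intro y z hyz
        apply Subtype.ext
        apply Subtype.ext
        ext a
        by_cases ha : a ∈ s
        · have h1 := y.2 ⟨a, ha⟩
          have h2 := z.2 ⟨a, ha⟩
          exact h1.trans h2.symm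
        · have hmem : a ∈ SubMulAction.ofFixingSubgroup G s := ha
          have := DFunLike.congr_fun hyz ⟨a, hmem⟩
          exact congrArg Subtype.val this
      have := Subgroup.card_dvd_of_injective _ hinj
      rwa [Nat.card_perm, hcardΓ] at this
    have h1 := Subgroup.index_mul_card (Q.subgroupOf H)
    have h2 : Nat.card (Q.subgroupOf H) = p := by
      rw [← hQcard]
      exact Nat.card_congr (Subgroup.subgroupOfEquivOfLe hQH).toEquiv
    rw [h2] at h1
    have h3 : p * p ∣ Nat.card H := by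
      rw [← h1]
      exact mul_dvd_mul_right hd p
    have h4 : p * p ∣ p.factorial := h3.trans hcardH
    obtain ⟨q, hq⟩ : ∃ q, p = q + 1 := ⟨p - 1, by have := hp.pos; omega⟩
    have h5 : p.factorial = p * q.factorial := by
      rw [hq, Nat.factorial_succ]
    rw [h5] at h4
    have h6 : p ∣ q.factorial := Nat.dvd_of_mul_dvd_mul_left hp.pos h4
    rw [hp.dvd_factorial] at h6
    omega
  -- lifts
  have hlift : ∀ τ : Perm α, (∀ a, a ∉ g.support → τ a ∉ g.support) →
      ∃ x : G, x ∈ Subgroup.normalizer ((Subgroup.zpowers g' : Subgroup G) : Set G) ∧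
        ∀ a, a ∉ g.support → (x : Perm α) a = τ a := by
    intro τ hτ
    obtain ⟨x₀, hx₀⟩ := Cfsg.Agent.Lib.Perm.Basic.exists_agree_of_card_eq hmr (g.supportᶜ) hr τ
      (τ.injective.injOn)
    have hx₀' : ∀ a, a ∉ g.support → (x₀ : Perm α) a = τ a := fun a ha =>
      hx₀ a (Finset.mem_compl.2 ha)
    -- `x₀` permutes the complement
    have hx₀inv : ∀ a, a ∉ g.support → (x₀⁻¹ : G) • a ∉ g.support := by
      have himg : (g.supportᶜ).image (x₀ : Perm α) = g.supportᶜ := by
        apply Finset.eq_of_subset_of_card_le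
        · intro b hb
          obtain ⟨a, ha, rfl⟩ := Finset.mem_image.1 hb
          rw [Finset.mem_compl] at ha ⊢
          rw [hx₀' a ha]
          exact hτ a ha
        · rw [Finset.card_image_of_injective _ (x₀ : Perm α).injective]
      intro a ha
      have : a ∈ (g.supportᶜ).image (x₀ : Perm α) := by
        rw [himg]
        exact Finset.mem_compl.2 ha
      obtain ⟨b, hb, hba⟩ := Finset.mem_image.1 this
      have hb' : (x₀⁻¹ : G) • a = b := by
        rw [inv_smul_eq_iff]
        exact hba.symm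
      rw [hb']
      exact Finset.mem_compl.1 hb
    obtain ⟨u, huH, hu⟩ := Cfsg.Agent.Lib.Perm.Witt.frattini_sylow hQp hQH hQH x₀ (by
      intro y
      rw [hHmem, hHmem]
      constructor
      · intro hy a ha
        have h1 := hy _ (hx₀inv a ha)
        have h2 : ((x₀ * y * x₀⁻¹ : G) : Perm α) a = (x₀ : Perm α) ((y : Perm α) ((x₀⁻¹ : G) • a)) := rfl
        rw [h2, h1]
        exact smul_inv_smul x₀ a
      · intro hy a ha
        have h1 := hy ((x₀ : Perm α) a) (by
          rw [hx₀' a ha]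
          exact hτ a ha)
        have h2 : ((x₀ * y * x₀⁻¹ : G) : Perm α) ((x₀ : Perm α) a) = (x₀ : Perm α) ((y : Perm α) a) := by
          change (x₀ : Perm α) ((y : Perm α) ((x₀⁻¹ : G) • (x₀ • a))) = _
          rw [inv_smul_smul]
        rw [h2] at h1
        exact (x₀ : Perm α).injective h1) hind
    refine ⟨u * x₀, hu, fun a ha => ?_⟩
    have h1 : ((u * x₀ : G) : Perm α) a = (u : Perm α) ((x₀ : Perm α) a) := rfl
    rw [h1, hx₀' a ha]
    exact (hHmem u).1 huH _ (hτ a ha)
  -- three points outside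
  have hthree : 2 < (g.supportᶜ : Finset α).card := by omega
  obtain ⟨a, ha, b, hb, c, hc, hab, hac, hbc⟩ := Finset.two_lt_card.1 hthree
  rw [Finset.mem_compl] at ha hb hc
  let τ₁ : Perm α := swap a b
  let τ₂ : Perm α := swap a c
  have hτ₁ : ∀ u, u ∉ g.support → τ₁ u ∉ g.support := by
    intro u hu
    simp only [τ₁, swap_apply_def]
    split_ifs <;> assumption
  have hτ₂ : ∀ u, u ∉ g.support → τ₂ u ∉ g.support := by
    intro u hu
    simp only [τ₂, swap_apply_def]
    split_ifs <;> assumption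
  obtain ⟨x₁, hx₁n, hx₁⟩ := hlift τ₁ hτ₁
  obtain ⟨x₂, hx₂n, hx₂⟩ := hlift τ₂ hτ₂
  let z : G := x₁⁻¹ * x₂⁻¹ * x₁ * x₂
  have hzc : z * g' = g' * z := commutator_centralizes g' x₁ x₂ hx₁n hx₂n
  have hzc' : (z : Perm α) * g = g * (z : Perm α) := congrArg Subtype.val hzc
  let t₀ : Perm α := swap a b * swap a c
  let t : Perm α := t₀ * t₀
  have ht₀3 : t₀.IsThreeCycle := Perm.isThreeCycle_swap_mul_swap_same hab hac hbc
  -- inverse on the complement
  have hinv₁ : ∀ v, v ∉ g.support → ((x₁⁻¹ : G) : Perm α) v = τ₁ v := by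
    intro v hv
    have h1 : (x₁ : Perm α) (τ₁ v) = v := by
      rw [hx₁ _ (hτ₁ v hv)]
      simp [τ₁]
    have h2 : ((x₁⁻¹ : G) : Perm α) v = (x₁ : Perm α)⁻¹ v := rfl
    rw [h2, Perm.inv_eq_iff_eq, h1]
  have hinv₂ : ∀ v, v ∉ g.support → ((x₂⁻¹ : G) : Perm α) v = τ₂ v := by
    intro v hv
    have h1 : (x₂ : Perm α) (τ₂ v) = v := by
      rw [hx₂ _ (hτ₂ v hv)]
      simp [τ₂]
    have h2 : ((x₂⁻¹ : G) : Perm α) v = (x₂ : Perm α)⁻¹ v := rfl
    rw [h2, Perm.inv_eq_iff_eq, h1]
  have hzS : ∀ u, u ∉ g.support → (z : Perm α) u = t u := by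
    intro u hu
    have h0 : (z : Perm α) u =
        ((x₁⁻¹ : G) : Perm α) (((x₂⁻¹ : G) : Perm α) ((x₁ : Perm α) ((x₂ : Perm α) u))) := rfl
    rw [h0, hx₂ u hu, hx₁ _ (hτ₂ u hu), hinv₂ _ (hτ₁ _ (hτ₂ u hu)),
      hinv₁ _ (hτ₂ _ (hτ₁ _ (hτ₂ u hu)))]
    rfl
  have htS : ∀ u, u ∉ g.support → t u ∉ g.support := by
    intro u hu
    exact hτ₁ _ (hτ₂ _ (hτ₁ _ (hτ₂ u hu)))
  have htΓ : ∀ u, u ∈ g.support → t u = u := by
    intro u hu
    have h1 : u ≠ a := fun h => ha (h ▸ hu)
    have h2 : u ≠ b := fun h => hb (h ▸ hu)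
    have h3 : u ≠ c := fun h => hc (h ▸ hu)
    simp only [t, t₀, Perm.mul_apply]
    rw [swap_apply_of_ne_of_ne h1 h3, swap_apply_of_ne_of_ne h1 h2,
      swap_apply_of_ne_of_ne h1 h3, swap_apply_of_ne_of_ne h1 h2]
  -- on the complement: powers
  have hzkS : ∀ k : ℕ, ∀ u, u ∉ g.support → ((z : Perm α) ^ k) u = (t ^ k) u := by
    intro k
    induction k with
    | zero => intro u _; rfl
    | succ k ih =>
      intro u hu
      rw [pow_succ, pow_succ, Perm.mul_apply, Perm.mul_apply, hzS u hu, ih _ (htS u hu)]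
  have htk : ∀ k : ℕ, ∀ u, u ∈ g.support → (t ^ k) u = u := by
    intro k
    induction k with
    | zero => intro u _; rfl
    | succ k ih =>
      intro u hu
      rw [pow_succ, Perm.mul_apply, htΓ u hu, ih u hu]
  -- on the support
  have hgsupp : 0 < g.support.card := by
    rw [hgp]
    exact hp.pos
  obtain ⟨u₀, hu₀⟩ := Finset.card_pos.1 hgsupp
  have hu₀' : g u₀ ≠ u₀ := Perm.mem_support.1 hu₀
  have hcomm_app : ∀ u, (z : Perm α) (g u) = g ((z : Perm α) u) := fun u =>
    DFunLike.congr_fun hzc' u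
  have hzsupp : ∀ u, u ∈ g.support → (z : Perm α) u ∈ g.support := by
    intro u hu
    rw [Perm.mem_support] at hu ⊢
    intro h
    apply hu
    apply (z : Perm α).injective
    rw [hcomm_app, h]
  obtain ⟨j, hj⟩ := hgc.exists_pow_eq hu₀' (Perm.mem_support.1 (hzsupp u₀ hu₀))
  have hzΓ : ∀ u, u ∈ g.support → (z : Perm α) u = (g ^ j) u := by
    intro u hu
    obtain ⟨i, hi⟩ := hgc.exists_pow_eq hu₀' (Perm.mem_support.1 hu)
    have hcomm_pow : ∀ i : ℕ, ∀ w, (z : Perm α) ((g ^ i) w) = (g ^ i) ((z : Perm α) w) := by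
      intro i
      induction i with
      | zero => intro w; rfl
      | succ i ih =>
        intro w
        rw [pow_succ, Perm.mul_apply, Perm.mul_apply, ih, hcomm_app]
    rw [← hi, hcomm_pow, ← hj]
    simp only [← Perm.mul_apply, ← pow_add, add_comm]
  have hgjsupp : ∀ u, u ∈ g.support → (g ^ j) u ∈ g.support := by
    intro u hu
    have := hzΓ u hu
    rw [← this]
    exact hzsupp u hu
  have hzkΓ : ∀ k : ℕ, ∀ u, u ∈ g.support → ((z : Perm α) ^ k) u = ((g ^ j) ^ k) u := by
    intro k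
    induction k with
    | zero => intro u _; rfl
    | succ k ih =>
      intro u hu
      rw [pow_succ, pow_succ, Perm.mul_apply, Perm.mul_apply, hzΓ u hu, ih _ (hgjsupp u hu)]
  have hzpeq : (z : Perm α) ^ p = t ^ p := by
    ext u
    by_cases hu : u ∈ g.support
    · rw [hzkΓ p u hu, htk p u hu, ← pow_mul, mul_comm, pow_mul, hgp1]
      simp
    · exact hzkS p u hu
  have htpG : t ^ p ∈ G := by
    rw [← hzpeq]
    exact G.pow_mem z.2 p
  -- conclude
  have ht₀ord : orderOf t₀ = 3 := ht₀3.orderOf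
  have ht₀3' : t₀ ^ 3 = 1 := by
    rw [← ht₀ord]
    exact pow_orderOf_eq_one t₀
  have hcop : Nat.Coprime (2 * p) 3 := by
    have h1 : Nat.Coprime p 3 := (Nat.coprime_primes hp Nat.prime_three).2 hp3
    exact Nat.Coprime.mul_left (by norm_num) h1
  obtain ⟨e, he⟩ := Nat.exists_mul_mod_eq_one_of_coprime hcop (by norm_num)
  have ht₀G : t₀ ∈ G := by
    have h1 : t ^ p = t₀ ^ (2 * p) := by
      simp only [t]
      rw [← pow_two, ← pow_mul]
    have h2 : (t ^ p) ^ e = t₀ := by
      rw [h1, ← pow_mul, pow_eq_pow_mod _ ht₀3', he.2, pow_one]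
    rw [← h2]
    exact G.pow_mem htpG e
  exact Perm.alternatingGroup_le_of_isPreprimitive_of_isThreeCycle_mem hG ht₀3 ht₀G

/-- S0713. -/
theorem jordan_prime_cycle (G : Subgroup (Perm α)) (hG : IsPreprimitive G α) {p : ℕ}
    (hp : p.Prime) (hpn : p + 3 ≤ Fintype.card α) {g : Perm α} (hgc : g.IsCycle)
    (hgp : g.support.card = p) (hg : g ∈ G) : alternatingGroup α ≤ G := by
  by_cases hp3 : p = 3
  · subst hp3
    exact Perm.alternatingGroup_le_of_isPreprimitive_of_isThreeCycle_mem hG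
      (card_support_eq_three_iff.1 hgp) hg
  · exact alternating_le_of_prime_cycle G hG hp hpn hp3 hgc hgp hg

end Cfsg.Agent.Lib.Perm.JordanPrime
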