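import Cfsg.Agent.Lib.Perm.Count
import Mathlib.Combinatorics.Enumerative.DoubleCounting

/-!
# A small Jordan set in a primitive group gives 3-transitivity

`G` primitive on `Ω`, `Γ` with `1 < |Γ|`, `2 |Γ| ≤ |Ω|` and the pointwise stabiliser of `Γᶜ`
transitive on `Γ`.  Then the stabiliser of a point is primitive on the remaining points, and `G`
is 3-transitive.
-/

set_option autoImplicit false

open MulAction
open scoped Pointwise

namespace Cfsg.Agent.Lib.Perm.JordanThree

variable {G Ω : Type*} [Group G] [MulAction G Ω]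

/-- Step A: there is a translate of `Γ` through `x` avoiding `a` and `y`. -/
theorem exists_translate [Finite G] [Finite Ω] (hG2 : IsMultiplyPretransitive G Ω 2)
    (Γ : Set Ω) (hne : Γ.Nonempty) (h2 : 2 * Γ.ncard ≤ Nat.card Ω)
    {a x y : Ω} (hax : a ≠ x) (hyx : y ≠ x) :
    ∃ f : G, f • x ∈ Γ ∧ f • a ∉ Γ ∧ f • y ∉ Γ := by
  classical
  obtain ⟨w, hw⟩ := hne
  have htr : IsPretransitive G Ω := isPretransitive_of_is_two_pretransitive (G := G)
  obtain ⟨f₀, hf₀⟩ := htr.exists_smul_eq x w
  have hK : IsPretransitive (stabilizer G x) (SubMulAction.ofStabilizer G x) := by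
    rw [← is_one_pretransitive_iff]
    exact (SubMulAction.ofStabilizer.isMultiplyPretransitive (n := 1)).1 hG2
  let Z : Set (SubMulAction.ofStabilizer G x) := {u | f₀ • (u : Ω) ∈ Γ}
  have hZ : Z.ncard + 1 ≤ Γ.ncard := by
    have h1 : Z.ncard ≤ (Γ \ {w}).ncard := by
      refine Set.ncard_le_ncard_of_injOn (fun u => f₀ • (u : Ω)) ?_ ?_ (Set.toFinite _)
      · intro u hu
        refine ⟨hu, ?_⟩
        intro h
        rw [← hf₀] at h
        exact (SubMulAction.neq_of_mem_ofStabilizer G x (x := u)) (MulAction.injective f₀ h)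
      · intro u _ v _ huv
        exact Subtype.ext (MulAction.injective f₀ huv)
    have h2 := Set.ncard_sdiff_singleton_add_one hw (Set.toFinite Γ)
    omega
  have hcard := SubMulAction.nat_card_ofStabilizer_add_one_eq G x
  obtain ⟨h, hh1, hh2⟩ := Cfsg.Agent.Lib.Perm.Count.two_avoid (K := stabilizer G x) Z (by omega)
    ⟨a, by simpa [SubMulAction.mem_ofStabilizer_iff] using hax⟩
    ⟨y, by simpa [SubMulAction.mem_ofStabilizer_iff] using hyx⟩
  refine ⟨f₀ * (h : G), ?_, by rw [mul_smul]; exact hh1, by rw [mul_smul]; exact hh2⟩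
  rw [mul_smul, show (h : G) • x = x from h.2, hf₀]
  exact hw

/-- The set swept out by the translates of `Γ` through `x` and not through `a`. -/
def sweep (G : Type*) [Group G] [MulAction G Ω] (Γ : Set Ω) (a x : Ω) : Set Ω :=
  {y | ∃ f : G, f • x ∈ Γ ∧ f • a ∉ Γ ∧ f • y ∈ Γ}

/-- Step B–E: if `stabilizer G a` has a nontrivial block containing `x`, then the sweep of `(a,x)`
is small. -/
theorem sweep_small [Finite G] [Finite Ω] (hG2 : IsMultiplyPretransitive G Ω 2)
    (Γ : Set Ω) (hne : Γ.Nonempty) (h2 : 2 * Γ.ncard ≤ Nat.card Ω)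
    (htr : ∀ x ∈ Γ, ∀ y ∈ Γ, ∃ g : G, (∀ z ∉ Γ, g • z = z) ∧ g • x = y)
    {a : Ω} {x y : SubMulAction.ofStabilizer G a}
    {B : Set (SubMulAction.ofStabilizer G a)} (hB : IsBlock (stabilizer G a) B)
    (hxB : x ∈ B) (hyB : y ∈ B) (hxy : y ≠ x) (hBu : B ≠ Set.univ) :
    2 * (sweep G Γ a x).ncard + 1 ≤ Nat.card Ω := by
  classical
  have htrans : IsPretransitive G Ω := isPretransitive_of_is_two_pretransitive (G := G)
  have hK : IsPretransitive (stabilizer G a) (SubMulAction.ofStabilizer G a) := by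
    rw [← is_one_pretransitive_iff]
    exact (SubMulAction.ofStabilizer.isMultiplyPretransitive (n := 1)).1 hG2
  have hax : a ≠ (x : Ω) := (SubMulAction.neq_of_mem_ofStabilizer G a).symm
  have hyx : (y : Ω) ≠ x := fun h => hxy (Subtype.ext h)
  -- Step B
  have hstepB : ∀ f : G, f • (x : Ω) ∈ Γ → f • a ∉ Γ →
      ∀ z ∈ B, f • (z : Ω) ∉ Γ → ∀ t : Ω, f • t ∈ Γ → t ∈ Subtype.val '' B := by
    intro f hfx hfa z hz hfz t ht
    obtain ⟨e, he, hex⟩ := htr _ hfx _ ht
    have hka : (f⁻¹ * e * f) • a = a := by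
      simp only [mul_smul]
      rw [he _ hfa, inv_smul_smul]
    have hkz : (f⁻¹ * e * f) • (z : Ω) = z := by
      simp only [mul_smul]
      rw [he _ hfz, inv_smul_smul]
    let k : stabilizer G a := ⟨f⁻¹ * e * f, hka⟩
    have hkB : k • B = B := hB.smul_eq_of_mem hz (by
      have : k • z = z := Subtype.ext hkz
      rw [this]; exact hz)
    have hkx : (k • x : SubMulAction.ofStabilizer G a) ∈ B := by
      rw [← hkB]; exact Set.smul_mem_smul_set hxB
    refine ⟨_, hkx, ?_⟩
    change (f⁻¹ * e * f) • (x : Ω) = t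
    simp only [mul_smul]
    rw [hex, inv_smul_smul]
  -- the block has size bigger than `Γ`
  have hcardT : ∀ f : G, Set.ncard {t : Ω | f • t ∈ Γ} = Γ.ncard := by
    intro f
    have : {t : Ω | f • t ∈ Γ} = f⁻¹ • Γ := by
      ext t
      rw [Set.mem_inv_smul_set_iff]
      rfl
    rw [this, Set.ncard_smul_set]
  obtain ⟨f, hfx, hfa, hfy⟩ := exists_translate hG2 Γ hne h2 hax hyx
  have hlt : Γ.ncard < (Subtype.val '' B).ncard := by
    rw [← hcardT f]
    refine Set.ncard_lt_ncard ⟨fun t ht => hstepB f hfx hfa y hyB hfy t ht, fun hsub => ?_⟩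
      (Set.toFinite _)
    exact hfy (hsub ⟨y, hyB, rfl⟩)
  -- Step E
  have hsub : sweep G Γ a x ⊆ Subtype.val '' B := by
    rintro t ⟨f', hf'x, hf'a, hf't⟩
    by_cases hz : ∃ z ∈ B, f' • (z : Ω) ∉ Γ
    · obtain ⟨z, hz, hf'z⟩ := hz
      exact hstepB f' hf'x hf'a z hz hf'z t hf't
    · push Not at hz
      exfalso
      have hle : (Subtype.val '' B).ncard ≤ Set.ncard {t : Ω | f' • t ∈ Γ} := by
        refine Set.ncard_le_ncard ?_ (Set.toFinite _)
        rintro _ ⟨z, hz', rfl⟩
        exact hz z hz'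
      rw [hcardT f'] at hle
      omega
  have hle := Set.ncard_le_ncard hsub (Set.toFinite _)
  rw [Set.ncard_image_of_injective _ Subtype.val_injective] at hle
  have hB2 : B.ncard * 2 ≤ Nat.card (SubMulAction.ofStabilizer G a) := by
    by_contra hcon
    exact hBu (hB.eq_univ_of_card_lt (by omega))
  have hcard := SubMulAction.nat_card_ofStabilizer_add_one_eq G a
  omega

/-- Transport of the sweep size. -/
theorem sweep_transport [Finite Ω] (hG2 : IsMultiplyPretransitive G Ω 2)
    (Γ : Set Ω) {a a' x : Ω} (hax : a ≠ x) (ha'x : a' ≠ x) :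
    (sweep G Γ a' x).ncard ≤ (sweep G Γ a x).ncard := by
  obtain ⟨g, hga, hgx⟩ := (is_two_pretransitive_iff.1 hG2) hax ha'x
  refine Set.ncard_le_ncard_of_injOn (fun y => g⁻¹ • y) ?_ ?_ (Set.toFinite _)
  · rintro y ⟨f, hfx, hfa, hfy⟩
    refine ⟨f * g, ?_, ?_, ?_⟩
    · rwa [mul_smul, hgx]
    · rwa [mul_smul, hga]
    · rwa [mul_smul, smul_inv_smul]
  · intro y _ z _ hyz
    exact MulAction.injective g⁻¹ hyz

/-- Step G: the double count. -/
theorem double_count [Finite Ω] (hG2 : IsMultiplyPretransitive G Ω 2)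
    (Γ : Set Ω) (h1 : 1 < Γ.ncard) (h2 : 2 * Γ.ncard ≤ Nat.card Ω)
    (x : Ω) (hsmall : ∀ a, a ≠ x → 2 * (sweep G Γ a x).ncard + 1 ≤ Nat.card Ω) : False := by
  classical
  have := Fintype.ofFinite Ω
  have hn : Nat.card Ω = Fintype.card Ω := Nat.card_eq_fintype_card
  obtain ⟨w₁, hw₁, w₂, hw₂, hw⟩ := (Set.one_lt_ncard Γ.toFinite).1 h1
  have htwo : ∀ {a b c d : Ω}, a ≠ b → c ≠ d → ∃ g : G, g • a = c ∧ g • b = d :=
    fun h h' => is_two_pretransitive_iff.1 hG2 h h'
  -- a point outside `Γ`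
  obtain ⟨w', hw'⟩ : ∃ w', w' ∉ Γ := by
    by_contra hcon
    push Not at hcon
    have h3 : Γ.ncard = Nat.card Ω := by
      rw [Set.eq_univ_of_forall hcon, Set.ncard_univ]
    omega
  let S : Ω → Ω → Prop := fun a y => y ≠ a ∧ y ∉ sweep G Γ a x
  let A : Finset Ω := Finset.univ.erase x
  have hA : A.card + 1 = Fintype.card Ω := by
    have := Finset.card_erase_add_one (Finset.mem_univ x)
    rwa [Finset.card_univ] at this
  -- fibres over `a`
  have hV : ∀ a ∈ A, Fintype.card Ω ≤ 2 * (A.bipartiteAbove S a).card + 1 := by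
    intro a ha
    have hax : a ≠ x := (Finset.mem_erase.1 ha).1
    have hs := hsmall a hax
    have hxsweep : x ∈ sweep G Γ a x := by
      obtain ⟨f, hfx, hfa⟩ := htwo (Ne.symm hax) (show w₁ ≠ w' from fun h => hw' (h ▸ hw₁))
      exact ⟨f, by rw [hfx]; exact hw₁, by rw [hfa]; exact hw', by rw [hfx]; exact hw₁⟩
    have hsub : (Finset.univ.erase a) ⊆ A.bipartiteAbove S a ∪
        (sweep G Γ a x).toFinite.toFinset := by
      intro y hy
      have hya := (Finset.mem_erase.1 hy).1
      simp only [Finset.mem_union, Set.Finite.mem_toFinset]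
      by_cases hys : y ∈ sweep G Γ a x
      · exact Or.inr hys
      · left
        refine Finset.mem_filter.2 ⟨?_, hya, hys⟩
        refine Finset.mem_erase.2 ⟨?_, Finset.mem_univ _⟩
        rintro rfl
        exact hys hxsweep
    have h3 := Finset.card_le_card hsub
    have h4 := Finset.card_union_le (A.bipartiteAbove S a) (sweep G Γ a x).toFinite.toFinset
    have h5 : (Finset.univ.erase a).card + 1 = Fintype.card Ω := by
      have := Finset.card_erase_add_one (Finset.mem_univ a)
      rwa [Finset.card_univ] at this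
    have h6 : (sweep G Γ a x).toFinite.toFinset.card = (sweep G Γ a x).ncard := by
      rw [Set.ncard_eq_toFinset_card _ (sweep G Γ a x).toFinite]
    omega
  -- fibres over `y`
  have hW : ∀ y ∈ A, (A.bipartiteBelow S y).card + 2 ≤ Γ.ncard := by
    intro y hy
    have hyx : y ≠ x := (Finset.mem_erase.1 hy).1
    obtain ⟨f, hfx, hfy⟩ := htwo (Ne.symm hyx) hw
    have hsubset : ∀ a ∈ A.bipartiteBelow S y, f • a ∈ Γ \ {w₁, w₂} := by
      intro a ha
      have ha1 := (Finset.mem_filter.1 ha).1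
      have ha2 := (Finset.mem_filter.1 ha).2
      have hax : a ≠ x := (Finset.mem_erase.1 ha1).1
      have hya : y ≠ a := ha2.1
      refine ⟨?_, ?_⟩
      · by_contra hfa
        exact ha2.2 ⟨f, by rw [hfx]; exact hw₁, hfa, by rw [hfy]; exact hw₂⟩
      · simp only [Set.mem_insert_iff, Set.mem_singleton_iff, not_or]
        constructor
        · intro h
          rw [← hfx] at h
          exact hax (MulAction.injective f h)
        · intro h
          rw [← hfy] at h
          exact hya (MulAction.injective f h).symm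
    have hc : (A.bipartiteBelow S y).card ≤ (Γ \ {w₁, w₂}).ncard := by
      rw [← Set.ncard_coe_finset]
      refine Set.ncard_le_ncard_of_injOn (fun a => f • a) (fun a ha => hsubset a (by simpa using ha))
        (fun a _ b _ hab => MulAction.injective f hab) (Set.toFinite _)
    have hc2 : (Γ \ {w₁, w₂}).ncard + 2 = Γ.ncard := by
      have h3 : ({w₁, w₂} : Set Ω) ⊆ Γ := by
        intro t ht
        simp only [Set.mem_insert_iff, Set.mem_singleton_iff] at ht
        rcases ht with rfl | rfl <;> assumption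
      have h4 := Set.ncard_sdiff_add_ncard_of_subset h3 (Set.toFinite _)
      rw [Set.ncard_pair hw] at h4
      exact h4
    omega
  have hsum := Finset.sum_card_bipartiteAbove_eq_sum_card_bipartiteBelow (s := A) (t := A) S
  have hlow : A.card * Fintype.card Ω ≤ 2 * (∑ a ∈ A, (A.bipartiteAbove S a).card) + A.card := by
    calc A.card * Fintype.card Ω = ∑ _a ∈ A, Fintype.card Ω := by simp
      _ ≤ ∑ a ∈ A, (2 * (A.bipartiteAbove S a).card + 1) := Finset.sum_le_sum hV
      _ = _ := by rw [Finset.sum_add_distrib, Finset.mul_sum]; simp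
  have hup : (∑ y ∈ A, (A.bipartiteBelow S y).card) + 2 * A.card ≤ A.card * Γ.ncard := by
    calc (∑ y ∈ A, (A.bipartiteBelow S y).card) + 2 * A.card
        = ∑ y ∈ A, ((A.bipartiteBelow S y).card + 2) := by
          rw [Finset.sum_add_distrib]; simp [mul_comm]
      _ ≤ ∑ _y ∈ A, Γ.ncard := Finset.sum_le_sum hW
      _ = _ := by simp
  rw [hsum] at hlow
  have hApos : 0 < A.card := by
    have : x ≠ w₁ ∨ x ≠ w₂ := by
      by_contra hcon
      push Not at hcon
      exact hw (hcon.1.symm.trans hcon.2)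
    rcases this with h | h
    · exact Finset.card_pos.2 ⟨w₁, Finset.mem_erase.2 ⟨h.symm, Finset.mem_univ _⟩⟩
    · exact Finset.card_pos.2 ⟨w₂, Finset.mem_erase.2 ⟨h.symm, Finset.mem_univ _⟩⟩
  rw [hn] at h2
  -- `A.card * n ≤ 2 Σ + A.card` and `Σ + 2 A.card ≤ A.card * m`, so `A.card * (n + 3) ≤ 2 * A.card * m`
  have hfin : A.card * (Fintype.card Ω + 3) ≤ A.card * (2 * Γ.ncard) := by
    nlinarith [hlow, hup]
  have := Nat.le_of_mul_le_mul_left hfin hApos
  omega

/-- S3707. -/
theorem three_transitive [Finite G] [Finite Ω] (hprim : IsPreprimitive G Ω) (Γ : Set Ω)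
    (h1 : 1 < Γ.ncard) (h2 : 2 * Γ.ncard ≤ Nat.card Ω)
    (htr : ∀ x ∈ Γ, ∀ y ∈ Γ, ∃ g : G, (∀ z ∉ Γ, g • z = z) ∧ g • x = y) :
    IsMultiplyPretransitive G Ω 3 := by
  classical
  have hne : Γ.Nonempty := (Set.ncard_pos Γ.toFinite).1 (by omega)
  have hcompl := Set.ncard_add_ncard_compl Γ
  -- 2-transitivity
  have hG2 : IsMultiplyPretransitive G Ω 2 := by
    obtain ⟨n, hn⟩ : ∃ n, Γᶜ.ncard = n + 1 := ⟨Γᶜ.ncard - 1, by omega⟩
    refine hprim.is_two_pretransitive (s := Γᶜ) hn (by omega) ⟨fun u v => ?_⟩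
    have hu : (u : Ω) ∈ Γ := by
      by_contra hcon
      exact u.2 hcon
    have hv : (v : Ω) ∈ Γ := by
      by_contra hcon
      exact v.2 hcon
    obtain ⟨g, hg, hguv⟩ := htr _ hu _ hv
    exact ⟨⟨g, fun z => hg z z.2⟩, Subtype.ext hguv⟩
  have hpt : IsPretransitive G Ω := isPretransitive_of_is_two_pretransitive (G := G)
  -- a point `a` outside `Γ`
  obtain ⟨a, ha⟩ : ∃ a, a ∉ Γ := by
    by_contra hcon
    push Not at hcon
    have h3 : Γ.ncard = Nat.card Ω := by
      rw [Set.eq_univ_of_forall hcon, Set.ncard_univ]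
    omega
  have hK : IsPretransitive (stabilizer G a) (SubMulAction.ofStabilizer G a) := by
    rw [← is_one_pretransitive_iff]
    exact (SubMulAction.ofStabilizer.isMultiplyPretransitive (n := 1)).1 hG2
  have hcard := SubMulAction.nat_card_ofStabilizer_add_one_eq G a
  obtain ⟨w, hw⟩ := hne
  have hwa : w ≠ a := fun h => ha (h ▸ hw)
  let x : SubMulAction.ofStabilizer G a := ⟨w, by simpa [SubMulAction.mem_ofStabilizer_iff] using hwa⟩
  -- primitivity of the stabiliser
  have hprim' : IsPreprimitive (stabilizer G a) (SubMulAction.ofStabilizer G a) := by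
    refine IsPreprimitive.of_isTrivialBlock_base x fun {B} hxB hB => ?_
    by_contra hcon
    rw [IsTrivialBlock, not_or] at hcon
    obtain ⟨hs, hu⟩ := hcon
    obtain ⟨y, hyB, hyx⟩ : ∃ y ∈ B, y ≠ x := by
      by_contra hcon
      push Not at hcon
      apply hs
      intro c hc d hd
      rw [hcon c hc, hcon d hd]
    have hsm := sweep_small hG2 Γ ⟨w, hw⟩ h2 htr hB hxB hyB hyx hu
    refine double_count hG2 Γ h1 h2 w fun a' ha' => ?_
    have := sweep_transport hG2 Γ (G := G) (a := a) (a' := a') (x := w) hwa.symm ha'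
    have h3 : 2 * (sweep G Γ a w).ncard + 1 ≤ Nat.card Ω := hsm
    omega
  -- apply the Jordan criterion to the stabiliser
  let s : Set (SubMulAction.ofStabilizer G a) := {u | (u : Ω) ∉ Γ}
  have hsc : s.ncard + Γ.ncard + 1 = Nat.card Ω := by
    have h3 : (Subtype.val '' s).ncard = s.ncard :=
      Set.ncard_image_of_injective _ Subtype.val_injective
    have h4 : Γᶜ = insert a (Subtype.val '' s) := by
      ext t
      simp only [Set.mem_compl_iff, Set.mem_insert_iff, Set.mem_image]
      constructor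
      · intro ht
        by_cases hta : t = a
        · exact Or.inl hta
        · exact Or.inr ⟨⟨t, by simpa [SubMulAction.mem_ofStabilizer_iff] using hta⟩, ht, rfl⟩
      · rintro (rfl | ⟨u, hu, rfl⟩)
        · exact ha
        · exact hu
    have h5 : a ∉ Subtype.val '' s := by
      rintro ⟨u, _, hu⟩
      exact SubMulAction.neq_of_mem_ofStabilizer G a hu
    rw [h4, Set.ncard_insert_of_notMem h5, h3] at hcompl
    omega
  obtain ⟨n, hn⟩ : ∃ n, s.ncard = n + 1 := ⟨s.ncard - 1, by omega⟩
  have hstab2 : IsMultiplyPretransitive (stabilizer G a) (SubMulAction.ofStabilizer G a) 2 := by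
    refine hprim'.is_two_pretransitive (s := s) hn (by omega) ⟨fun u v => ?_⟩
    have hu : ((u : SubMulAction.ofStabilizer G a) : Ω) ∈ Γ := by
      have := u.2
      rw [SubMulAction.mem_ofFixingSubgroup_iff] at this
      by_contra hcon
      exact this hcon
    have hv : ((v : SubMulAction.ofStabilizer G a) : Ω) ∈ Γ := by
      have := v.2
      rw [SubMulAction.mem_ofFixingSubgroup_iff] at this
      by_contra hcon
      exact this hcon
    obtain ⟨g, hg, hguv⟩ := htr _ hu _ hv
    refine ⟨⟨⟨g, hg a ha⟩, ?_⟩, ?_⟩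
    · intro z
      exact Subtype.ext (hg _ z.2)
    · exact Subtype.ext (Subtype.ext hguv)
  exact (SubMulAction.ofStabilizer.isMultiplyPretransitive (n := 2) (a := a)).2 hstab2

end Cfsg.Agent.Lib.Perm.JordanThree
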